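import Cfsg.Agent.H20.MinS
import Cfsg.Agent.H23.AC2
import Cfsg.Agent.H10.Congr

/-! The local structure of `L₂(2ⁿ)`. -/

set_option autoImplicit false
set_option linter.unusedSectionVars false
set_option linter.unusedVariables false
set_option linter.style.haveILetI false

namespace Cfsg.Agent.H20

open Cfsg Cfsg.Agent.FT Cfsg.Agent.GW Subgroup
open scoped MatrixGroups

theorem sq_of_comm_s2 {F : Type*} [Field F] (h2 : (2 : F) = 0) {t x : L0.S2 F} (ht : t * t = 1) (h1 : t ≠ 1)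
    (hc : x * t = t * x) : x ^ 2 = 1 := by
  refine L0.pj_injective h2 ?_
  rw [map_pow, map_one]
  refine L0.pj_sq_of_trace_zero ?_
  have e : (x : L0.M2 F) * t = t * (x : L0.M2 F) := congrArg (fun y : L0.S2 F => (y : L0.M2 F)) hc
  have f : (t : L0.M2 F) * t = 1 := congrArg (fun y : L0.S2 F => (y : L0.M2 F)) ht
  have e01 := congrFun (congrFun e 0) 1
  have e10 := congrFun (congrFun e 1) 0
  have f00 := congrFun (congrFun f 0) 0
  have f11 := congrFun (congrFun f 1) 1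
  have d := L0.s2_det t
  simp only [L0.m2_mul_apply, Matrix.one_apply_eq] at e01 e10 f00 f11
  have k : (t : L0.M2 F) 0 0 = (t : L0.M2 F) 1 1 := sub_eq_zero.1 (pow_eq_zero_iff two_ne_zero |>.1 (by
    linear_combination f00 + f11 - 2 * d - (2 * (t : L0.M2 F) 0 1 * (t : L0.M2 F) 1 0 - 0) * h2))
  rw [Matrix.trace_fin_two]
  by_contra h
  have k1 : (t : L0.M2 F) 0 1 = 0 := (mul_eq_zero.1 (by
    linear_combination e01 + (x : L0.M2 F) 0 1 * k + ((t : L0.M2 F) 0 1 * (x : L0.M2 F) 1 1) * h2)).resolve_right h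
  have k2 : (t : L0.M2 F) 1 0 = 0 := (mul_eq_zero.1 (by
    linear_combination e10 - (x : L0.M2 F) 1 0 * k + ((t : L0.M2 F) 1 0 * (x : L0.M2 F) 0 0) * h2)).resolve_right h
  have k3 : (t : L0.M2 F) 0 0 = 1 := sub_eq_zero.1 (pow_eq_zero_iff two_ne_zero |>.1 (by
    linear_combination f00 - (t : L0.M2 F) 1 0 * k1 + (1 - (t : L0.M2 F) 0 0) * h2))
  exact h1 (Subtype.ext (L0.m2_ext (by simpa using k3) (by simpa using k1) (by simpa using k2) (by simpa using k ▸ k3)))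

variable {G : Type*} [Group G] [Finite G] {A E H S T : Subgroup G} {g m u v x : G}

theorem abelem_of_sq (h : ∀ x ∈ A, x ^ 2 = 1) : Abelem 2 A :=
  abelem_iff.2 ⟨Inverts.ab (s := 1) fun x hx => by
    rw [one_mul, inv_one, mul_one, eq_inv_iff_mul_eq_one, ← sq, h x hx], h⟩

/-- involution centralisers are elementary abelian and all elements are real -/
structure ER (G : Type*) [Group G] : Prop where
  cen : ∀ t : G, orderOf t = 2 → Abelem 2 C[t]
  real : ∀ g : G, IsConj g g⁻¹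

theorem er_of_psl {F : Type*} [Field F] [Fintype F] (h2 : 2 ∣ Fintype.card F) (e : G ≃* PSL(2, F)) : ER G := by
  have h := L0.two_eq_zero_of_even h2
  let f := e.trans (L0.pjEquiv h).symm
  refine ⟨fun t (ht : Invo t) => abelem_of_sq fun x hx => f.injective ?_, real_of_psl h2 e⟩
  rw [map_pow, map_one]
  exact sq_of_comm_s2 h (t := f t) (by rw [← map_mul, ht.sq, map_one]) (by simpa using ht.ne)
    (by rw [← map_mul, mem_cen1.1 hx, map_mul])

theorem card_of_psl {F : Type*} [Field F] [Fintype F] (h2 : 2 ∣ Fintype.card F) (e : G ≃* PSL(2, F)) :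
    Nat.card G = Fintype.card F * (Fintype.card F ^ 2 - 1) :=
  (Nat.card_congr (e.trans (L0.pjEquiv (L0.two_eq_zero_of_even h2)).symm).toEquiv).trans L0.card_s2

theorem card_syl_of_psl {F : Type*} [Field F] [Fintype F] {n : ℕ} (hn : n ≠ 0) (h2 : Fintype.card F = 2 ^ n)
    (e : G ≃* PSL(2, F)) (hT : Syl 2 T ⊤) : #T = 2 ^ n := by
  refine eq_of_piNat_mul hT.pi hT.idx (piNat_self_pow Nat.prime_two n) (d := (2 ^ n) ^ 2 - 1) (p'nat_of_not_dvd fun k => ?_)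
    (by rw [card_mul_relIndex le_top, card_top, card_of_psl (h2 ▸ dvd_pow_self 2 hn) e, h2])
  have : 2 ∣ (2 ^ n) ^ 2 := (dvd_pow_self 2 hn).trans (dvd_pow_self _ two_ne_zero)
  have : 0 < (2 ^ n) ^ 2 := by positivity
  omega

theorem syl_ncyc [IsSimpleGroup G] (hs : ¬ Sol (⊤ : Subgroup G)) (hT : Syl 2 T ⊤) : ¬ Cyc T ∧ N(T) ≠ ⊤ :=
  have h : ¬ Cyc T := fun k => hs (sol_npc (npc_of_cyc hT k))
  ⟨h, nrm_ne_top (fun e => h (e ▸ cyc_bot)) fun e => hs (e ▸ hT.pi.sol)⟩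

namespace ER

variable (h : ER G)
include h

theorem ea [IsSimpleGroup G] (hs : ¬ Sol (⊤ : Subgroup G)) (hT : Syl 2 T ⊤) : H23.EA T :=
  ⟨hT, (syl_ncyc hs hT).1, (syl_ncyc hs hT).2, h.cen⟩

theorem sq (hu : PiElt {2} u) : u * u = 1 := by
  by_contra e
  obtain ⟨t, ht, h2⟩ := hu.zpowers.exists_elt (zpowers_ne_bot' fun k => e (by rw [k, one_mul]))
  exact e ((_root_.sq u).symm.trans ((h.cen t h2).pow ((ab_zpowers u).le_cen1 ht (mem_zpowers u))))

theorem abelem (hT : PGrp 2 T) : Abelem 2 T := abelem_of_sq fun x hx => (_root_.sq x).trans (h.sq (hT.piElt hx))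

theorem inverts (hv : Invo v) (hn : v ∈ N(A)) (ho : Odd #A) : Inverts v A := fun x hx => by
  obtain ⟨c, hc, y, -, e, rfl⟩ := exists_cen_mul_inv hv.sq hn ho hx
  rwa [eq_one_of_sq_odd ho hc.1 ((_root_.sq c).symm.trans ((h.cen v hv).pow hc.2)), one_mul]

theorem exists_inv (h1 : x ≠ 1) (ho : Odd (orderOf x)) : ∃ u, Invo u ∧ Inverts u C[x] := by
  obtain ⟨g, hg⟩ := isConj_iff.1 (h.real x)
  obtain ⟨u, -, ⟨j, hj⟩, hu⟩ := H27.exists_two_elt_inverts hg
  have k : Invo u := invo_of (h.sq (H27.pElt_of_orderOf Nat.prime_two hj)) fun e =>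
    h1 (eq_one_of_inv_comm ho hu (by rw [e, one_mul, mul_one]))
  exact ⟨u, k, h.inverts k (H27.mem_nrm_cen1_of_inverts hu) (odd_of_no_invo fun t ht h2 =>
    h1 (eq_one_of_sq ho ((_root_.sq x).symm.trans ((h.cen t h2).pow (cen1_comm.1 ht)))))⟩

theorem syl_zp (ho : Odd #E) (h1 : E ≠ ⊥) (hv : Invo v) (hn : v ∈ N(E)) : Syl 2 ⟪v⟫ N(E) := by
  obtain ⟨S, hS, hle⟩ := hv.pGrp.exists_syl (zpowers_le.2 hn)
  refine hle.antisymm (fun s hs => hv.mem_zpowers.2 (or_iff_not_imp_left.2 fun e => by_contra fun e' => ?_)) ▸ hS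
  have k := invo_of (h.sq (hS.pi.piElt hs)) e
  have k1 := k.mul hv ((h.abelem hS.pi).ab.comm hs (hle (mem_zpowers v))) e'
  obtain ⟨x, hx, x1⟩ := exists_ne_one h1
  exact x1 (eq_one_of_inv_comm (odd_orderOf ho hx) (h.inverts k1 (mul_mem (hS.le hs) hn) ho x hx)
    (((h.inverts k (hS.le hs) ho).mul_mem_cen (h.inverts hv hn ho)) x hx).symm)

theorem sd (ho : Odd #E) (h1 : E ≠ ⊥) (hv : Invo v) (hn : v ∈ N(E)) : SD Od(N(E)) ⟪v⟫ N(E) :=
  (npc_of_cyc (h.syl_zp ho h1 hv hn) (cyc_zpowers v)).sd (h.syl_zp ho h1 hv hn)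

theorem ab_odd (ho : Odd #H) : Ab H := by
  by_cases h1 : H = ⊥
  · exact h1 ▸ ab_bot
  obtain ⟨E, h2, hE⟩ := exists_minNml (M := H) h1 (le_nrm H)
  have h3 := odd_iff_p'.2 ((odd_iff_p'.1 ho).mono h2)
  obtain ⟨x, hx, x1⟩ := exists_ne_one hE.ne
  obtain ⟨u, hu, k⟩ := h.exists_inv x1 (odd_orderOf h3 hx)
  have hn := k.nrm ((hE.ab ((sol_odd ho).mono h2)).le_cen1 hx)
  exact (h.inverts hu ((pcore_nml _ _).nrm hn) (odd_core _)).ab.mono
    ((npc_of_cyc (h.syl_zp h3 hE.ne hu hn) (cyc_zpowers u)).hall.le_of_nml (pcore_nml _ _).nrm (odd_iff_p'.1 ho) hE.nrm)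

end ER

end Cfsg.Agent.H20
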