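import Cfsg.Agent.GW.Fin
import Cfsg.Agent.GW.Fin2
import Cfsg.Agent.H3.QD
import Cfsg.Agent.H3.Fus2

/-! Simple groups with a `2`-element whose centraliser has order not divisible by eight. -/

set_option autoImplicit false
set_option linter.unusedSectionVars false
set_option linter.unusedVariables false
set_option linter.style.haveILetI false

namespace Cfsg.Agent.H20

open Cfsg Cfsg.Agent.FT Cfsg.Agent.GW Subgroup

variable {G : Type*} [Group G] [Finite G] {S : Subgroup G} {a b w : G} {m : ℕ}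

theorem card_cen1_of_isConj (h : IsConj a b) : #C[a] = #C[b] := by
  obtain ⟨g, rfl⟩ := isConj_iff.1 h
  rw [← cj_cen1, card_cj]

/-- a simple group has no quaternion Sylow `2`-subgroup -/
theorem not_mcq [IsSimpleGroup G] (hs : ¬ Sol (⊤ : Subgroup G)) (hS : Syl 2 S ⊤) : ¬ H3.MCQ S a b m := fun h => by
  obtain ⟨g, hg⟩ := exists_fr_conj hs (t := a ^ 2 ^ (m - 1)) h.ord_z
  obtain ⟨k, hk, e⟩ := (hS.subl (le_cen1.2 h.z_cen) le_top).syl_Jsub hg.r.pGrp (zpowers_le.2 hg.mem)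
  have hf := hg.cj k
  rw [mul_inv_eq_iff_eq_mul.2 (mem_cen1.1 hk)] at hf
  exact hf.ne (h.eq_z_of_sq (e (mem_cj'.2 ⟨_, mem_zpowers _, rfl⟩)) ((sq _).trans hf.r.sq) hf.r.ne)

/-- in a semidihedral Sylow `2`-subgroup of a `2`-perfect group every element fuses into the cyclic subgroup -/
theorem mcs_fuse (h : H3.MCS S a b m) (hS : Syl 2 S ⊤) (h2 : No2 (⊤ : Subgroup G)) (hw : w ∈ S) :
    ∃ y ∈ ⟪a⟫, IsConj y w := by
  by_cases e : w ∈ ⟪a⟫
  · exact ⟨w, e, IsConj.refl w⟩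
  obtain ⟨h3, h4⟩ := h.oa_of_le_res hS (le_top.trans (H3.no_index_iff.1 fun H c =>
    h2 H le_top (by rwa [relIndex_top_right])).ge)
  by_cases c : w ^ 2 = 1
  · exact ⟨_, h.z_mem, h.cls2_one hS h3 ((h.toMC.out hw e).ord_b_two c)⟩
  · obtain ⟨g, -, rfl⟩ := h.conj_four hw e c
    exact ⟨_, h.y_mem, (h.ab.oa_eight h.three_le h4).1.trans (isConj_iff.2 ⟨g, rfl⟩)⟩

theorem dg_of_cen4 [IsSimpleGroup G] (hs : ¬ Sol (⊤ : Subgroup G)) (hw : PiElt {2} w) (h : ¬ 8 ∣ #C[w]) :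
    DG (⊤ : Subgroup G) := by
  obtain ⟨S, hS, hwS⟩ := hw.zpowers.exists_syl le_top
  rw [zpowers_le] at hwS
  obtain ⟨n, hn⟩ := hS.pi.card
  have hc : ¬ Cyc S := fun c => hs (sol_npc (npc_of_cyc hS c))
  obtain ⟨k, hk⟩ := (hS.pi.inf_left C[w]).card
  have h1 : k ≤ 2 := by_contra fun c => h ((Nat.pow_dvd_pow 2 (by omega : 3 ≤ k)).trans
    (hk ▸ card_dvd inf_le_right))
  have h2 : 2 ≤ n := by_contra fun c => hc (by
    interval_cases n
    · exact card_eq_one.1 hn ▸ cyc_bot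
    · exact cyc_of_prime (hn ▸ Nat.prime_two))
  obtain rfl | h3 := h2.eq_or_lt
  · obtain ⟨u, hu, u1⟩ := exists_ne_one (H := S) fun e => hc (e ▸ cyc_bot)
    refine (dh_of_four hn (fun x hx => by_contra fun c => hc ?_) hu u1).d2.dg hS
    have e1 := card_dvd (zpowers_le.2 hx)
    have e3 : ¬ #⟪x⟫ ∣ 2 := fun e => c (by rw [← sq, ← orderOf_dvd_iff_pow_eq_one, ← card_zpowers']; exact e)
    refine eq_of_card_eq (zpowers_le.2 hx) ?_ ▸ cyc_zpowers x
    rw [hn] at e1 ⊢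
    have := Nat.le_of_dvd (by norm_num) e1
    interval_cases #⟪x⟫ <;> simp_all
  obtain ⟨m, rfl⟩ : ∃ m, n = m + 1 := ⟨n - 1, by omega⟩
  obtain ⟨a, b, hm⟩ := (H3.maxCl_of_cen1' Nat.prime_two hn h2 hwS
    (hk ▸ Nat.pow_le_pow_right two_pos h1)).mc (by omega)
  obtain c | c | ⟨b', c⟩ := hm.cases
  · exact (dh_of_mcd c).d2.dg hS
  · exact (not_mcq hs hS c).elim
  · obtain ⟨y, hy, e⟩ := mcs_fuse c hS (no2_of_perfect (qs_of_simple hs).perf) hwS
    refine (h ?_).elim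
    rw [← card_cen1_of_isConj e]
    exact ((Nat.pow_dvd_pow 2 c.three_le).trans c.card_a.symm.dvd).trans
      (card_dvd ((cyc_zpowers a).ab.le_cen1 hy))

end Cfsg.Agent.H20
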