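import Mathlib
import Cfsg.Agent.H20.Simple
import Cfsg.Agent.H4.Residual

/-! Transfer into a subgroup controlling fusion. -/

set_option autoImplicit false

namespace Cfsg.Agent.H20

variable {G : Type*} [Group G]

theorem transfer_eq_pow_of_control [Finite G] {H : Subgroup G} {A : Type*} [CommGroup A]
    (φ : H →* A) (g : H)
    (key : ∀ (k : ℕ) (a : G) (h : a⁻¹ * (g : G) ^ k * a ∈ H), φ ⟨_, h⟩ = φ g ^ k) :
    MonoidHom.transfer φ g = φ g ^ H.index := by
  have : Fintype (Quotient (MulAction.orbitRel (Subgroup.zpowers (g : G)) (G ⧸ H))) :=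
    Fintype.ofFinite _
  rw [Subgroup.index_eq_sum_minimalPeriod H g, ← Finset.prod_pow_eq_pow_sum,
    MonoidHom.transfer_eq_prod_quotient_orbitRel_zpowers_quot]
  exact Finset.prod_congr rfl fun q _ => key _ _ _

/-- If `H` has index prime to `p` and controls the fusion of its `p`-elements then
`O^p(G) G' ∩ H = O^p(H) H'`. -/
theorem pResidual_sup_commutator_inf [Finite G] {p : ℕ} [Fact p.Prime] (H : Subgroup G)
    (hidx : Nat.Coprime p H.index)
    (hfus : ∀ g ∈ H, (∃ k : ℕ, orderOf g = p ^ k) → ∀ a : G, a * g * a⁻¹ ∈ H →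
      ∃ h ∈ H, h * g * h⁻¹ = a * g * a⁻¹) :
    (pResidual p G ⊔ commutator G) ⊓ H = (pResidual p ↥H ⊔ commutator ↥H).map H.subtype := by
  apply le_antisymm
  · intro g hg'
    obtain ⟨hg, hgH⟩ := Subgroup.mem_inf.mp hg'
    set K := pResidual p ↥H ⊔ commutator ↥H with hK
    haveI : K.Normal := inferInstance
    have hKp : IsPGroup p (H ⧸ K) := H4.isPGroup_quotient_of_pResidual_le K le_sup_left
    haveI : IsMulCommutative (H ⧸ K) :=
      Subgroup.Normal.quotient_commutative_iff_commutator_le.mpr le_sup_right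
    letI : CommGroup (H ⧸ K) := { (inferInstance : Group (H ⧸ K)) with
      mul_comm := fun a b => (‹IsMulCommutative (H ⧸ K)›).is_comm.comm a b }
    have hker : pResidual p G ⊔ commutator G ≤ (MonoidHom.transfer (QuotientGroup.mk' K)).ker :=
      sup_le (H4.pResidual_le_ker hKp _) (Abelianization.commutator_subset_ker _)
    obtain ⟨a, b, ha, hb, hab, ⟨k, hk⟩, hbo⟩ := H4.exists_part_decomp p (⟨g, hgH⟩ : H)
    have hbK : b ∈ K := Subgroup.mem_sup_left (H4.mem_pResidual hbo)
    have haG : (a : G) ∈ pResidual p G ⊔ commutator G := by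
      obtain ⟨n, rfl⟩ := ha
      exact zpow_mem hg n
    have h1 := transfer_eq_pow_of_control (QuotientGroup.mk' K) a (by
      intro m x hx
      have h2 : ∃ k, orderOf ((a : G) ^ m) = p ^ k := by
        have h3 : ((a : G) ^ m) ^ p ^ k = 1 := by
          rw [← pow_mul, mul_comm, pow_mul]
          have : (a : G) ^ p ^ k = 1 := by exact_mod_cast congrArg Subtype.val hk
          rw [this, one_pow]
        obtain ⟨j, -, hj⟩ := (Nat.dvd_prime_pow Fact.out).mp (orderOf_dvd_of_pow_eq_one h3)
        exact ⟨j, hj⟩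
      obtain ⟨h, hh, e⟩ := hfus _ (pow_mem a.2 m) h2 x⁻¹ (by simpa using hx)
      have : (⟨_, hx⟩ : H) = ⟨h, hh⟩ * a ^ m * ⟨h, hh⟩⁻¹ := Subtype.ext (by simpa using e.symm)
      rw [this, map_mul, map_mul, map_inv, mul_inv_cancel_comm, map_pow])
    rw [hker haG] at h1
    have h4 : QuotientGroup.mk' K a = 1 := by
      apply H4.eq_one_of_isPGroup_of_coprime hKp
      exact (Nat.Coprime.coprime_dvd_right (orderOf_dvd_of_pow_eq_one h1.symm) hidx).symm
    exact ⟨_, hab ▸ mul_mem ((QuotientGroup.eq_one_iff a).mp h4) hbK, rfl⟩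
  · rw [Subgroup.map_sup]
    refine sup_le (le_inf ((H4.map_pResidual_le p H.subtype).trans le_sup_left)
      (Subgroup.map_subtype_le _)) (le_inf ?_ (Subgroup.map_subtype_le _))
    refine le_trans ?_ le_sup_right
    rw [commutator, Subgroup.map_commutator]
    exact Subgroup.commutator_mono le_top le_top

theorem pResidual_eq_top_of_sup_commutator [Finite G] {p : ℕ} [Fact p.Prime]
    (h : pResidual p G ⊔ commutator G = ⊤) : pResidual p G = ⊤ := by
  by_contra hne
  obtain ⟨M, hM, hMi⟩ := exists_index_eq_of_isPGroup_quotient _ hne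
    (H4.isPGroup_quotient_pResidual p)
  have h1 := H4.isPGroup_quotient_pResidual (G := G) p
  haveI := h1.isNilpotent
  have h2 : commutator (G ⧸ pResidual p G) = ⊤ := by
    rw [← Subgroup.map_top_of_surjective _ (QuotientGroup.mk'_surjective (pResidual p G)), ← h,
      Subgroup.map_sup, QuotientGroup.map_mk'_self, bot_sup_eq, commutator, commutator,
      Subgroup.map_commutator,
      Subgroup.map_top_of_surjective _ (QuotientGroup.mk'_surjective (pResidual p G))]
  haveI : Nontrivial (G ⧸ pResidual p G) := QuotientGroup.nontrivial_iff.mpr hne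
  exact (Group.IsSolvable.commutator_lt_top_of_nontrivial _).ne h2

theorem pResidual_eq_top_iff_index [Finite G] {p : ℕ} [Fact p.Prime] :
    pResidual p G = ⊤ ↔ ∀ H : Subgroup G, H.Normal → H.index ≠ p := by
  constructor
  · intro h H hH hi
    have h1 : pResidual p G ≤ H := H4.pResidual_le_of_isPGroup_quotient H
      (IsPGroup.of_card (n := 1) (by rw [pow_one]; exact hi))
    rw [h, top_le_iff] at h1
    rw [h1, Subgroup.index_top] at hi
    exact (Fact.out : p.Prime).one_lt.ne hi
  · intro h
    by_contra hne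
    have h1 := H4.isPGroup_quotient_pResidual (G := G) p
    haveI : Nontrivial (G ⧸ pResidual p G) := QuotientGroup.nontrivial_iff.mpr hne
    obtain ⟨M, hM, -⟩ := (eq_top_or_exists_le_coatom (⊥ : Subgroup (G ⧸ pResidual p G))).resolve_left
      bot_ne_top
    haveI := h1.isNilpotent
    haveI : M.Normal := Subgroup.NormalizerCondition.normal_of_coatom M
      Group.normalizerCondition_of_isNilpotent hM
    obtain ⟨L, hML, hL⟩ := exists_index_eq_of_isPGroup_quotient M hM.1 (h1.to_quotient M)
    have hLM : L = M := by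
      by_contra hne
      rw [hM.2 L (lt_of_le_of_ne hML (Ne.symm hne)), Subgroup.index_top] at hL
      exact (Fact.out : p.Prime).one_lt.ne hL
    refine h (M.comap (QuotientGroup.mk' _)) inferInstance ?_
    rw [Subgroup.index_comap_of_surjective _ (QuotientGroup.mk'_surjective _), ← hLM, hL]

theorem pResidual_two_eq_top_iff [Finite G] :
    pResidual 2 G = ⊤ ↔ ∀ H : Subgroup G, H.index ≠ 2 :=
  pResidual_eq_top_iff_index.trans
    ⟨fun h H hi => h H (Subgroup.normal_of_index_eq_two hi) hi, fun h H _ => h H⟩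

end Cfsg.Agent.H20
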