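import Cfsg.Agent.JR.Ord
import Cfsg.Agent.GO.Fs
import Cfsg.Agent.H20.L2e
import Cfsg.Agent.H20.Simple
import Cfsg.Agent.H28.Cls
import Cfsg.Agent.S0089
import Cfsg.Agent.S0143

/-! Groups with abelian Sylow `2`-subgroups and a `2`-complement; class sizes in `A`-groups. -/

set_option autoImplicit false
set_option linter.unusedSectionVars false
set_option linter.unusedVariables false
set_option linter.style.haveILetI false

namespace Cfsg.Agent.H20

open Cfsg Cfsg.Agent.FT Cfsg.Agent.GW Cfsg.Agent.GO Subgroup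
open scoped MatrixGroups

universe u

theorem compl_simple {G : Type u} [Group G] [Finite G] [IsSimpleGroup G] {S H : Subgroup G} (nab : ¬ IsMulCommutative G)
    (hS : Syl 2 S ⊤) (hA : Ab S) (hH : Hall {2}ᶜ H ⊤) (ih : ∀ C : Subgroup G, S ≤ C → C ≠ ⊤ → Sol C) : False := by
  have e : H.index = #S := by
    rw [← relIndex_top_right, hH.relIndex_eq, compl_compl, hS.card]
  have h0 : H ≠ ⊤ := fun k => syl_ne nab hS (eq_bot_iff_card'.2 (by rw [← e, k, index_top]))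
  obtain h | h | h := gs_ab GO.fs nab hS hA
  · obtain ⟨F, _, _, ⟨n, h1, h2⟩, ⟨f⟩⟩ := JR.tb_ab h hS hA
    have h3 := (er_of_psl (h2 ▸ dvd_pow_self 2 (by omega)) f).ab_odd (odd_iff_p'.2 hH.pi)
    have h4 : H ≠ ⊥ := fun k => nsol_top nab (((hall_compl_compl.2 hS).mulEq (hall_compl_compl.2 hH)).sup ▸ by
      rw [k, sup_bot_eq]; exact hA.sol)
    obtain ⟨x, hx, x1⟩ := exists_ne_one h4
    obtain ⟨k, hk⟩ := hS.pi.card
    obtain ⟨j, -, hj⟩ := (Nat.dvd_prime_pow Nat.prime_two).1 (hk ▸ e ▸ index_dvd_of_le (h3.le_cen1 hx))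
    exact nab (isCyclic_of_prime_card (p := Nat.card G) (hp := ⟨S0143.result 2 j Nat.prime_two x x1 hj⟩)
      rfl).isMulCommutative
  · obtain ⟨T, h1, h2⟩ := h.syl
    have := simple_five_le_index nab h0
    rw [e, hS.card_eq h1, h2] at this
    omega
  · obtain ⟨t, ht, h1⟩ := exists_invo (hS.pi.dvd (syl_ne nab hS))
    obtain ⟨-, L, h2, h3, -⟩ := h.loc t h1
    exact kl_not_sol (h3.elim TB.simple TL.simple) (h3.elim TB.nab TL.nab)
      ((ih _ (hA.le_cen1 ht) (simple_cent_ne_top nab h1.ne)).mono h2.le)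

theorem sol_of_compl (n : ℕ) : ∀ {G : Type u} [Group G] [Finite G] {M S H : Subgroup G}, #M = n → Syl 2 S M → Ab S →
    Hall {2}ᶜ H M → Sol M := by
  induction n using Nat.strong_induction_on with
  | _ n ih =>
  intro G _ _ M S H hn hS hA hH
  by_cases h0 : M = ⊥
  · exact h0 ▸ sol_bot
  by_cases h1 : ∀ N, N ⊴ M → N = ⊥ ∨ N = M
  · by_contra hs
    haveI : Nontrivial M := (nontrivial_iff_ne_bot M).2 h0
    haveI : IsSimpleGroup M := ⟨fun N hN => (h1 _ (nml_map_subtype N)).imp (fun e => (map_eq_bot_iff_of_injective _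
      M.subtype_injective).1 e) fun e => by rw [← so_map N, e, subgroupOf_self]⟩
    have hS' := (hall_so_top hS.le).2 hS
    have hH' := (hall_so_top hH.le).2 hH
    refine compl_simple (fun k => hs ((ab_top.2 k).of_equiv topEquiv).sol) hS' (hA.so hS.le) hH' fun C h2 h3 => ?_
    have h4 := ((hS'.mulEq hH').inf_left h2)
    rw [inf_top_eq] at h4
    exact ih _ (by rw [← hn, ← card_top' (G := M)]; exact card_lt (lt_top_iff_ne_top.2 h3)) rfl (hS'.subl h2 le_top)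
      (hA.so hS.le) (h4.hall_right hS'.pi (hH'.pi.inf_right _))
  push Not at h1
  obtain ⟨N, h2, h3, h4⟩ := h1
  exact sol_of_quo h2.nrm (ih _ (hn ▸ card_lt (lt_of_le_of_ne h2.le h4)) rfl (hS.inf_nml h2) (hA.mono inf_le_left)
    (hH.inf_nml h2)) (ih _ (hn ▸ card_quo_lt h2 h3) rfl (hS.quo h2.nrm) (hA.quo N) (hH.quo h2.nrm))

variable {G : Type u} [Group G] [Finite G] {K L S T : Subgroup G} {x y : G}

theorem der_inf_center (h : ∀ p P, p.Prime → PGrp p P → P ≤ K → Ab P) : ⁅K, K⁆ ⊓ Z(K) = ⊥ := by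
  have := S0089.result (G := K) fun p hp P => (h p _ hp (syl_map_subtype hp P).pi (map_subtype_le _)).of_equiv
    (subtypeEquiv _).symm
  rw [der_eq_map, center_eq_map, ← map_inf _ _ _ K.subtype_injective, this, Subgroup.map_bot]

theorem sol_of_odd_cls (h : ∀ y ∈ L, ∃ T, Syl 2 T L ∧ T ≤ C[y]) : Sol L := by
  obtain ⟨S, hS⟩ := exists_syl 2 L
  refine sol_npc (npc_of_syl_center hS ?_)
  have := H28.jordan_cover (G := L) (H := C(S).subgroupOf L) fun y => by
    obtain ⟨T, h1, h2⟩ := h y y.2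
    obtain ⟨g, hg, rfl⟩ := h1.syl_trans hS
    refine ⟨⟨g, hg⟩, mem_subgroupOf.2 ?_⟩
    rw [← cj_cen]
    exact conj_mem_cj.2 (le_cen1.1 h2)
  exact subgroupOf_eq_top.1 this

theorem agroup_sol (hA : ∀ p P, p.Prime → PGrp p P → Ab (G := G) P) {a : ℕ} (hmax : ∀ y : G, ¬ 2 ^ (a + 1) ∣ C[y].index)
    (hx : C[x].index = 2 ^ a) : Sol (⊤ : Subgroup G) := by
  set K := C[x].normalCore with hK
  have hn : K ⊴ ⊤ := nml_top_iff.2 inferInstance
  have hl : K ≤ C[x] := normalCore_le _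
  have h1 (T) (hT : PGrp 2 T) (hc : T ≤ C[x]) : T ≤ K := by
    obtain ⟨S, hS, h2⟩ := hT.exists_syl (M := ⊤) le_top
    have h3 := hS.mulEq_of_relIndex' (R := C[x]) le_top (by
      rw [relIndex_top_right, hx]; exact piNat_self_pow Nat.prime_two a)
    intro g hg b
    obtain ⟨c, h4, s, h5, rfl⟩ := h3.mul b trivial
    have := (hA 2 S Nat.prime_two hS.pi).comm h5 (h2 hg)
    rw [show c * s * g * (c * s)⁻¹ = c * (s * g * s⁻¹) * c⁻¹ by group, this, mul_inv_cancel_right]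
    exact mul_mem (mul_mem h4 (hc hg)) (inv_mem h4)
  obtain ⟨S, hS⟩ := exists_syl 2 (⊤ : Subgroup G)
  have h2 : Sol (⊤ /ₛ K) := by
    obtain ⟨T, hT⟩ := exists_syl 2 C[x]
    refine sol_of_compl _ rfl (hS.quo hn.nrm) ((hA 2 S Nat.prime_two hS.pi).quo K) (H := C[x] /ₛ K)
      ⟨quo_mono K le_top, (piGrp_quo_iff (le_top.trans hn.nrm)).2 (hT.relIndex_of_le (h1 T hT.pi hT.le)), ?_⟩
    rw [relIndex_quo_of_nml (hn.mono hl le_top) hn.nrm, relIndex_top_right, hx, compl_compl]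
    exact piNat_self_pow Nat.prime_two a
  refine sol_of_quo hn.nrm (sol_of_der (sol_of_odd_cls fun y hy => ?_)) h2
  have h3 : C[x * y] ≤ C[x] ⊓ C[y] := fun t ht => by
    have e : x⁻¹ * (t * x * t⁻¹) = y * (t * y * t⁻¹)⁻¹ := by
      have := mem_cen1.1 ht
      calc _ = x⁻¹ * (t * (x * y)) * (y⁻¹ * t⁻¹) := by group
        _ = _ := by rw [this]; group
    have h4 : y * (t * y * t⁻¹)⁻¹ ∈ ⁅K, K⁆ := mul_mem hy (inv_mem (hn.der.conj_mem trivial hy))
    have h5 : x⁻¹ * (t * x * t⁻¹) ∈ C(K) := mul_mem (inv_mem (le_cen1.1 hl)) (le_cen1.1 fun k hk => by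
      rw [← cj_cen1, mem_cj]; simpa using hk t⁻¹)
    have h6 := eq_one_of_mem_inf (der_inf_center (K := K) fun p P hp hP _ => hA p P hp hP) h4 ⟨der_le K h4, e ▸ h5⟩
    refine ⟨mem_cen1.2 ?_, mem_cen1.2 ?_⟩
    · rw [← e, inv_mul_eq_one] at h6
      exact mul_inv_eq_iff_eq_mul.1 h6.symm
    · rw [mul_inv_eq_one] at h6
      exact mul_inv_eq_iff_eq_mul.1 h6.symm
  obtain ⟨T, hT⟩ := exists_syl 2 C[x * y]
  have h4 : C[x * y] ≤ C[x] := h3.trans inf_le_left
  have h5 : Syl 2 T C[x] := hT.of_relIndex h4 (p'nat_of_not_dvd fun h => hmax (x * y) (by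
    rw [← relIndex_mul_index h4, hx, pow_succ']; exact Nat.mul_dvd_mul_right h _))
  exact ⟨_, (h5.subl (h1 T hT.pi h5.le) hl).inf_nml (der_nml K), inf_le_left.trans (hT.le.trans (h3.trans inf_le_right))⟩

end Cfsg.Agent.H20
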