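import Cfsg.Agent.H10.Am0

/-! The amalgam of two copies of `3² : GL₂(3)`: the common centraliser of `b` and `t`. -/

set_option autoImplicit false

namespace Cfsg.Agent.H10.Am

open Subgroup

universe u

variable {G : Type u} [Group G] {a b z t s m n : G}

theorem pCt_ba (h : AC a b z t s) (i : ℤ) : b * a ^ i * b⁻¹ = a ^ i * z ^ (-i) := by
  have e : b * a * b⁻¹ = a * z⁻¹ := by
    rw [← h.ab]
    have c : a * (a * b * a⁻¹ * b⁻¹) = a * b * a⁻¹ * b⁻¹ * a := by rw [h.ab, h.az]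
    have : a * (a * b * a⁻¹ * b⁻¹)⁻¹ = (a * b * a⁻¹ * b⁻¹)⁻¹ * a := (Commute.inv_right c).eq
    rw [this]; group
  rw [← conj_zpow, e, (Commute.inv_right h.az).mul_zpow, inv_zpow, zpow_neg]

theorem pCt_nf (h : AC a b z t s) {g : G} (hg : g ∈ closure ({a, b, z, t, s} : Set G)) :
    ∃ i j k : ℤ, ∃ v, (v = 1 ∨ v = t ∨ v = s ∨ v = t * s) ∧ g = a ^ i * b ^ j * z ^ k * v := by
  have ca : Commute a z := h.az
  have cb : Commute b z := h.bz
  have step : ∀ x ∈ ({a, b, z, t, s} : Set G), ∀ y, (∃ i j k : ℤ, ∃ v, (v = 1 ∨ v = t ∨ v = s ∨ v = t * s) ∧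
      y = a ^ i * b ^ j * z ^ k * v) → ∃ i j k : ℤ, ∃ v, (v = 1 ∨ v = t ∨ v = s ∨ v = t * s) ∧
      x * y = a ^ i * b ^ j * z ^ k * v := by
    rintro x hx _ ⟨i, j, k, v, hv, rfl⟩
    rcases hx with e | e | e | e | e <;> rw [e]
    · exact ⟨1 + i, j, k, v, hv, by group⟩
    · refine ⟨i, 1 + j, -i + k, v, hv, ?_⟩
      calc _ = (b * a ^ i * b⁻¹) * b ^ (1 + j) * z ^ k * v := by group
        _ = _ := by
          rw [pCt_ba h, mul_assoc (a ^ i), ← (cb.zpow_zpow (1 + j) (-i)).eq]; group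
    · refine ⟨i, j, 1 + k, v, hv, ?_⟩
      rw [← mul_assoc, ← mul_assoc, ← ((ca.zpow_left i).mul_left (cb.zpow_left j)).eq]; group
    · refine ⟨-i, j, -k, t * v, ?_, ?_⟩
      · rcases hv with rfl | rfl | rfl | rfl <;> simp [h.tt, ← mul_assoc]
      · calc _ = (t * a ^ i * t⁻¹) * (t * b ^ j * t⁻¹) * (t * z ^ k * t⁻¹) * (t * v) := by group
          _ = _ := by
            rw [← conj_zpow, ← conj_zpow, ← conj_zpow, h.ta, h.tz, h.tb, mul_inv_cancel_right]; group
    · refine ⟨i, -j, -k, s * v, ?_, ?_⟩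
      · rcases hv with rfl | rfl | rfl | rfl
        · simp
        · simp [h.ts]
        · simp [h.ss]
        · rw [h.ts, ← mul_assoc, h.ss]; simp
      · calc _ = (s * a ^ i * s⁻¹) * (s * b ^ j * s⁻¹) * (s * z ^ k * s⁻¹) * (s * v) := by group
          _ = _ := by
            rw [← conj_zpow, ← conj_zpow, ← conj_zpow, h.sb, h.sz, h.sa, mul_inv_cancel_right]; group
  induction hg using closure_induction_left with
  | one => exact ⟨0, 0, 0, 1, .inl rfl, by simp⟩
  | mul_left x hx y _ ih => exact step x hx y ih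
  | inv_mul_cancel x hx y _ ih =>
    have e : x⁻¹ = x * x ∨ x⁻¹ = x := by
      rcases hx with e | e | e | e | e <;> rw [e]
      exacts [.inl (inv_eq_of_mul_eq_one_left h.a3), .inl (inv_eq_of_mul_eq_one_left h.b3),
        .inl (inv_eq_of_mul_eq_one_left h.z3), .inr (inv_eq_of_mul_eq_one_left h.tt),
        .inr (inv_eq_of_mul_eq_one_left h.ss)]
    rcases e with e | e <;> rw [e]
    · rw [mul_assoc]; exact step x hx _ (step x hx y ih)
    · exact step x hx y ih

theorem pCt_z (h : AC a b z t s) (hz : z ≠ 1) {g : G} (hg : g ∈ closure ({a, b, z, t, s} : Set G))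
    (c1 : Commute g z) (c2 : Commute g (t * s)) : g ∈ zpowers z ⊔ zpowers (t * s) := by
  have ca : Commute a z := h.az
  have cb : Commute b z := h.bz
  obtain ⟨i, j, k, v, hv, rfl⟩ := pCt_nf h hg
  have cx : Commute (a ^ i * b ^ j * z ^ k) z :=
    ((ca.zpow_left i).mul_left (cb.zpow_left j)).mul_left ((Commute.refl z).zpow_left k)
  have cv : Commute v z := by have := cx.inv_left.mul_left c1; rwa [inv_mul_cancel_left] at this
  have nz : z⁻¹ ≠ z := fun e => hz (by rw [← h.z3, mul_eq_one_iff_inv_eq.2 e, one_mul])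
  have hv' : v = 1 ∨ v = t * s := by
    rcases hv with e | e | e | e
    · exact .inl e
    · exact (nz (by rw [← h.tz, ← e, cv.eq, mul_inv_cancel_right])).elim
    · exact (nz (by rw [← h.sz, ← e, cv.eq, mul_inv_cancel_right])).elim
    · exact .inr e
  have cr : Commute (a ^ i * b ^ j * z ^ k) (t * s) := by
    rcases hv' with rfl | rfl
    · simpa using c2
    · have := c2.mul_left (Commute.refl _).inv_left; rwa [mul_inv_cancel_right] at this
  have ra : t * s * a * (t * s)⁻¹ = a⁻¹ := by rw [← h.ta, mul_assoc t, h.sa]; group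
  have rb : t * s * b * (t * s)⁻¹ = b⁻¹ := by rw [← h.sb, h.ts, mul_assoc s, h.tb]; group
  have rz : t * s * z * (t * s)⁻¹ = z := by
    calc _ = t * (s * z * s⁻¹) * t⁻¹ := by group
      _ = z := by rw [h.sz, ← conj_inv, h.tz, inv_inv]
  have e1 : a⁻¹ ^ i * b⁻¹ ^ j * z ^ k = a ^ i * b ^ j * z ^ k := by
    conv_lhs => rw [← ra, ← rb, ← rz, conj_zpow, conj_zpow, conj_zpow, conj_mul, conj_mul, ← cr.eq,
      mul_inv_cancel_right]
  have e2 : a ^ (2 * i) = b ^ (-(2 * j)) := by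
    rw [mul_left_inj] at e1
    calc _ = a ^ i * (a ^ i * b ^ j) * b ^ (-j) := by group
      _ = _ := by rw [← e1]; group
  have e3 := pCt_ba h (2 * i)
  rw [show b * a ^ (2 * i) * b⁻¹ = a ^ (2 * i) by rw [e2]; group, left_eq_mul] at e3
  have o3 : orderOf z = 3 := orderOf_eq_prime (by rw [pow_three', h.z3]) hz
  obtain ⟨l, rfl⟩ : (3 : ℤ) ∣ i := by
    have := orderOf_dvd_iff_zpow_eq_one.2 e3
    rw [o3] at this
    omega
  have a3 : a ^ (3 : ℤ) = 1 := by rw [zpow_ofNat, pow_three', h.a3]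
  have b3 : b ^ (3 : ℤ) = 1 := by rw [zpow_ofNat, pow_three', h.b3]
  have e4 : b ^ j = 1 := by
    calc _ = b ^ (-(2 * j)) * (b ^ (3 : ℤ)) ^ j := by group
      _ = 1 := by rw [← e2, b3, mul_left_comm, zpow_mul, a3]; simp
  rw [zpow_mul, a3, e4, one_zpow, one_mul, one_mul]
  refine mul_mem_sup ⟨k, rfl⟩ ?_
  rcases hv' with rfl | rfl
  exacts [one_mem _, mem_zpowers _]

theorem pCt (h : AM a b z t s m n) (hz : z ≠ 1) (hN : ∀ g, Commute g z → g ∈ closure ({a, b, z, t, s} : Set G)) :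
    ∀ g, Commute g b → Commute g t → g ∈ zpowers b ⊔ zpowers t := by
  intro g c1 c2
  have d1 : Commute (n * g * n⁻¹) z := h.nb ▸ c1.map (MulAut.conj n)
  have d2 : Commute (n * g * n⁻¹) (t * s) := h.nt ▸ c2.map (MulAut.conj n)
  have := pCt_z h.toAC hz (hN _ d1) d1 d2
  rw [← h.nt] at this
  conv at this => rw [← h.nb]
  have e := mem_map_of_mem (MulAut.conj n⁻¹).toMonoidHom this
  rw [Subgroup.map_sup, MonoidHom.map_zpowers, MonoidHom.map_zpowers] at e
  simpa [mul_assoc] using e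

end Cfsg.Agent.H10.Am
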