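import Mathlib
import Cfsg.Agent.H20.CN4

/-! Reduction of the CN-theorem to the nonexistence of Frobenius partitions. -/

set_option autoImplicit false

namespace Cfsg.Agent.H20

open Subgroup Cfsg.Agent.H18 Cfsg.Agent.H22

universe u

/-- Peterfalvi (7.11), for index types in `Type u`. -/
def NoFrobPartition : Prop :=
  ∀ (G : Type u) [Group G] [Finite G], Odd (Nat.card G) → ∀ (ι : Type u) [Fintype ι],
    2 ≤ Fintype.card ι → ∀ (L H : ι → Subgroup G), (∀ i, H i < L i) → (∀ i, H i ≠ ⊥) →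
    (∀ i, ∀ x ∈ L i, ∀ h ∈ H i, x * h * x⁻¹ ∈ H i) →
    (∀ i, ∀ h ∈ H i, h ≠ 1 → L i ⊓ centralizer ({h} : Set G) ≤ H i) →
    (∀ i j, i ≠ j → Nat.Coprime (Nat.card (H i)) (Nat.card (H j))) →
    (∀ i, IsTISubset (H i : Set G) ∧ normalizer (H i : Set G) = L i) →
    (∀ g : G, g ≠ 1 → ∃ i, ∃ x : G, x * g * x⁻¹ ∈ H i) → False

theorem ms_cn_false (h : NoFrobPartition.{u}) {G : Type u} [Group G] [Finite G]
    (hG : IsMinSimpleOddOrder G) (hCN : IsCNGroup G) : False := by
  classical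
  let s : Setoid {H : Subgroup G // MaxNil H} :=
    ⟨fun H K => ∃ g, K.1 = cj g H.1, fun H => ⟨1, by simp⟩,
      fun ⟨g, hg⟩ => ⟨g⁻¹, by rw [hg]; simp⟩,
      fun ⟨g, hg⟩ ⟨g', hg'⟩ => ⟨g' * g, by rw [hg', hg, cj_mul]⟩⟩
  letI : Fintype (Quotient s) := Fintype.ofFinite _
  have hcov : ∀ K : Subgroup G, Group.IsNilpotent K →
      ∃ (i : Quotient s) (g : G), cj g K ≤ i.out.1 := by
    intro K hK
    obtain ⟨L, hL, hle⟩ := exists_maxNil hK
    obtain ⟨g, hg⟩ := s.symm (Quotient.mk_out (s := s) ⟨L, hL⟩)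
    exact ⟨Quotient.mk s ⟨L, hL⟩, g, hg ▸ cj_mono g hle⟩
  refine h G hG.1 (Quotient s) ?_ (fun i => N[i.out.1]) (fun i => i.out.1)
    (fun i => lt_of_le_of_ne le_normalizer (ms_N_ne_self hG hCN i.out.2).symm)
    (fun i => ms_maxNil_ne_bot hG i.out.2) (fun i x hx y hy => conj_mem_of_N hx hy)
    (fun i x hx h1 => inf_le_right.trans (i.out.2.cent_le hCN (ms_TI hG hCN i.out.2) hx h1))
    (fun i j hij => ?_) (fun i => ⟨fun g hg x hx hx' => ?_, rfl⟩) fun g _ => ?_
  · by_contra hc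
    have hs : Subsingleton (Quotient s) := Fintype.card_le_one_iff_subsingleton.1 (by omega)
    obtain ⟨i, -, -⟩ := hcov ⊥ inferInstance
    haveI := i.out.2.1
    refine ms_ne_top hG (H := i.out.1) inferInstance (eq_top_of_le_card _ (Nat.le_of_dvd
      (card_pos' _) ?_))
    rw [Nat.dvd_iff_prime_pow_dvd_dvd]
    intro p n hp hd
    haveI : Fact p.Prime := ⟨hp⟩
    obtain ⟨K, hK⟩ := Sylow.exists_subgroup_card_pow_prime p hd
    obtain ⟨j, g, h⟩ := hcov K (pgrp_nilp (IsPGroup.of_card hK))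
    have := card_dvd_of_le h
    rwa [card_cj, hK, Subsingleton.elim j i] at this
  · refine (i.out.2.conj_or_coprime hCN j.out.2).resolve_left fun e => hij ?_
    rw [← i.out_eq, ← j.out_eq]
    exact Quotient.sound e
  · have := ms_TI hG hCN i.out.2 g⁻¹ fun e => hg (inv_mem_iff.1 (mem_N_iff_cj.2 e))
    exact (this.le ⟨hx, mem_cj.2 (by simpa using hx')⟩ : x ∈ (⊥ : Subgroup G))
  · obtain ⟨i, x, h⟩ := hcov (zpowers g) (nil_of_commute fun _ _ _ _ _ a ha b hb _ _ =>
      mem_C.1 (isMulComm_iff.1 inferInstance hb) a ha)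
    exact ⟨i, x, h (conj_mem_cj (mem_zpowers g))⟩

theorem cn_odd_solvable_aux (h : NoFrobPartition.{u}) (n : ℕ) :
    ∀ {G : Type u} [Group G] [Finite G], Nat.card G = n → Odd (Nat.card G) → IsCNGroup G →
      Group.IsSolvable G := by
  induction n using Nat.strong_induction_on with
  | _ n ih =>
  intro G _ _ hn ho hCN
  have hsub : ∀ H : Subgroup G, H ≠ ⊤ → Group.IsSolvable H := fun H hH =>
    ih _ (hn ▸ (card_lt_of_lt (lt_top_iff_ne_top.2 hH)).trans_eq card_top) rfl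
      (Odd.of_dvd_nat ho (card_subgroup_dvd_card H)) (cn_subgroup hCN H)
  by_contra hs
  refine ms_cn_false h ⟨ho, ?_, fun hc => hs (H1.isSolvable_of_isMulCommutative G), hsub⟩ hCN
  haveI : Nontrivial G := by
    by_contra hn
    rw [not_nontrivial_iff_subsingleton] at hn
    exact hs inferInstance
  refine ⟨fun N hN => ?_⟩
  by_contra hc
  push Not at hc
  haveI := hsub N hc.2
  haveI : Group.IsSolvable (G ⧸ N) := by
    refine ih _ ?_ rfl (Odd.of_dvd_nat ho (card_quotient_dvd_card N)) (cn_quotient hCN N this)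
    rw [← hn, ← N.card_mul_index]
    have h2 : 1 < Nat.card N := (one_lt_card_iff_ne_bot N).2 hc.1
    have h3 : 0 < N.index := Nat.pos_of_ne_zero index_ne_zero_of_finite
    change N.index < _
    nlinarith
  exact hs (Group.isSolvable_of_ker_le_range N.subtype (QuotientGroup.mk' N) (by simp))

theorem cn_odd_solvable (h : NoFrobPartition.{u}) {G : Type u} [Group G] [Finite G]
    (ho : Odd (Nat.card G)) (hCN : IsCNGroup G) : Group.IsSolvable G :=
  cn_odd_solvable_aux h _ rfl ho hCN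

end Cfsg.Agent.H20
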