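import Mathlib
import Cfsg.Agent.H10.AutPSL3

/-! Subgroups of `Aut(PSL₂(q))` containing the inner automorphisms: explicit elements. -/

set_option autoImplicit false

namespace Cfsg.Agent.H20.PG

open Matrix Cfsg.Agent.H10
open scoped MatrixGroups

variable {F : Type*} [Field F]

/-- the automorphism group of `PSL₂(F)` -/
abbrev Au (F : Type*) [Field F] := MulAut PSL(2, F)

open Classical in
/-- the automorphism induced by the matrix `!![a, b; c, d]` -/
noncomputable def P (a b c d : F) : Au F :=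
  if h : a * d - b * c ≠ 0 then
    pDiag (GeneralLinearGroup.mkOfDetNeZero !![a, b; c, d] (by rwa [det_fin_two_of])) else 1

/-- the field automorphism -/
noncomputable abbrev Φ (σ : RingAut F) : Au F := pField (Fin 2) σ

/-- inner automorphisms -/
abbrev In (F : Type*) [Field F] : Subgroup (Au F) := Cfsg.Inn PSL(2, F)

/-- inner-diagonal automorphisms -/
noncomputable abbrev Dg (F : Type*) [Field F] : Subgroup (Au F) := (pDiag : GL (Fin 2) F →* _).range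

variable {a b c d a' b' c' d' : F}

theorem P_eq_pDiag (g : GL (Fin 2) F) (h : g.1 = !![a, b; c, d]) : P a b c d = pDiag g := by
  have h1 : a * d - b * c ≠ 0 := by
    have := g.det_ne_zero
    rwa [h, det_fin_two_of] at this
  rw [P, dif_pos h1]
  exact congrArg _ (Units.ext h.symm)

theorem exists_gl (h : a * d - b * c ≠ 0) : ∃ g : GL (Fin 2) F, g.1 = !![a, b; c, d] :=
  ⟨GeneralLinearGroup.mkOfDetNeZero !![a, b; c, d] (by rwa [det_fin_two_of]), rfl⟩

theorem pDiag_eq_P (g : GL (Fin 2) F) : pDiag g = P (g.1 0 0) (g.1 0 1) (g.1 1 0) (g.1 1 1) :=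
  (P_eq_pDiag g (eta_fin_two _)).symm

theorem det_ne (g : GL (Fin 2) F) : g.1 0 0 * g.1 1 1 - g.1 0 1 * g.1 1 0 ≠ 0 := by
  have := g.det_ne_zero
  rwa [det_fin_two] at this

theorem P_mem_Dg : P a b c d ∈ Dg F := by
  rw [P]
  split_ifs
  · exact ⟨_, rfl⟩
  · exact one_mem _

theorem P_mul (h : a * d - b * c ≠ 0) (h' : a' * d' - b' * c' ≠ 0) :
    P a b c d * P a' b' c' d' =
      P (a * a' + b * c') (a * b' + b * d') (c * a' + d * c') (c * b' + d * d') := by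
  obtain ⟨g, hg⟩ := exists_gl h
  obtain ⟨g', hg'⟩ := exists_gl h'
  rw [P_eq_pDiag g hg, P_eq_pDiag g' hg', ← map_mul, P_eq_pDiag (g * g')]
  rw [Units.val_mul, hg, hg', mul_fin_two]

theorem P_eq_iff (h : a * d - b * c ≠ 0) (h' : a' * d' - b' * c' ≠ 0) :
    P a b c d = P a' b' c' d' ↔ ∃ k : F, a = k * a' ∧ b = k * b' ∧ c = k * c' ∧ d = k * d' := by
  obtain ⟨g, hg⟩ := exists_gl h
  obtain ⟨g', hg'⟩ := exists_gl h'
  rw [P_eq_pDiag g hg, P_eq_pDiag g' hg', ← mul_inv_eq_one, ← map_inv, ← map_mul,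
    pDiag_eq_one_iff (by simp)]
  refine exists_congr fun k => ?_
  have : (g * g'⁻¹).1 = k • (1 : Matrix (Fin 2) (Fin 2) F) ↔ g.1 = k • g'.1 := by
    constructor
    · intro e
      have := congrArg (· * g'.1) e
      simpa [mul_assoc] using this
    · intro e
      rw [Units.val_mul, e, smul_mul_assoc, glv_mul_inv]
  rw [this, hg, hg']
  constructor
  · intro e
    exact ⟨by simpa using congrFun (congrFun e 0) 0, by simpa using congrFun (congrFun e 0) 1,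
      by simpa using congrFun (congrFun e 1) 0, by simpa using congrFun (congrFun e 1) 1⟩
  · rintro ⟨rfl, rfl, rfl, rfl⟩
    ext i j
    fin_cases i <;> fin_cases j <;> simp

theorem P_one : P (1 : F) 0 0 1 = 1 := by
  rw [P_eq_pDiag 1 (by simp [one_fin_two]), map_one]

theorem P_congr (h' : a' * d' - b' * c' ≠ 0) (k : F) (hk : k ≠ 0) (e1 : a = k * a')
    (e2 : b = k * b') (e3 : c = k * c') (e4 : d = k * d') : P a b c d = P a' b' c' d' := by
  refine (P_eq_iff ?_ h').2 ⟨k, e1, e2, e3, e4⟩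
  rw [e1, e2, e3, e4, show k * a' * (k * d') - k * b' * (k * c') = k * k * (a' * d' - b' * c') by ring]
  exact mul_ne_zero (mul_ne_zero hk hk) h'

theorem P_eq_one_iff (h : a * d - b * c ≠ 0) : P a b c d = 1 ↔ b = 0 ∧ c = 0 ∧ a = d := by
  rw [← P_one, P_eq_iff h (by simp)]
  constructor
  · rintro ⟨k, h1, h2, h3, h4⟩
    exact ⟨by simpa using h2, by simpa using h3, by rw [h1, h4]⟩
  · rintro ⟨rfl, rfl, rfl⟩
    exact ⟨a, by simp⟩

theorem P_scalar (h : a ≠ 0) : P a 0 0 a = 1 :=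
  (P_eq_one_iff (by simpa using h)).2 ⟨rfl, rfl, rfl⟩

theorem map_det (σ : RingAut F) (h : a * d - b * c ≠ 0) : σ a * σ d - σ b * σ c ≠ 0 := by
  rw [← map_mul, ← map_mul, ← map_sub]
  exact (map_ne_zero σ).2 h

theorem Φ_mul_P (σ : RingAut F) (h : a * d - b * c ≠ 0) :
    Φ σ * P a b c d = P (σ a) (σ b) (σ c) (σ d) * Φ σ := by
  obtain ⟨g, hg⟩ := exists_gl h
  rw [P_eq_pDiag g hg, pField_mul_pDiag, P_eq_pDiag (glField σ g)]
  rw [glField_val, hg, map_fin_two]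

theorem P_mem_In (h : a * d - b * c ≠ 0) : P a b c d ∈ In F ↔ IsSquare (a * d - b * c) := by
  obtain ⟨g, hg⟩ := exists_gl h
  have e : ((GeneralLinearGroup.det g : Fˣ) : F) = a * d - b * c := by
    rw [GeneralLinearGroup.val_det_apply, hg, det_fin_two_of]
  rw [P_eq_pDiag g hg, pDiag_mem_inn_iff (by simp), ← e]
  constructor
  · rintro ⟨k, hk⟩
    refine ⟨k, ?_⟩
    rw [← hk]
    simp [sq]
  · rintro ⟨k, hk⟩
    have k0 : k ≠ 0 := by
      rintro rfl
      exact (GeneralLinearGroup.det g).ne_zero (by simpa using hk)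
    exact ⟨Units.mk0 k k0, Units.ext (by simp [sq, hk])⟩

theorem P_inv (h : a * d - b * c ≠ 0) : (P a b c d)⁻¹ = P d (-b) (-c) a := by
  rw [inv_eq_iff_mul_eq_one, P_mul h (by convert h using 1; ring), P_eq_one_iff]
  · refine ⟨by ring, by ring, by ring⟩
  · convert mul_ne_zero h h using 1
    ring

theorem isSquare_mul_map' [Finite F] (σ : RingAut F) (d : F) : IsSquare (d * σ d) := by
  by_cases hd : IsSquare d
  · obtain ⟨k, rfl⟩ := hd
    exact ⟨k * σ k, by rw [map_mul]; ring⟩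
  · have h2 : ¬ IsSquare (σ d) := fun ⟨k, hk⟩ => hd ⟨σ.symm k, by
      rw [← map_mul, ← hk, RingEquiv.symm_apply_apply]⟩
    classical
    letI := Fintype.ofFinite F
    have d0 : d ≠ 0 := by rintro rfl; exact hd ⟨0, by simp⟩
    have d1 : σ d ≠ 0 := (map_ne_zero σ).2 d0
    rw [← quadraticChar_one_iff_isSquare (mul_ne_zero d0 d1), map_mul,
      quadraticChar_neg_one_iff_not_isSquare.2 hd, quadraticChar_neg_one_iff_not_isSquare.2 h2]
    norm_num

theorem isSquare_mul_of_not [Finite F] (ha : ¬ IsSquare a) (hb : ¬ IsSquare b) :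
    IsSquare (a * b) := by
  classical
  letI := Fintype.ofFinite F
  have d0 : a ≠ 0 := by rintro rfl; exact ha ⟨0, by simp⟩
  have d1 : b ≠ 0 := by rintro rfl; exact hb ⟨0, by simp⟩
  rw [← quadraticChar_one_iff_isSquare (mul_ne_zero d0 d1), map_mul,
    quadraticChar_neg_one_iff_not_isSquare.2 ha, quadraticChar_neg_one_iff_not_isSquare.2 hb]
  norm_num

theorem ne_zero_of_not_sq (ha : ¬ IsSquare a) : a ≠ 0 := by
  rintro rfl; exact ha ⟨0, by simp⟩

theorem not_sq_mul (ha : ¬ IsSquare a) (hb : IsSquare b) (b0 : b ≠ 0) : ¬ IsSquare (a * b) :=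
  fun h => ha (by
    have := h.mul hb.inv
    rwa [mul_assoc, mul_inv_cancel₀ b0, mul_one] at this)

variable [Finite F]

/-- the field part -/
noncomputable def π : Au F →* RingAut F := (exists_autType_two (F := F)).choose

theorem π_eq_one {x : Au F} : π x = 1 ↔ x ∈ Dg F := by
  rw [Dg, ← (exists_autType_two (F := F)).choose_spec.1, MonoidHom.mem_ker]; rfl

theorem π_Φ (σ : RingAut F) : π (Φ σ) = σ := (exists_autType_two (F := F)).choose_spec.2 σ

theorem π_P : π (P a b c d) = 1 := π_eq_one.2 P_mem_Dg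

theorem In_le_Dg : In F ≤ Dg F := inn_le_range_pDiag

theorem exists_P_Φ (x : Au F) :
    ∃ a b c d, a * d - b * c ≠ 0 ∧ x = P a b c d * Φ (π x) := by
  obtain ⟨g, σ, rfl⟩ := aut_PSL2 x
  refine ⟨_, _, _, _, det_ne g, ?_⟩
  rw [map_mul, π_eq_one.2 ⟨g, rfl⟩, π_Φ, one_mul, ← pDiag_eq_P]

variable {Γ : Subgroup (Au F)}

/-- reduce the matrix part to a diagonal matrix -/
theorem exists_diag (hΓ : In F ≤ Γ) {x : Au F} (hx : x ∈ Γ) :
    ∃ a, a ≠ 0 ∧ P a 0 0 1 * Φ (π x) ∈ Γ := by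
  obtain ⟨a, b, c, d, h, e⟩ := exists_P_Φ x
  refine ⟨_, h, ?_⟩
  have h1 : (a * d - b * c) * 1 - 0 * 0 ≠ 0 := by simpa using h
  have h2 : P (a * d - b * c) 0 0 1 * (P a b c d)⁻¹ ∈ Γ := by
    refine hΓ ?_
    rw [P_inv h, P_mul h1 (by convert h using 1; ring), P_mem_In]
    · exact ⟨a * d - b * c, by ring⟩
    · convert mul_ne_zero h h using 1; ring
  have := mul_mem h2 hx
  have e2 : P (a * d - b * c) 0 0 1 * (P a b c d)⁻¹ * x = P (a * d - b * c) 0 0 1 * Φ (π x) := by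
    conv_lhs => rw [e]
    rw [← mul_assoc, inv_mul_cancel_right]
  rwa [e2] at this

theorem P_diag_mul (ha : a ≠ 0) (hb : b ≠ 0) : P a 0 0 1 * P b 0 0 1 = P (a * b) 0 0 1 := by
  rw [P_mul (by simpa) (by simpa)]; simp

theorem diag_mem (hΓ : In F ≤ Γ) (ha : a ≠ 0) (h : IsSquare a) : P a 0 0 1 ∈ Γ :=
  hΓ ((P_mem_In (by simpa)).2 (by simpa))

theorem Dg_le (hΓ : In F ≤ Γ) (h : a * d - b * c ≠ 0) (hs : ¬ IsSquare (a * d - b * c))
    (hm : P a b c d ∈ Γ) : Dg F ≤ Γ := by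
  rintro _ ⟨g, rfl⟩
  rw [pDiag_eq_P]
  by_cases h1 : IsSquare (g.1 0 0 * g.1 1 1 - g.1 0 1 * g.1 1 0)
  · exact hΓ ((P_mem_In (det_ne g)).2 h1)
  · refine (mul_mem_cancel_left hm).1 (hΓ ?_)
    rw [P_mul h (det_ne g), P_mem_In]
    · convert isSquare_mul_of_not hs h1 using 1; ring
    · convert mul_ne_zero h (det_ne g) using 1; ring

/-- between `PSL` and `PGL` -/
theorem eq_or_eq (hΓ : In F ≤ Γ) (h : Γ ≤ Dg F) : Γ = In F ∨ (Γ = Dg F ∧ ringChar F ≠ 2) := by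
  by_cases h1 : Γ ≤ In F
  · exact .inl (le_antisymm h1 hΓ)
  obtain ⟨x, hx, hx'⟩ := SetLike.not_le_iff_exists.1 h1
  obtain ⟨g, rfl⟩ := h hx
  rw [pDiag_eq_P] at hx hx'
  rw [P_mem_In (det_ne g)] at hx'
  exact .inr ⟨le_antisymm h (Dg_le hΓ (det_ne g) hx' hx),
    fun h2 => hx' (FiniteField.isSquare_of_char_two h2 _)⟩

theorem diagΦ_sq (σ : RingAut F) (ha : a ≠ 0) :
    P a 0 0 1 * Φ σ * (P a 0 0 1 * Φ σ) = P (a * σ a) 0 0 1 * Φ (σ * σ) := by
  rw [mul_assoc, ← mul_assoc (Φ σ), Φ_mul_P σ (by simpa), map_zero, map_one, ← mul_assoc,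
    ← mul_assoc, P_diag_mul ha ((map_ne_zero σ).2 ha), mul_assoc, ← map_mul]

/-- the trichotomy -/
theorem tri (hΓ : In F ≤ Γ) : Γ ≤ Dg F ∨ (∃ σ : RingAut F, (orderOf σ).Prime ∧ Φ σ ∈ Γ) ∨
    (ringChar F ≠ 2 ∧ Γ ⊓ Dg F ≤ In F ∧ ∃ σ : RingAut F, orderOf σ = 2 ∧
      ∀ a, ¬ IsSquare a → P a 0 0 1 * Φ σ ∈ Γ) := by
  by_cases h1 : Γ ≤ Dg F
  · exact .inl h1
  right
  obtain ⟨x, hx, hx'⟩ := SetLike.not_le_iff_exists.1 h1
  rw [← π_eq_one] at hx'
  obtain ⟨y, hy, hr⟩ : ∃ y ∈ Γ, (orderOf (π y)).Prime := by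
    have h0 : orderOf (π x) ≠ 0 := (orderOf_pos _).ne'
    obtain ⟨r, hr, k, hk⟩ := Nat.exists_prime_and_dvd (mt orderOf_eq_one_iff.1 hx')
    refine ⟨x ^ k, pow_mem hx k, ?_⟩
    rw [map_pow, orderOf_pow_of_dvd (by rintro rfl; simp [hk] at h0) ⟨r, by rw [hk, mul_comm]⟩, hk,
      Nat.mul_div_cancel _ (Nat.pos_of_ne_zero (by rintro rfl; simp [hk] at h0))]
    exact hr
  obtain ⟨a, ha, hm⟩ := exists_diag hΓ hy
  set σ := π y
  by_cases h2 : P a 0 0 1 ∈ Γ
  · exact .inl ⟨σ, hr, (mul_mem_cancel_left h2).1 hm⟩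
  have h3 : ¬ IsSquare a := fun h => h2 (diag_mem hΓ ha h)
  by_cases h4 : orderOf σ = 2
  · refine .inr ⟨fun h => h3 (FiniteField.isSquare_of_char_two h _), ?_, σ, h4, fun b hb => ?_⟩
    · rintro _ ⟨hz, g, rfl⟩
      rw [pDiag_eq_P] at hz ⊢
      by_contra h5
      rw [P_mem_In (det_ne g)] at h5
      exact h2 (Dg_le hΓ (det_ne g) h5 hz P_mem_Dg)
    · have b0 := ne_zero_of_not_sq hb
      have := mul_mem (diag_mem hΓ (mul_ne_zero b0 (inv_ne_zero ha))
        (isSquare_mul_of_not hb (by simpa using h3))) hm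
      rwa [← mul_assoc, P_diag_mul (mul_ne_zero b0 (inv_ne_zero ha)) ha,
        inv_mul_cancel_right₀ ha] at this
  · left
    have h5 := mul_mem hm hm
    rw [diagΦ_sq σ ha, mul_mem_cancel_left (diag_mem hΓ (mul_ne_zero ha ((map_ne_zero σ).2 ha))
      (isSquare_mul_map' σ a))] at h5
    refine ⟨σ * σ, ?_, h5⟩
    rw [← sq, Nat.Coprime.orderOf_pow ((Nat.coprime_primes hr Nat.prime_two).2 h4)]
    exact hr

theorem exists_apply_ne {σ : RingAut F} (h : σ ≠ 1) : ∃ s, σ s ≠ s := by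
  by_contra! h1
  exact h (RingEquiv.ext h1)

theorem Φ_not_mem {σ : RingAut F} (h : σ ≠ 1) : Φ σ ∉ Dg F := by
  rw [← π_eq_one, π_Φ]; exact h

theorem orderOf_Φ (σ : RingAut F) : orderOf (Φ σ) = orderOf σ := orderOf_pField (by simp) σ

/-- commuting with a field automorphism -/
theorem commute_Φ_iff (σ : RingAut F) (h : a * d - b * c ≠ 0) :
    Φ σ * P a b c d = P a b c d * Φ σ ↔
      ∃ k : F, σ a = k * a ∧ σ b = k * b ∧ σ c = k * c ∧ σ d = k * d := by
  rw [Φ_mul_P σ h, mul_left_inj, P_eq_iff (map_det σ h) h]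

theorem commute_Φ (σ : RingAut F) (h : a * d - b * c ≠ 0) (h1 : σ a = a) (h2 : σ b = b)
    (h3 : σ c = c) (h4 : σ d = d) : Φ σ * P a b c d = P a b c d * Φ σ :=
  (commute_Φ_iff σ h).2 ⟨1, by simp [h1, h2, h3, h4]⟩

end Cfsg.Agent.H20.PG
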