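import Mathlib
import Cfsg.Agent.H20.PG1

/-! Configurations inside `PΓL₂(q)` forced by field automorphisms. -/

set_option autoImplicit false

namespace Cfsg.Agent.H20.PG

open Matrix Cfsg.Agent.H10
open scoped MatrixGroups

section conf
variable {G : Type*} [Group G]

/-- a field automorphism of odd order -/
def CA (K L : Subgroup G) : Prop := ∃ φ ∈ K, ∃ t ∈ L, ∃ m ∈ L, (orderOf φ).Prime ∧ orderOf φ ≠ 2 ∧
  φ ∉ L ∧ t ≠ 1 ∧ t * t = 1 ∧ m * m = 1 ∧ φ * t = t * φ ∧ m * t = t * m ∧ m * φ ≠ φ * m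

/-- a field involution -/
def CB (K : Subgroup G) : Prop := ∃ φ ∈ K, ∃ x ∈ K, ∃ m ∈ K, φ ≠ 1 ∧ φ * φ = 1 ∧ Odd (orderOf x) ∧
  m * m = 1 ∧ x * φ = φ * x ∧ m * φ = φ * m ∧ x * (m * x * m⁻¹) ≠ m * x * m⁻¹ * x

/-- a twisted field involution -/
def CC (K : Subgroup G) : Prop := ∃ g ∈ K, ∃ t ∈ K, ∃ n ∈ K, ∃ y ∈ K, ∃ z ∈ K,
  Even (orderOf g) ∧ g * g ≠ 1 ∧ n * (g * g) * n⁻¹ = (g * g)⁻¹ ∧
  g * (n * g * n⁻¹) ≠ n * g * n⁻¹ * g ∧ t ≠ 1 ∧ t * t = 1 ∧ g * t = t * g ∧ n * t = t * n ∧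
  n * g * (n * g) ≠ 1 ∧ n ≠ 1 ∧ y * y = t ∧ z * z = n ∧ (y * z) ^ 3 = 1 ∧ y * z * t ≠ t * (y * z)

variable {H : Type*} [Group H] {f : G →* H} {L : Subgroup G}

theorem CA.comap (hf : Function.Injective f) (h : CA f.range (L.map f)) : CA ⊤ L := by
  obtain ⟨_, ⟨φ, rfl⟩, _, ⟨t, ht, rfl⟩, _, ⟨m, hm, rfl⟩, h⟩ := h
  refine ⟨φ, trivial, t, ht, m, hm, ?_⟩
  simpa only [← map_mul, orderOf_injective f hf, hf.eq_iff, ne_eq, map_eq_one_iff f hf,
    Subgroup.mem_map_iff_mem hf] using h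

theorem CB.comap (hf : Function.Injective f) (h : CB f.range) : CB (⊤ : Subgroup G) := by
  obtain ⟨_, ⟨φ, rfl⟩, _, ⟨t, rfl⟩, _, ⟨m, rfl⟩, h⟩ := h
  refine ⟨φ, trivial, t, trivial, m, trivial, ?_⟩
  simpa only [← map_mul, ← map_inv, orderOf_injective f hf, hf.eq_iff, ne_eq,
    map_eq_one_iff f hf] using h

theorem CC.comap (hf : Function.Injective f) (h : CC f.range) : CC (⊤ : Subgroup G) := by
  obtain ⟨_, ⟨g, rfl⟩, _, ⟨t, rfl⟩, _, ⟨n, rfl⟩, _, ⟨y, rfl⟩, _, ⟨z, rfl⟩, h⟩ := h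
  refine ⟨g, trivial, t, trivial, n, trivial, y, trivial, z, trivial, ?_⟩
  simpa only [← map_mul, ← map_inv, ← map_pow, orderOf_injective f hf, hf.eq_iff, ne_eq,
    map_eq_one_iff f hf] using h

end conf

variable {F : Type*} [Field F] {a b c d a' b' c' d' : F}

theorem det_mul_ne (h : a * d - b * c ≠ 0) (h' : a' * d' - b' * c' ≠ 0) :
    (a * a' + b * c') * (c * b' + d * d') - (a * b' + b * d') * (c * a' + d * c') ≠ 0 := by
  convert mul_ne_zero h h' using 1; ring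

theorem P_comm_iff (h : a * d - b * c ≠ 0) (h' : a' * d' - b' * c' ≠ 0) :
    P a b c d * P a' b' c' d' = P a' b' c' d' * P a b c d ↔ ∃ k : F,
      a * a' + b * c' = k * (a' * a + b' * c) ∧ a * b' + b * d' = k * (a' * b + b' * d) ∧
      c * a' + d * c' = k * (c' * a + d' * c) ∧ c * b' + d * d' = k * (c' * b + d' * d) := by
  rw [P_mul h h', P_mul h' h, P_eq_iff (det_mul_ne h h') (det_mul_ne h' h)]

theorem P_sq_one (h : a * d - b * c ≠ 0) (ht : a + d = 0) : P a b c d * P a b c d = 1 := by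
  rw [P_mul h h, P_eq_one_iff (det_mul_ne h h)]
  exact ⟨by linear_combination b * ht, by linear_combination c * ht,
    by linear_combination (a - d) * ht⟩

theorem fix_of_odd {σ : RingAut F} (ho : Odd (orderOf σ)) {s : F} (h : σ (σ s) = s) : σ s = s := by
  obtain ⟨k, hk⟩ := ho
  have h1 : ∀ j, (σ ^ (2 * j)) s = s := fun j => by
    induction j with
    | zero => rfl
    | succ j ih => rw [mul_add, pow_add, mul_one, sq]; exact (congrArg _ h).trans ih
  have h2 := pow_orderOf_eq_one σ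
  rw [hk, pow_succ'] at h2
  have := congrArg (fun τ : RingAut F => τ s) h2
  exact (congrArg σ (h1 k)).symm.trans this

theorem P_unip_pow (s : F) (k : ℕ) : P 1 s 0 1 ^ k = P 1 (k * s) 0 1 := by
  induction k with
  | zero => simp [P_one]
  | succ k ih => rw [pow_succ, ih, P_mul (by simp) (by simp)]; congr 1 <;> push_cast <;> ring

theorem P_diag_pow (ha : a ≠ 0) (k : ℕ) : P a 0 0 1 ^ k = P (a ^ k) 0 0 1 := by
  induction k with
  | zero => simp [P_one]
  | succ k ih =>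
    rw [pow_succ, ih, P_mul (by simp [ha]) (by simpa), pow_succ]; simp

variable [Finite F] {Γ : Subgroup (Au F)}

theorem two_ne (h : ringChar F ≠ 2) : (2 : F) ≠ 0 := Ring.two_ne_zero h

/-- an element of the torus centralizing `!![0, c; 1, 0]` moved by a field automorphism -/
theorem exists_torus {σ : RingAut F} (ho : Odd (orderOf σ)) (h1 : σ ≠ 1) (h2 : ringChar F ≠ 2)
    (hc : σ c = c) : ∃ s : F, s ^ 2 - c ≠ 0 ∧
      Φ σ * P (s ^ 2 + c) (2 * s * c) (2 * s) (s ^ 2 + c) ≠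
        P (s ^ 2 + c) (2 * s * c) (2 * s) (s ^ 2 + c) * Φ σ := by
  obtain ⟨s, hs⟩ := exists_apply_ne h1
  have s0 : s ≠ 0 := by rintro rfl; simp at hs
  have h3 : s ^ 2 - c ≠ 0 := fun h => by
    have h4 := congrArg σ h
    rw [map_sub, map_pow, hc, map_zero] at h4
    have h5 : (σ s - s) * (σ s + s) = 0 := by linear_combination h4 - h
    have h6 : σ s = -s := by
      linear_combination (mul_eq_zero.1 h5).resolve_left (sub_ne_zero.2 hs)
    exact hs (fix_of_odd ho (by rw [h6, map_neg, h6, neg_neg]))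
  refine ⟨s, h3, fun h => ?_⟩
  rw [commute_Φ_iff σ (by convert mul_ne_zero h3 h3 using 1; ring)] at h
  obtain ⟨k, e1, -, e3, -⟩ := h
  rw [map_add, map_pow, hc] at e1
  rw [map_mul, map_ofNat] at e3
  have e4 : σ s = k * s := mul_left_cancel₀ (two_ne h2) (by linear_combination e3)
  have e5 : (σ s - s) * (s * σ s - c) = 0 := by linear_combination s * e1 - (s ^ 2 + c) * e4
  have e6 : s * σ s = c := sub_eq_zero.1 ((mul_eq_zero.1 e5).resolve_left (sub_ne_zero.2 hs))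
  have e7 := congrArg σ e6
  rw [map_mul, hc, ← e6, mul_comm] at e7
  exact hs (fix_of_odd ho (mul_right_cancel₀ ((map_ne_zero σ).2 s0) e7))

theorem exists_sq_add_sq (F : Type*) [Field F] [Finite F] :
    ∃ a b : ℕ, (a : F) ^ 2 + (b : F) ^ 2 = -1 := by
  haveI : NeZero (ringChar F) := ⟨CharP.ringChar_ne_zero_of_finite F⟩
  simpa using CharP.sq_add_sq F (ringChar F) (-1)

theorem confA (hΓ : In F ≤ Γ) {σ : RingAut F} (hp : (orderOf σ).Prime) (h2 : orderOf σ ≠ 2)
    (hσ : Φ σ ∈ Γ) : CA Γ (In F) := by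
  have h1 : σ ≠ 1 := by rintro rfl; simp [Nat.not_prime_one] at hp
  have h3 : Φ σ ∉ In F := fun h => Φ_not_mem h1 (In_le_Dg h)
  by_cases hc : ringChar F = 2
  · obtain ⟨s, hs⟩ := exists_apply_ne h1
    haveI : CharP F 2 := ringChar.of_eq hc
    refine ⟨_, hσ, P 1 1 0 1, (P_mem_In (by simp)).2 (by simp), P 1 s 0 1,
      (P_mem_In (by simp)).2 (by simp), by rwa [orderOf_Φ], by rwa [orderOf_Φ], h3,
      by simp [P_eq_one_iff], P_sq_one (by simp) (CharTwo.add_self_eq_zero 1),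
      P_sq_one (by simp) (CharTwo.add_self_eq_zero 1), commute_Φ σ (by simp) (by simp) (by simp)
        (by simp) (by simp), (P_comm_iff (by simp) (by simp)).2 ⟨1, by simp [add_comm]⟩, fun h => ?_⟩
    obtain ⟨k, e1, e2, -⟩ := (commute_Φ_iff σ (by simp)).1 h.symm
    rw [map_one, mul_one] at e1
    exact hs (by rw [e2, ← e1, one_mul])
  obtain ⟨s, hs, hy⟩ := exists_torus (c := -1) (hp.odd_of_ne_two h2) h1 hc (by simp)
  obtain ⟨a, b, hab⟩ := exists_sq_add_sq F
  have d1 : (a : F) * (-a) - b * b ≠ 0 := by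
    rw [show (a : F) * (-a) - b * b = 1 by linear_combination -hab]; simp
  have d2 : (s ^ 2 + -1) * (s ^ 2 + -1) - 2 * s * -1 * (2 * s) ≠ 0 := by
    convert mul_ne_zero hs hs using 1; ring
  have c1 : Φ σ * P (a : F) b b (-a) = P (a : F) b b (-a) * Φ σ :=
    commute_Φ σ d1 (by simp) (by simp) (by simp) (by simp)
  refine ⟨_, hσ, P 0 (-1) 1 0, (P_mem_In (by simp)).2 (by simp),
    P (a : F) b b (-a) * P (s ^ 2 + -1) (2 * s * -1) (2 * s) (s ^ 2 + -1),
    mul_mem ((P_mem_In d1).2 ⟨1, by linear_combination -hab⟩)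
      ((P_mem_In d2).2 ⟨s ^ 2 + 1, by ring⟩), by rwa [orderOf_Φ], by rwa [orderOf_Φ], h3,
    by simp [P_eq_one_iff], P_sq_one (by simp) (by simp),
    ?_, commute_Φ σ (by simp) (by simp) (by simp) (by simp) (by simp), ?_, fun h => hy ?_⟩
  · rw [P_mul d1 d2]
    exact P_sq_one (det_mul_ne d1 d2) (by ring)
  · rw [P_mul d1 d2]
    exact (P_comm_iff (det_mul_ne d1 d2) (by simp)).2 ⟨-1, by ring, by ring, by ring, by ring⟩
  · rw [← mul_assoc, c1, mul_assoc (P _ _ _ _), mul_assoc (P _ _ _ _), mul_right_inj] at h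
    exact h.symm

theorem apply_apply {σ : RingAut F} (h : orderOf σ = 2) (x : F) : σ (σ x) = x :=
  apply_apply_of_orderOf_two h x

theorem mul_self_of_two {σ : RingAut F} (h : orderOf σ = 2) : σ * σ = 1 := by
  rw [← sq, ← h, pow_orderOf_eq_one]

theorem Φ_one : Φ (1 : RingAut F) = 1 := map_one _

theorem Φ_mul_self {σ : RingAut F} (h : orderOf σ = 2) : Φ σ * Φ σ = 1 := by
  rw [← map_mul, mul_self_of_two h, map_one]

theorem exists_fixed {σ : RingAut F} (h : orderOf σ = 2) (hc : ringChar F = 2)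
    (h4 : Nat.card F ≠ 4) : ∃ c : F, σ c = c ∧ c ≠ 0 ∧ c ≠ 1 := by
  by_contra! h1
  haveI : CharP F 2 := ringChar.of_eq hc
  have h2 : σ ≠ 1 := by rintro rfl; simp at h
  obtain ⟨s, hs⟩ := exists_apply_ne h2
  have h3 : ∀ x : F, σ x = x → x = 0 ∨ x = 1 := fun x hx => by
    by_cases h0 : x = 0
    exacts [.inl h0, .inr (h1 x hx h0)]
  have h5 : ∀ x : F, σ x = x ∨ σ x = x + 1 := fun x => by
    rcases h3 (x + σ x) (by rw [map_add, apply_apply h, add_comm]) with e | e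
    · exact .inl (CharTwo.add_eq_zero.1 e).symm
    · exact .inr (by rw [← e, ← add_assoc, CharTwo.add_self_eq_zero, zero_add])
  have h6 := (h5 s).resolve_left hs
  have s0 : s ≠ 0 := by rintro rfl; simp at hs
  have s1 : s ≠ 1 := by rintro rfl; simp at hs
  have h7 : (Set.univ : Set F) = {0, 1, s, s + 1} := by
    refine (Set.eq_univ_of_forall fun x => ?_).symm
    rcases h5 x with e | e
    · rcases h3 x e with e | e <;> simp [e]
    · rcases h3 (x + s) (by
        rw [map_add, e, h6]; linear_combination CharTwo.add_self_eq_zero (1 : F)) with e | e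
      · simp [CharTwo.add_eq_zero.1 e]
      · have : x = s + 1 := by linear_combination e - CharTwo.add_self_eq_zero s
        simp [this]
  refine h4 ?_
  rw [← Set.ncard_univ, h7]
  have s2 : s + 1 ≠ 0 := fun e => s1 (CharTwo.add_eq_zero.1 e)
  rw [Set.ncard_insert_of_notMem (by simp [s0.symm, s2.symm]),
    Set.ncard_insert_of_notMem (by simp [s0, s1.symm]), Set.ncard_pair (by simp)]

theorem confB (hΓ : In F ≤ Γ) {σ : RingAut F} (h2 : orderOf σ = 2) (hσ : Φ σ ∈ Γ)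
    (h4 : Nat.card F ≠ 4) : CB Γ := by
  have h1 : σ ≠ 1 := by rintro rfl; simp at h2
  have h3 : Φ σ ≠ 1 := fun h => Φ_not_mem h1 (h ▸ one_mem _)
  have h5 : Φ σ * Φ σ = 1 := Φ_mul_self h2
  by_cases hc : ringChar F = 2
  · obtain ⟨c, c1, c2, c3⟩ := exists_fixed h2 hc h4
    haveI : CharP F 2 := ringChar.of_eq hc
    have d1 : c * 1 - 0 * 0 ≠ 0 := by simpa
    refine ⟨_, hσ, P c 0 0 1, diag_mem hΓ c2 (FiniteField.isSquare_of_char_two hc _), P 1 1 0 1,
      hΓ ((P_mem_In (by simp)).2 (by simp)), h3, h5, ?_,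
      P_sq_one (by simp) (CharTwo.add_self_eq_zero 1),
      (commute_Φ σ d1 c1 (by simp) (by simp) (by simp)).symm,
      (commute_Φ σ (by simp) (by simp) (by simp) (by simp) (by simp)).symm, fun h => ?_⟩
    · letI := Fintype.ofFinite F
      refine Odd.of_dvd_nat (n := Fintype.card F - 1) ?_ (orderOf_dvd_of_pow_eq_one ?_)
      · refine Nat.Even.sub_odd Fintype.card_pos (Nat.even_iff.2 ?_) odd_one
        exact FiniteField.even_card_of_char_two hc
      · rw [P_diag_pow c2, FiniteField.pow_card_sub_one_eq_one c c2, P_one]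
    · rw [P_inv (by simp), P_mul (by simp) d1, P_mul (by simpa) (by simp),
        P_comm_iff d1 (by simpa)] at h
      obtain ⟨k, -, e2, -, e4⟩ := h
      have e5 : k = 1 := by linear_combination -e4
      rw [e5] at e2
      have : (c - 1) ^ 2 = 0 := by linear_combination -e2
      exact c3 (sub_eq_zero.1 (pow_eq_zero_iff two_ne_zero |>.1 this))
  · refine ⟨_, hσ, P 1 1 0 1, hΓ ((P_mem_In (by simp)).2 (by simp)), P 0 (-1) 1 0,
      hΓ ((P_mem_In (by simp)).2 (by simp)), h3, h5, ?_, P_sq_one (by simp) (by simp),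
      (commute_Φ σ (by simp) (by simp) (by simp) (by simp) (by simp)).symm,
      (commute_Φ σ (by simp) (by simp) (by simp) (by simp) (by simp)).symm, fun h => ?_⟩
    · refine Odd.of_dvd_nat ((CharP.char_is_prime F (ringChar F)).odd_of_ne_two hc)
        (orderOf_dvd_of_pow_eq_one ?_)
      rw [P_unip_pow, CharP.cast_eq_zero, zero_mul, P_one]
    · rw [P_inv (by simp), P_mul (by simp) (by simp), P_mul (by simp) (by simp),
        P_comm_iff (by simp) (by simp)] at h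
      obtain ⟨k, e1, e2, -⟩ := h
      exact one_ne_zero (α := F) (by linear_combination e2 - e1)

theorem card_sq {σ : RingAut F} (h : orderOf σ = 2) : ∃ k, Nat.card F = k ^ 2 := by
  letI := Fintype.ofFinite F
  obtain ⟨n, hp, hn⟩ := FiniteField.card F (ringChar F)
  haveI := Fact.mk hp
  obtain ⟨j, hj⟩ : 2 ∣ (n : ℕ) := by
    rw [← (ringAut_cyclic_card hn).2, ← h]; exact orderOf_dvd_natCard σ
  exact ⟨ringChar F ^ j, by rw [Nat.card_eq_fintype_card, hn, hj, ← pow_mul, mul_comm]⟩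

theorem card_mod_eight {σ : RingAut F} (h : orderOf σ = 2) (hc : ringChar F ≠ 2) :
    Nat.card F % 8 = 1 := by
  obtain ⟨k, hk⟩ := card_sq h
  letI := Fintype.ofFinite F
  have h1 := FiniteField.odd_card_of_char_ne_two hc
  rw [← Nat.card_eq_fintype_card, hk] at h1
  rw [hk, Nat.pow_mod]
  have : k % 8 = 1 ∨ k % 8 = 3 ∨ k % 8 = 5 ∨ k % 8 = 7 := by
    have : k % 2 = 1 := by
      rcases Nat.mod_two_eq_zero_or_one k with e | e
      · rw [Nat.pow_mod, e] at h1; omega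
      · exact e
    omega
  rcases this with e | e | e | e <;> rw [e]

theorem sq_neg_one {σ : RingAut F} (h : orderOf σ = 2) (hc : ringChar F ≠ 2) :
    IsSquare (-1 : F) ∧ IsSquare (2 : F) := by
  have h1 := card_mod_eight h hc
  letI := Fintype.ofFinite F
  rw [Nat.card_eq_fintype_card] at h1
  rw [FiniteField.isSquare_neg_one_iff, FiniteField.isSquare_two_iff]
  omega

theorem exists_gen {σ : RingAut F} (h1 : σ ≠ 1) (hc : ringChar F ≠ 2) :
    ∃ a : F, ¬ IsSquare a ∧ σ a ≠ a ∧ σ a ≠ -a := by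
  obtain ⟨g, hg⟩ := IsCyclic.exists_monoid_generator (α := Fˣ)
  have h2 : ∀ x : F, x ≠ 0 → ∃ k : ℕ, x = (g : F) ^ k := fun x hx => by
    obtain ⟨k, hk⟩ := hg (Units.mk0 x hx)
    exact ⟨k, by simpa using (congrArg Units.val hk).symm⟩
  have h3 : σ g ≠ g := fun h => h1 (RingEquiv.ext fun x => by
    by_cases hx : x = 0
    · simp [hx]
    · obtain ⟨k, rfl⟩ := h2 x hx
      rw [map_pow, h]; rfl)
  refine ⟨g, fun h => ?_, h3, fun h => ?_⟩
  · obtain ⟨x, hx⟩ := FiniteField.exists_nonsquare hc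
    obtain ⟨k, rfl⟩ := h2 x (ne_zero_of_not_sq hx)
    exact hx (h.pow k)
  · have h4 : (1 + g : F) ≠ 0 := fun e => h3 (by
      rw [show (g : F) = -1 by linear_combination e]; simp)
    obtain ⟨k, hk⟩ := h2 _ h4
    have h5 := congrArg σ hk
    rw [map_add, map_one, map_pow, h, neg_pow, ← hk] at h5
    rcases neg_one_pow_eq_or F k with e | e <;> rw [e] at h5
    · exact mul_ne_zero (two_ne hc) g.ne_zero (by linear_combination -h5)
    · exact two_ne hc (by linear_combination h5)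

theorem norm_ne_one {σ : RingAut F} (h : orderOf σ = 2) (hc : ringChar F ≠ 2)
    (ha : ¬ IsSquare a) : a * σ a ≠ 1 := fun e => by
  by_cases h1 : 1 + a = 0
  · exact ha (by rw [show a = -1 by linear_combination h1]; exact (sq_neg_one h hc).1)
  refine not_sq_mul ha (isSquare_mul_map' σ (1 + a)) (mul_ne_zero h1 ((map_ne_zero σ).2 h1))
    ⟨1 + a, ?_⟩
  rw [map_add, map_one]
  linear_combination (1 + a) * e

theorem confC (hΓ : In F ≤ Γ) (hc : ringChar F ≠ 2) {σ : RingAut F} (h2 : orderOf σ = 2)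
    (hσ : ∀ a, ¬ IsSquare a → P a 0 0 1 * Φ σ ∈ Γ) : CC Γ := by
  have h1 : σ ≠ 1 := by rintro rfl; simp at h2
  have h5 : σ * σ = 1 := by rw [← sq, ← h2, pow_orderOf_eq_one]
  obtain ⟨a, ha, a1, a2⟩ := exists_gen h1 hc
  obtain ⟨⟨i, hi⟩, h6⟩ := sq_neg_one h2 hc
  have a0 := ne_zero_of_not_sq ha
  have b0 : σ a ≠ 0 := (map_ne_zero σ).2 a0
  have t0 := two_ne hc
  have i0 : i ≠ 0 := by rintro rfl; simp at hi
  have da : a * 1 - 0 * 0 ≠ 0 := by simpa
  have dw : (0 : F) * 0 - -1 * 1 ≠ 0 := by simp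
  have di : i * 1 - 0 * 0 ≠ 0 := by simpa
  have dz : (1 : F) * 1 - -1 * 1 ≠ 0 := by rwa [show (1 : F) * 1 - -1 * 1 = 2 by ring]
  have cw : Φ σ * P 0 (-1) 1 0 = P 0 (-1) 1 0 * Φ σ :=
    commute_Φ σ dw (by simp) (by simp) (by simp) (by simp)
  have e1 : P a 0 0 1 * Φ σ * (P a 0 0 1 * Φ σ) = P (a * σ a) 0 0 1 := by
    rw [diagΦ_sq σ a0, h5, Φ_one, mul_one]
  have e0 : ∀ x : F, x ≠ 0 → P 0 (-1) 1 0 * P x 0 0 1 * (P 0 (-1) 1 0)⁻¹ = P 1 0 0 x :=
    fun x hx => by
      rw [P_inv dw, P_mul dw (by simpa), P_mul (by simpa) (by simp)]; simp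
  have e2 : P 0 (-1) 1 0 * (P a 0 0 1 * Φ σ) * (P 0 (-1) 1 0)⁻¹ = P 1 0 0 a * Φ σ := by
    rw [← e0 a a0, ← mul_assoc, mul_assoc _ (Φ σ), mul_assoc _ _ (Φ σ)]
    congr 1
    rw [mul_inv_eq_iff_eq_mul, mul_assoc, cw, inv_mul_cancel_left]
  have e3 : P i 0 0 1 * P 1 (-1) 1 1 = P i (-i) 1 1 := by rw [P_mul di dz]; simp
  have dy : i * 1 - -i * 1 ≠ 0 := by convert mul_ne_zero t0 i0 using 1; ring
  refine ⟨_, hσ a ha, P (-1) 0 0 1, diag_mem hΓ (by simp) ⟨i, hi⟩, P 0 (-1) 1 0,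
    hΓ ((P_mem_In dw).2 (by simp)), P i 0 0 1, diag_mem hΓ i0 ?_, P 1 (-1) 1 1,
    hΓ ((P_mem_In dz).2 (by convert h6 using 1; ring)), ?_, ?_, ?_, ?_, ?_,
    P_sq_one (by simp) (by simp), ?_, (P_comm_iff dw (by simp)).2 ⟨-1, by simp⟩, ?_,
    by simp [P_eq_one_iff], ?_, ?_, ?_, ?_⟩
  · by_contra h
    exact not_sq_mul h h6 t0 ⟨1 + i, by linear_combination hi⟩
  · have := orderOf_map_dvd π (P a 0 0 1 * Φ σ)
    rw [map_mul, π_P, π_Φ, one_mul, h2] at this
    exact even_iff_two_dvd.2 this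
  · rw [e1, ne_eq, P_eq_one_iff (by simp [a0])]
    exact fun h => norm_ne_one h2 hc ha h.2.2
  · rw [e1, e0 _ (mul_ne_zero a0 b0), P_inv (by simp [a0])]; simp
  · rw [e2, mul_assoc, mul_assoc, ← mul_assoc (Φ σ), ← mul_assoc (Φ σ), Φ_mul_P σ (by simpa),
      Φ_mul_P σ da, ← mul_assoc, ← mul_assoc, ← mul_assoc, ← mul_assoc, ne_eq, mul_left_inj,
      mul_left_inj, P_mul da (by simpa), P_mul (by simpa) (by simpa),
      P_eq_iff (by simp [a0]) (by simp [a0])]
    rintro ⟨k, e4, -, -, e5⟩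
    simp only [map_one, map_zero, mul_one, mul_zero, add_zero, zero_add, one_mul] at e4 e5
    have : (σ a - a) * (σ a + a) = 0 := by linear_combination σ a * e5 - a * e4
    rcases mul_eq_zero.1 this with e | e
    · exact a1 (by linear_combination e)
    · exact a2 (by linear_combination e)
  · rw [ne_eq, P_eq_one_iff (by simp)]
    exact fun h => t0 (by linear_combination -h.2.2)
  · rw [mul_assoc, commute_Φ σ (by simp) (by simp) (by simp) (by simp) (by simp), ← mul_assoc,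
      ← mul_assoc, mul_left_inj]
    exact (P_comm_iff da (by simp)).2 ⟨1, by simp⟩
  · have e4 : (P (0 : F) (-1) 1 0)⁻¹ = P 0 (-1) 1 0 := inv_eq_of_mul_eq_one_left
      (P_sq_one dw (by simp))
    rw [← mul_assoc]
    nth_rewrite 2 [← e4]
    rw [e2, mul_assoc, ← mul_assoc (Φ σ), Φ_mul_P σ da, mul_assoc, Φ_mul_self h2, mul_one,
      P_mul (by simpa) (by simpa), ne_eq, P_eq_one_iff (by simp [a0])]
    exact fun h => a1 (by simpa using h.2.2)
  · rw [P_diag_mul i0 i0, ← hi]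
  · rw [P_mul dz dz]
    exact P_congr dw 2 t0 (by ring) (by ring) (by ring) (by ring)
  · rw [e3, pow_succ, sq, P_mul dy dy, P_mul (det_mul_ne dy dy) dy,
      P_eq_one_iff (det_mul_ne (det_mul_ne dy dy) dy)]
    exact ⟨by linear_combination i * hi, by linear_combination -hi,
      by linear_combination (1 - i) * hi⟩
  · rw [e3, ne_eq, P_comm_iff dy (by simp)]
    rintro ⟨k, -, -, e4, e5⟩
    exact t0 (by linear_combination e5 - e4 - 2 * e5 + 2 * e5)

/-- the action on a normal `PSL₂` with trivial centralizer -/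
theorem exists_hom {G : Type*} [Group G] (L : Subgroup G) [L.Normal] (e : L ≃* PSL(2, F))
    (hC : Subgroup.centralizer (L : Set G) = ⊥) :
    ∃ f : G →* Au F, Function.Injective f ∧ L.map f = In F := by
  let φ : G →* MulAut PSL(2, F) := (MulAut.congr e).toMonoidHom.comp MulAut.conjNormal
  have hφ : ∀ g y, φ g (e y) = e (MulAut.conjNormal g y) := fun g y => by simp [φ]
  have e3 : ∀ z : L, φ z = MulAut.conj (e z) := fun z => MulEquiv.ext fun y => by
    obtain ⟨y, rfl⟩ := e.surjective y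
    rw [hφ, MulAut.conj_apply, ← map_inv, ← map_mul, ← map_mul]
    rfl
  refine ⟨φ, (injective_iff_map_eq_one _).2 fun g hg => ?_, le_antisymm ?_ ?_⟩
  · rw [← Subgroup.mem_bot, ← hC]
    refine Subgroup.mem_centralizer_iff.2 fun y hy => ?_
    have := congrArg Subtype.val (e.injective ((hφ g ⟨y, hy⟩).symm.trans (by rw [hg]; rfl)))
    rw [MulAut.conjNormal_apply] at this
    exact (mul_inv_eq_iff_eq_mul.1 this).symm
  · rintro _ ⟨z, hz, rfl⟩
    exact ⟨_, (e3 ⟨z, hz⟩).symm⟩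
  · rintro _ ⟨z, rfl⟩
    obtain ⟨z, rfl⟩ := e.surjective z
    exact ⟨z, z.2, e3 z⟩

/-- `Dg ≅ PGL₂` -/
noncomputable def dgEquiv : Dg F ≃* PGL(2, F) :=
  (QuotientGroup.quotientKerEquivRange _).symm.trans
    (QuotientGroup.quotientMulEquivOfEq (ker_pDiag (by simp)))

theorem top_or_pgl {G : Type*} [Group G] {L : Subgroup G} {f : G →* Au F}
    (hf : Function.Injective f) (hL : L.map f = In F) (h : f.range ≤ Dg F) :
    L = ⊤ ∨ (Nonempty (G ≃* PGL(2, F)) ∧ ringChar F ≠ 2) := by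
  rcases eq_or_eq (hL ▸ Subgroup.map_le_range f L) h with e | ⟨e, h2⟩
  · refine .inl (Subgroup.map_injective hf ?_)
    rw [hL, ← e, MonoidHom.range_eq_map]
  · exact .inr ⟨⟨(MonoidHom.ofInjective hf).trans ((MulEquiv.subgroupCongr e).trans dgEquiv)⟩, h2⟩

/-- almost simple groups with socle `PSL₂(q)` -/
theorem main {G : Type*} [Group G] (L : Subgroup G) [L.Normal] (e : L ≃* PSL(2, F))
    (hC : Subgroup.centralizer (L : Set G) = ⊥) (h4 : Nat.card F ≠ 4) :
    L = ⊤ ∨ (Nonempty (G ≃* PGL(2, F)) ∧ ringChar F ≠ 2) ∨ CA ⊤ L ∨ CB (⊤ : Subgroup G) ∨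
      CC (⊤ : Subgroup G) := by
  obtain ⟨f, hf, hL⟩ := exists_hom L e hC
  have hΓ : In F ≤ f.range := hL ▸ Subgroup.map_le_range f L
  rcases tri hΓ with h | ⟨σ, hp, h⟩ | ⟨hc, -, σ, h2, h⟩
  · exact (top_or_pgl hf hL h).imp_right .inl
  · by_cases h2 : orderOf σ = 2
    · exact .inr (.inr (.inr (.inl ((confB hΓ h2 h h4).comap hf))))
    · exact .inr (.inr (.inl (CA.comap hf (hL ▸ confA hΓ hp h2 h))))
  · exact .inr (.inr (.inr (.inr ((confC hΓ hc h2 h).comap hf))))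

end Cfsg.Agent.H20.PG
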