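import Cfsg.Agent.GW.Sv
import Cfsg.Agent.H20.Simple
import Cfsg.Agent.H27.Real2
import Cfsg.Agent.L0.PSL2
import Cfsg.Agent.H2.Subnormal

/-! Minimal counterexamples to solvability; real elements of `L₂(2ⁿ)`. -/

set_option autoImplicit false
set_option linter.unusedSectionVars false
set_option linter.unusedVariables false
set_option linter.style.haveILetI false

namespace Cfsg.Agent.H20

open Cfsg Cfsg.Agent.FT Subgroup

universe u

theorem sol_of_min (C : ∀ (G : Type u) [Group G], Prop)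
    (hsub : ∀ (G : Type u) [Group G] [Finite G] (N : Subgroup G), C G → C N)
    (hquo : ∀ (G : Type u) [Group G] [Finite G] (N : Subgroup G) [N.Normal] (r : ℕ), r.Prime → Abelem r N → C G → C (G ⧸ N))
    (hsimple : ∀ (G : Type u) [Group G] [Finite G] [IsSimpleGroup G], C G → ¬ Sol (⊤ : Subgroup G) →
      (∀ H : Subgroup G, H ≠ ⊤ → Sol H) → False)
    (G : Type u) [Group G] [Finite G] (hG : C G) : Group.IsSolvable G := by
  induction hn : Nat.card G using Nat.strong_induction_on generalizing G with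
  | _ n ih =>
    rcases subsingleton_or_nontrivial G with h | h
    · infer_instance
    have key (H : Subgroup G) (hH : H ≠ ⊤) : Sol H :=
      ih _ (by rw [← hn, ← card_top (G := G)]; exact card_lt (lt_top_iff_ne_top.2 hH)) H (hsub G H hG) rfl
    by_cases hs : IsSimpleGroup G
    · exact by_contra fun k => hsimple G hG (mt sol_top.1 k) key
    obtain ⟨K, hK, h0, h1⟩ : ∃ N : Subgroup G, N.Normal ∧ N ≠ ⊥ ∧ N ≠ ⊤ := by
      by_contra hcon
      push Not at hcon
      exact hs ⟨fun N hN => or_iff_not_imp_left.2 (hcon N hN)⟩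
    obtain ⟨N, h2, hN⟩ := exists_minNml (M := ⊤) h0 (normalizer_eq_top_iff.2 hK).ge
    haveI : N.Normal := normalizer_eq_top_iff.1 (top_le_iff.1 hN.nrm)
    have h3 := (key K h1).mono h2
    obtain ⟨r, hr, h4⟩ := hN.abelem h3
    exact (Group.isSolvable_iff_subgroup_quotient N).2
      ⟨h3, ih _ (hn ▸ H2.card_quotient_lt_of_ne_bot hN.ne) (G ⧸ N) (hquo G N r hr h4 hG) rfl⟩

theorem real_s2 {F : Type*} [Field F] [Fintype F] (h2 : (2 : F) = 0) (g : L0.S2 F) : IsConj g g⁻¹ := by
  haveI : CharP F 2 := (CharP.charP_iff_prime_eq_zero Nat.prime_two).2 (by exact_mod_cast h2)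
  have k (h : L0.pj g ^ 2 = 1) : IsConj g g⁻¹ := by
    rw [← map_pow, ← map_one L0.pj] at h
    rw [inv_eq_of_mul_eq_one_right ((sq g).symm.trans (L0.pj_injective h2 h))]
  by_cases h : (g : L0.M2 F).trace = 0
  · exact k (L0.pj_sq_of_trace_zero h)
  have h4 : (g : L0.M2 F).trace ^ 2 ≠ 4 := fun e =>
    h (pow_eq_zero_iff two_ne_zero |>.1 (e.trans (by linear_combination 2 * h2)))
  rcases L0.s2_cases g with e | ⟨z, e⟩ | ⟨a, -, e⟩ | ⟨c, -, e⟩
  · exact k (by rw [L0.pj_eq_one_iff'.2 e, one_pow])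
  · exact k (L0.pj_pow_char_of_jb 2 e)
  · exact L0.isConj_of_trace_s2 (L0.detFull_of_isConj_ds e) h4 (L0.trace_inv_s2 g)
  · exact L0.isConj_of_trace_s2 (L0.detFull_of_isConj_elS e) h4 (L0.trace_inv_s2 g)

theorem real_of_psl {G F : Type*} [Group G] [Field F] [Fintype F] (h2 : 2 ∣ Fintype.card F)
    (e : G ≃* Matrix.ProjectiveSpecialLinearGroup (Fin 2) F) (g : G) : IsConj g g⁻¹ := by
  have h := L0.two_eq_zero_of_even h2
  let f := e.trans (L0.pjEquiv h).symm
  simpa using f.symm.toMonoidHom.map_isConj (real_s2 h (f g))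

end Cfsg.Agent.H20
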