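import Mathlib
import Cfsg.Agent.H20.RG1
import Cfsg.Agent.H22.Off
import Cfsg.Agent.FT.BG03a
import Cfsg.Agent.S2904

/-! Modules over `𝔽₂` in which every vector has a `2`-closed stabilizer of odd index. -/

set_option autoImplicit false
set_option linter.unusedSectionVars false

namespace Cfsg.Agent.H20.RG

open Subgroup Cfsg.Agent.FT Cfsg.Agent.GW
open scoped commutatorElement

theorem schur {V : Type*} [CommGroup V] (y : MulAut V) (irr : ∀ U : Subgroup V, (∀ u ∈ U, y u ∈ U) → U = ⊥ ∨ U = ⊤)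
    {c d : MulAut V} (hc : c * y = y * c) (hd : d * y = y * d) : c * d = d * c := by
  rcases subsingleton_or_nontrivial V with _ | _
  · exact MulEquiv.ext fun _ => Subsingleton.elim _ _
  obtain ⟨v, hv⟩ := exists_ne (1 : V)
  let P : Subgroup V :=
    { carrier := {w | ∃ f : V →* V, (∀ k : MulAut V, k * y = y * k → ∀ a, f (k a) = k (f a)) ∧ f v = w}
      mul_mem' := by
        rintro _ _ ⟨f, hf, rfl⟩ ⟨g, hg, rfl⟩
        exact ⟨f * g, fun k hk a => by simp [hf k hk, hg k hk], rfl⟩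
      one_mem' := ⟨1, fun k _ a => by simp, rfl⟩
      inv_mem' := by
        rintro _ ⟨f, hf, rfl⟩
        exact ⟨f⁻¹, fun k hk a => by simp [hf k hk], rfl⟩ }
  have hP : P = ⊤ := (irr P (by
    rintro _ ⟨f, hf, rfl⟩
    exact ⟨y.toMonoidHom.comp f, fun k hk a => by
      simpa [hf k hk] using (congrArg (fun e : MulAut V => e (f a)) hk).symm, rfl⟩)).resolve_left
    (ne_bot_of_mem (show v ∈ P from ⟨MonoidHom.id V, fun _ _ _ => rfl, rfl⟩) hv)
  obtain ⟨f, hf, e⟩ : c v ∈ P := hP.ge (mem_top _)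
  have hQ : f.eqLocus c.toMonoidHom = ⊤ := (irr _ fun u (hu : f u = c u) => show f (y u) = c (y u) by
    rw [hf y rfl, hu]; exact (congrArg (fun e : MulAut V => e u) hc).symm).resolve_left (ne_bot_of_mem e hv)
  have q : ∀ a, f a = c a := fun a => hQ.ge (mem_top a)
  exact MulEquiv.ext fun a => by simp [← q, hf d hd]

variable {G : Type*} [Group G] [Finite G] {A C H K L M P R S T U V W : Subgroup G} {a b c e g k s t u v x y z : G}

theorem schur' (hV : Ab V) (hy : y ∈ N(V)) (irr : ∀ U ≤ V, y ∈ N(U) → U = ⊥ ∨ U = V) (hK : K ≤ N(V)) (hc : K ≤ C[y]) :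
    ⁅K, K⁆ ≤ C(V) := by
  letI : CommGroup V := { (inferInstance : Group V) with mul_comm := fun a b => Subtype.ext (hV.comm a.2 b.2) }
  have cm : ∀ k ∈ K, pfun (autHom V) k * pfun (autHom V) y = pfun (autHom V) y * pfun (autHom V) k := fun k hk => by
    rw [← pfun_mul _ (hK hk) hy, mem_cen1.1 (hc hk), pfun_mul _ hy (hK hk)]
  rw [← pker_autHom, commutator_le]
  intro c hc d hd
  refine (pfun_eq_one_iff (hK (der_le K (commutator_mem_commutator hc hd)))).1 ?_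
  rw [pfun_comm _ (hK hc) (hK hd), commutatorElement_eq_one_iff_mul_comm]
  refine schur (pfun (autHom V) y) (fun U hU => ?_) (cm c hc) (cm d hd)
  refine (irr (U.map V.subtype) (map_subtype_le U) (mem_nrm.2 ?_)).imp (fun e => ?_) fun e => ?_
  · rintro _ ⟨u, hu, rfl⟩
    exact ⟨_, hU u hu, pfun_autHom hy u⟩
  · rw [← so_map U, e, bot_subgroupOf]
  · rw [← so_map U, e, subgroupOf_self]

theorem card_sq (hU : Abelem 2 U) (hg : g ∈ N(U)) (ha : a ∈ N(U)) (g2 : g * g ∈ C(U)) (i : g * a * g⁻¹ = a⁻¹)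
    (o : Odd (orderOf a)) (f : U ⊓ C[a] = ⊥) : #U = #(U ⊓ C[g]) ^ 2 := by
  refine le_antisymm ?_ ?_
  · rw [← P22.card_comm_zp hU.ab hg, sq]
    refine Nat.mul_le_mul_right _ (card_le (P22.comm_zp_le inf_le_left (hU.ab.norms inf_le_left) fun v hv => ?_))
    have m := conj_mem hg (inv_mem hv)
    refine mem_inf.2 ⟨by simpa only [commutatorElement_def, mul_assoc] using mul_mem hv m, mem_cen1.2 ?_⟩
    have e : ∀ w ∈ U, w⁻¹ = w := fun w hw => inv_eq_of_mul_eq_one_right (by rw [← sq, hU.pow hw])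
    rw [commutatorElement_def, e v hv] at *
    calc v * g * v * g⁻¹ * g = v * (g * v * g⁻¹) * g := by group
      _ = g * v * g⁻¹ * v * g := by rw [hU.ab.comm hv m]
      _ = g * v * g⁻¹ * (v * (g * g)) * g⁻¹ := by group
      _ = _ := by rw [mem_cen.1 g2 v hv]; group
  · have := card_mul_le (M := U) (A := U ⊓ C[g]) (B := cj a (U ⊓ C[g])) inf_le_left (cj_le_of_nrm ha inf_le_left)
    rwa [card_cj, ← sq, eq_bot_of_le (le_inf (inf_le_left.trans inf_le_left) ?_) f, card_bot', mul_one] at this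
    rw [cj_inf, cj_cen1]
    intro v hv
    refine cen1_comm.1 (mem_of_sq_mem o ?_)
    have := mul_mem (cen1_comm.1 hv.2.2) (inv_mem (cen1_comm.1 hv.1.2))
    rwa [show a * g * a⁻¹ * g⁻¹ = a * (g * a * g⁻¹)⁻¹ by group, i, inv_inv] at this

theorem fpf_dvd (hx : (orderOf x).Prime) (hn : x ∈ N(U)) (f : U ⊓ C[x] = ⊥) : orderOf x ∣ #U - 1 :=
  card_zpowers' x ▸ (semiReg_of_prime (card_zpowers' x ▸ hx) (by rwa [cen_zpowers])).dvd_pred (zpowers_le.2 hn)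

open Classical in
theorem card_sharp [Fintype G] (W : Subgroup G) : (Finset.univ.filter fun v => v ∈ W ∧ v ≠ 1).card = #W - 1 := by
  rw [show (Finset.univ.filter fun v => v ∈ W ∧ v ≠ 1) = (Finset.univ.filter (· ∈ W)).erase 1 by ext; simp [and_comm],
    Finset.card_erase_of_mem (by simp), Nat.card_eq_fintype_card, Fintype.card_subtype]

structure HM (σ : Set ℕ) (V M : Subgroup G) : Prop where
  two : 2 ∉ σ
  ab : Abelem 2 V
  ne : V ≠ ⊥
  nrm : M ≤ N(V)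
  fai : M ⊓ C(V) = ⊥
  idx : ∀ v ∈ V, v ≠ 1 → PiNat σ (C[v].relIndex M)
  fix : ∀ x ∈ M, ∀ g ∈ M, Op x → g * x * g⁻¹ = x⁻¹ → V ⊓ C[x] = ⊥
  real : ∀ x ∈ M, ∀ g ∈ M, Op x → g * x * g⁻¹ = x⁻¹ → PiNat σᶜ (C[x].relIndex M)

namespace HM

variable {σ : Set ℕ}

theorem pg (h : HM σ V M) : PGrp 2 V := h.ab.pGrp Nat.prime_two

theorem exs (h : HM σ V M) {p : ℕ} (hp : p ∉ σ) (hv : v ∈ V) (h1 : v ≠ 1) : ∃ S, Syl p S M ∧ S ≤ M ⊓ C[v] :=
  (p'nat_relIndex_iff inf_le_left).1 (by rw [inf_relIndex_left]; exact (h.idx v hv h1).p'_of_not_mem hp)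

theorem cl (h : HM σ V M) (hv : v ∈ V) (h1 : v ≠ 1) (hS : Syl 2 S M) (l : S ≤ C[v]) : M ⊓ C[v] ≤ N(S) :=
  closed (hS.subl_inf l) fun x hx g hg ox i => h1 (eq_one_of_mem_inf (h.fix x hx.1 g hg.1 ox i) hv (cen1_comm.1 hx.2))

theorem core (h : HM σ V M) : O[{2}](M) = ⊥ :=
  eq_bot_of_le (le_inf (pcore_le _ _) (le_cen_iff_forall.2 fun v hv => by
    by_cases h1 : v = 1
    · simp [h1, cen1_one]
    · obtain ⟨S, hS, l⟩ := h.exs h.two hv h1
      exact (pcore_le_syl hS).trans (l.trans inf_le_right))) h.fai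

theorem fx (h : HM σ V M) (hP : PGrp 2 P) (l : P ≤ M) : V ⊓ C(P) ≠ ⊥ := hP.meet_cen h.pg (l.trans h.nrm) h.ne

theorem n2 (h : HM σ V M) (hS : Syl 2 S M) : PiNat σ (N(S).relIndex M) := by
  obtain ⟨v, hv, h1⟩ := exists_ne_one (h.fx hS.pi hS.le)
  exact (h.idx v hv.1 h1).of_dvd (inf_relIndex_left M C[v] ▸ relIndex_dvd_of_le (h.cl hv.1 h1 hS (le_cen1.2 hv.2)) M)

theorem tr (h : HM σ V M) (hx : x ∈ M) (hg : g ∈ M) (ox : Op x) (i : g * x * g⁻¹ = x⁻¹) (hS : Syl 2 S M) :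
    MulEq (M ⊓ C[x]) (M ⊓ N(S)) M :=
  mulEq_of_coprime_relIndex inf_le_left inf_le_left (by
    rw [inf_relIndex_left, inf_relIndex_left]
    exact (h.real x hx g hg ox i).coprime' (h.n2 hS))

theorem mem (h : HM σ V M) (hx : x ∈ M) (hg : g ∈ M) (ox : Op x) (i : g * x * g⁻¹ = x⁻¹) : orderOf x ∈ σ :=
  by_contra fun c => by
    obtain ⟨v, hv, h1⟩ := exists_ne_one h.ne
    obtain ⟨S, hS, l⟩ := h.exs c hv h1
    obtain ⟨m, hm, e⟩ := hS.syl_elt hx ox.pElt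
    refine conj_ne_one.2 h1 (eq_one_of_mem_inf (h.fix x hx g hg ox i) (conj_mem (h.nrm (inv_mem hm)) hv) ?_)
    rw [cen1_comm, ← cj_cen1, mem_cj, inv_inv]
    exact (l e).2

theorem count (h : HM σ V M) (hS : Syl 2 S M) : N(S).relIndex M * (#(V ⊓ C(S)) - 1) = #V - 1 := by
  classical
  have := Fintype.ofFinite G
  have := Finset.card_mul_eq_card_mul (s := Finset.univ.filter (· ∈ M))
    (t := Finset.univ.filter fun v => v ∈ V ∧ v ≠ 1) (fun g v => v ∈ cj g C(S)) (m := #(V ⊓ C(S)) - 1)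
    (n := #(N(S) ⊓ M)) (fun g hg => by
      rw [← card_cj g, cj_inf, cj_of_mem_nrm (h.nrm (by simpa using hg)), ← card_sharp]
      congr 1
      ext v
      simp [and_assoc, and_comm, and_left_comm]) fun v hv => by
      simp only [Finset.mem_filter, Finset.mem_univ, true_and] at hv
      obtain ⟨T, hT, l⟩ := h.exs h.two hv.1 hv.2
      obtain ⟨k, hk, rfl⟩ := hS.syl_trans hT
      rw [Nat.card_eq_fintype_card, Fintype.card_subtype]
      refine Finset.card_equiv (Equiv.mulLeft k⁻¹) fun g => ?_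
      simp only [Finset.mem_bipartiteBelow, Finset.mem_filter, Finset.mem_univ, true_and, Equiv.coe_mulLeft, mem_inf,
        mul_mem_cancel_left (inv_mem hk), and_comm, ← cj_eq_cj_iff, cj_cen, ← le_cen1]
      refine and_congr_right fun hg => ⟨fun c => ?_, fun c => c ▸ l.trans inf_le_right⟩
      exact ((hT.subl l inf_le_left).uniq_of_nml (h.cl hv.1 hv.2 hT (l.trans inf_le_right)) ((hS.cj_mem hg).subl_inf c))
  rw [card_sharp, ← Fintype.card_subtype, ← Nat.card_eq_fintype_card, ← card_inf_mul_relIndex N(S) M, mul_assoc,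
    mul_comm (#V - 1)] at this
  exact Nat.eq_of_mul_eq_mul_left (card_pos _) this

theorem two_elt (hg : g ∈ M) (i : g * x * g⁻¹ = x⁻¹) : ∃ t ∈ M, PiElt {2} t ∧ t * x * t⁻¹ = x⁻¹ :=
  let ⟨t, h1, ⟨_, h2⟩, h3⟩ := H27.exists_two_elt_inverts i
  ⟨t, zpowers_le.2 hg h1, H27.pElt_of_orderOf Nat.prime_two h2, h3⟩

theorem six (h : HM σ V M) (h6 : #V = 64) (hx : x ∈ M) (hg : g ∈ M) (ox : Op x) (i : g * x * g⁻¹ = x⁻¹) :
    Odd #(M ⊓ C[x]) := by_contra fun o => by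
  obtain ⟨t, ht, pt, i⟩ := two_elt hg i
  obtain ⟨R, hR, n, -⟩ := pt.zpowers.exists_syl_norms (K := M ⊓ C[x])
    (normsI (zpowers_le.2 (le_nrm M ht)) (zpowers_le.2 (H27.mem_nrm_cen1_of_inverts i)))
  obtain ⟨e, he, ie⟩ := (hR.pi.inf_left _).exists_elt (pt.zpowers.meet_cen hR.pi n fun e =>
    o (Nat.odd_iff.2 (Nat.two_dvd_ne_zero.1 ((hR.syl_eq_bot_iff Nat.prime_two).1 e))))
  have eM := hR.le he.1
  obtain ⟨a, ha, oa, ia⟩ := bs ie eM.1 fun c => Invo.ne ie (by rwa [h.core] at c)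
  have c1 := card_sq h.ab (h.nrm eM.1) (h.nrm ha) (by rw [Invo.sq ie]; exact one_mem _) ia oa.odd (h.fix a ha e eM.1 oa ia)
  have nx : x ∈ N(V ⊓ C[e]) := normsI (zpowers_le.2 (h.nrm hx)) (norms_cen1 (zpowers_le.2 (cen1_comm.1 eM.2)))
    (mem_zpowers x)
  have nt : ⟪t⟫ ≤ N(V ⊓ C[e]) := normsI (zpowers_le.2 (h.nrm ht)) (norms_cen1 (le_cen1.2 he.2))
  have l : V ⊓ C[e] ≤ V := inf_le_left
  generalize V ⊓ C[e] = W at c1 nx nt l
  have c8 : #W = 8 := Nat.pow_left_injective two_ne_zero (show #W ^ 2 = 8 ^ 2 by rw [← c1, h6])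
  have f := h.fix x hx g hg ox ‹_›
  have tt : t * t ∈ ⟪t⟫ := mul_mem (mem_zpowers t) (mem_zpowers t)
  have xt : x ∈ C[t * t] := mem_cen1.2 (by
    calc x * (t * t) = (t * x * t⁻¹)⁻¹ * (t * t) := by rw [i, inv_inv]
      _ = t * x⁻¹ * t := by group
      _ = _ := by rw [← i]; group)
  have nx' : x ∈ N(W ⊓ C[t * t]) := normsI (zpowers_le.2 nx) (norms_cen1 (zpowers_le.2 xt)) (mem_zpowers x)
  have f' := eq_bot_of_le (inf_le_inf_right _ (inf_le_left.trans l : W ⊓ C[t * t] ≤ V)) f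
  have c2 := card_sq (h.ab.mono (inf_le_left.trans l)) (normsI nt (norms_cen1 ((zpowers_le_cen1 t).trans
    (cen1_le_cen1_of_mem_zpowers tt))) (mem_zpowers t)) nx' (le_cen1.1 inf_le_right) i ox.odd f'
  have d1 := fpf_dvd ox.1 nx (eq_bot_of_le (inf_le_inf_right _ l) f)
  have d2 := fpf_dvd ox.1 nx' f'
  have d3 := one_lt_card ((pt.of_mem_zpowers tt).zpowers.meet_cen (h.pg.mono l) ((zpowers_le.2 tt).trans nt)
    (ne_bot_of_one_lt_card (by omega)))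
  have d4 := card_le (inf_le_left : W ⊓ C[t * t] ≤ W)
  rw [c8] at d1 d4
  rw [(Nat.prime_dvd_prime_iff_eq ox.1 (by norm_num)).1 d1, c2] at d2
  rw [cen_zpowers, c2] at d3
  rw [c2] at d4
  generalize #(W ⊓ C[t * t] ⊓ C[t]) = k at d2 d3 d4
  have : k ≤ 2 := by nlinarith
  interval_cases k <;> simp_all

theorem sol6 (h : HM σ V M) (h6 : #V = 64) : Sol M := by
  by_cases o : Odd #M
  · exact sol_odd o
  obtain ⟨z, hz⟩ := exists_zc o
  have ha : HA M := ⟨h.core, fun s hs x hx _ ox i S hS => h.tr hx hs ox i hS, fun s hs x hx _ ox i => h.six h6 hx hs ox i⟩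
  have n := (zpowers_le.2 hz.mem).trans (pcore_nrm {2}ᶜ M)
  rw [← (coprime_cent_prod_of_le (pcore_le _ _) n (hz.1.cop (odd_core M)) (.inr (sol_zpowers z)) (ha.zs hz)).sup]
  obtain ⟨S, hS⟩ := exists_syl 2 (M ⊓ C(⟪z⟫))
  refine (sol_odd (odd_core M)).sup (sol_closed hS (closed hS fun x hx g hg ox i => hz.1.not_mem_odd
    (h.six h6 hx.1 hg.1 ox i) ⟨hz.mem, ?_⟩)) (inf_le_left.trans (pcore_nrm _ _))
  exact cen1_comm.1 (cen_zpowers z ▸ hx.2)

theorem irr (h : HM σ V M) {l D : ℕ} (hl : l.Prime) (l2 : l ≠ 2) (hD : #V = 2 ^ D) (hz : ∀ k, 0 < k → k < D → ¬ l ∣ 2 ^ k - 1)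
    (hy : y ∈ M) (o : orderOf y = l) (hU : U ≤ V) (n : y ∈ N(U)) : U = ⊥ ∨ U = V := by
  have key : ∀ U ≤ V, y ∈ N(U) → U ⊓ C[y] = ⊥ → U = ⊥ ∨ U = V := fun U hU n f => by
    obtain ⟨k, hk⟩ := (h.pg.mono hU).card
    have d := fpf_dvd (o ▸ hl) n f
    rw [o, hk] at d
    rcases k.eq_zero_or_pos with rfl | p
    · exact .inl (eq_bot_iff_card'.2 hk)
    · exact .inr (eq_of_card_le hU (by
        rw [hk, hD]; exact Nat.pow_le_pow_right two_pos (not_lt.1 fun c => hz k p c d)))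
  have n' := zpowers_le.2 (h.nrm hy)
  have t := coprime_abel_cent_TI n' (h.pg.cop_of_ne (pGrp_of_card_prime hl ((card_zpowers' y).trans o)) l2.symm) h.ab.ab
  rw [cen_zpowers] at t
  rcases key _ (comm_le_left n') (norm_comm_right _ _ (mem_zpowers y)) t with e | e
  · exact absurd (eq_one_of_mem_inf h.fai hy (comm_eq_bot'.1 e (mem_zpowers y))) fun c => hl.ne_one (by simp [← o, c])
  · exact key U hU n (eq_bot_of_le (inf_le_inf_right _ (hU.trans e.ge)) t)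

theorem sol (h : HM σ V M) : Sol M := by
  obtain ⟨S, hS⟩ := exists_syl 2 M
  by_cases hn : M ≤ N(S)
  · exact sol_closed hS hn
  by_cases h6 : #V = 64
  · exact h.sol6 h6
  obtain ⟨D, hD⟩ := h.pg.card
  obtain ⟨f, hf⟩ := (h.pg.inf_left C(S)).card
  have f0 : 0 < f := Nat.pos_of_ne_zero fun c => h.fx hS.pi hS.le (eq_bot_iff_card'.2 (by rw [hf, c, pow_zero]))
  have fD : f < D := (Nat.pow_lt_pow_iff_right one_lt_two).1 (hf ▸ hD ▸ card_lt (lt_of_le_of_ne inf_le_left fun c =>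
    hn (eq_bot_of_le (le_inf hS.le (centsC (c.ge.trans inf_le_right))) h.fai ▸ norms_bot M)))
  obtain ⟨l, hl, d, hz⟩ := S2904.result 2 D one_lt_two (by omega) (fun c => h6 (by rw [hD, c.2]; rfl)) fun ⟨_, m, c⟩ => by
    rcases m with _ | _ | m <;> omega
  have l2 : l ≠ 2 := fun c => by
    obtain ⟨D, rfl⟩ := Nat.exists_eq_add_one_of_ne_zero (show D ≠ 0 by omega)
    have := Nat.two_pow_pos D
    subst c
    omega
  rw [← hD, ← h.count hS, hf] at d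
  have d := (hl.dvd_mul.1 d).resolve_right (hz f f0 fD)
  have lσ := (h.n2 hS).mem hl d
  obtain ⟨x, hx, g, hg, ox, i⟩ : ∃ x ∈ M, ∃ g ∈ M, Op x ∧ g * x * g⁻¹ = x⁻¹ := by_contra fun c =>
    hn (closed hS fun x hx g hg ox i => c ⟨x, hx, g, hg, ox, i⟩)
  obtain ⟨L, hL, Lx⟩ := (p'nat_relIndex_iff (inf_le_left : M ⊓ C[x] ≤ M)).1 (by
    rw [inf_relIndex_left]; exact (h.real x hx g hg ox i).p'_of_mem lσ)
  have L1 : L ≠ ⊥ := hL.syl_ne_bot (mem_piOf.2 ⟨hl, d.trans (relIndex_dvd _ _)⟩)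
  obtain ⟨y, hy, o⟩ := (hL.pi.inf_left _).exists_elt (hL.pi.center_ne_bot L1)
  have yM := hL.le hy.1
  have oy : Op y := ⟨o ▸ hl, o ▸ l2⟩
  have ir := fun U => h.irr (U := U) hl l2 hD hz yM o
  have LC : L ≤ M ⊓ C[y] := le_inf hL.le (le_cen1.2 hy.2)
  have CV : M ⊓ C[y] ≤ N(V) := inf_le_left.trans h.nrm
  have reg : SemiReg V (M ⊓ C[y]) := fun c hc c1 =>
    (ir _ inf_le_left (normsI (zpowers_le.2 (h.nrm yM)) (norms_cen1 (zpowers_le.2 (cen1_comm.1 hc.2)))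
      (mem_zpowers y))).resolve_right fun e => c1 (eq_one_of_mem_inf h.fai hc.1 (le_cen1.1 (e.ge.trans inf_le_right)))
  have oC : Odd #(M ⊓ C[y]) := odd_of_no_invo fun e he ie =>
    h.fx ie.pGrp (zpowers_le.2 he.1) (cen_zpowers e ▸ reg e he ie.ne)
  have cL := (odd_regular_Zgroup oC h.ne CV reg).pGrp_cyc hL.pi LC
  have aC : Ab (M ⊓ C[y]) := ab_iff_der.2 (eq_bot_of_le (le_inf ((der_le _).trans inf_le_left)
    (schur' h.ab.ab (h.nrm yM) ir CV inf_le_right)) h.fai)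
  have cen : M ⊓ C(L) = M ⊓ C[y] :=
    le_antisymm (inf_le_inf_left _ (cen_le_cen1 hy.1)) (le_inf inf_le_left (aC.cents LC le_rfl))
  obtain ⟨u, hu, iu⟩ : ∃ u ∈ M, u * y * u⁻¹ = y⁻¹ := by
    have gN : ⟪g⟫ ≤ N(M ⊓ C[x]) :=
      normsI (zpowers_le.2 (le_nrm M hg)) (zpowers_le.2 (H27.mem_nrm_cen1_of_inverts i))
    obtain ⟨c, hc, n, hn, e⟩ := ((hL.subl Lx inf_le_left).frattini (nml_sup_left gN)).symm.mul g
      (mem_sup_right (mem_zpowers g))
    obtain ⟨t, ht, pt, it⟩ := two_elt (M := M ⊓ N(L)) (x := x) ⟨sup_le inf_le_left (zpowers_le.2 hg) hc.1, hc.2⟩ (by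
      rw [← i, e, mul_assoc c n, mem_cen1.1 hn.2]; group)
    obtain ⟨u, hu, iu⟩ := pt.zpowers.exists_elt (zpowers_ne_bot' fun c => ox.ne
      (eq_one_of_inv_comm ox.odd it (by simp [c])))
    have hu := zpowers_le.2 ht hu
    refine ⟨u, hu.1, inverts_of_fpf (Invo.sq iu) hu.2 (cen_zpowers u ▸ ?_) y hy.1⟩
    exact (coprime_cyclic_cent_or (zpowers_le.2 hu.2) (Invo.cop iu (odd_of_le LC oC)) cL hL.pi).resolve_left fun c =>
      Invo.not_mem_odd iu oC (cen.le ⟨hu.1, c (mem_zpowers u)⟩)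
  have ry := h.real y yM u hu oy iu
  refine HB.sol (σ := σ) ⟨l2, L1, hL, cL, cen, aC, oC, ⟨inf_le_left, ?_, by rwa [inf_relIndex_left]⟩,
    fun S hS => h.tr yM hu oy iu hS, h.core, fun x hx g hg => h.mem hx hg⟩
  obtain ⟨v, hv, h1⟩ := exists_ne_one h.ne
  have iv := h.idx v hv h1
  have m := mulEq_of_coprime_relIndex (inf_le_left : M ⊓ C[y] ≤ M) (inf_le_left : M ⊓ C[v] ≤ M) (by
    rw [inf_relIndex_left, inf_relIndex_left]
    exact ry.coprime' iv)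
  refine piGrp_of_relIndex (K := M ⊓ C[v]) ?_ (by rwa [← m.relIndex_right, inf_relIndex_left])
  rw [show M ⊓ C[v] ⊓ (M ⊓ C[y]) = ⊥ from eq_bot_iff.2 fun c hc => by_contra fun c1 =>
    h1 (eq_one_of_mem_inf (reg c hc.2 c1) hv (cen1_comm.1 hc.1.2))]
  exact piGrp_bot σ

end HM

end Cfsg.Agent.H20.RG
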