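import Mathlib
import Cfsg.Agent.H20.RG2
import Cfsg.Agent.H20.Count
import Cfsg.Agent.S3863

/-! Groups whose real class sizes have a disconnected prime graph. -/

set_option autoImplicit false
set_option linter.unusedSectionVars false

namespace Cfsg.Agent.H20.RG

open Subgroup Cfsg.Agent.FT Cfsg.Agent.GW
open scoped commutatorElement Pointwise

variable {G : Type*} [Group G] [Finite G] {A C H K L M P R S T U V W : Subgroup G} {a b c d e g k s t u v w x y z : G}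
  {σ : Set ℕ}

theorem nrmT [H.Normal] : A ≤ N(H) := le_top.trans (nml_top_iff.2 ‹_›).nrm

theorem lift {Y : Type*} [Group Y] [Finite Y] (f : G →* Y) {r : ℕ} (r2 : r ≠ 2) (p : PiElt {r} (f x))
    (i : f g * f x * (f g)⁻¹ = (f x)⁻¹) : ∃ y n : G, PiElt {r} y ∧ n * y * n⁻¹ = y⁻¹ ∧ f y = f x * f x := by
  wlog px : PiElt {r} x generalizing x
  · have e : f (constt {r} x) = f x := by
      have q : f (constt {r}ᶜ x) = 1 := by
        obtain ⟨m, hm⟩ := constt_mem_zpowers {r}ᶜ x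
        refine PiElt.eq_one (π := {r}) (by rw [← hm, map_zpow]; exact p.zpow m) ?_
        exact PiNat.of_dvd (piElt_constt {r}ᶜ x) (orderOf_map_dvd f _)
      nth_rewrite 2 [← constt_mul_compl {r} x]
      rw [map_mul, q, mul_one]
    simpa only [e] using this (x := constt {r} x) (e ▸ p) (e ▸ i) (piElt_constt _ _)
  obtain ⟨P, hP, xP⟩ := px.zpowers.exists_syl (M := ⟪f x⟫.comap f) (zpowers_le.2 (mem_zpowers (f x)))
  obtain ⟨k, hk, n, hn, rfl⟩ := hP.frattini_nrm.mul g (comap_norms f le_rfl (H27.mem_nrm_zpowers_of_inverts i))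
  have i1 : f n * f x * (f n)⁻¹ = (f x)⁻¹ := by
    have := mem_cen1.1 (inv_mem (zpowers_le_cen1 _ hk))
    calc _ = (f k)⁻¹ * (f (k * n) * f x * (f (k * n))⁻¹) * f k := by simp [mul_assoc]
      _ = ((f k)⁻¹ * f x * f k)⁻¹ := by rw [i]; group
      _ = _ := by rw [this]; group
  obtain ⟨j, m, hm, e⟩ := Nat.exists_eq_two_pow_mul_odd (orderOf_pos n).ne'
  have i2 := H27.inverts_pow_odd i1 hm
  have pt : PiElt {2} (n ^ m) := piElt_of_pow_eq_one (piNat_self_pow Nat.prime_two j) (by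
    rw [← pow_mul, mul_comm, ← e, pow_orderOf_eq_one])
  have tN := pow_mem hn.2 m
  rw [← map_pow] at i2
  generalize n ^ m = t at i2 pt tN
  have AN : ⟪t * t⟫ ≤ N(P) := zpowers_le.2 (mul_mem tN tN)
  have AC : ⟪t * t⟫ ≤ C[f x].comap f := zpowers_le.2 (mem_cen1.2 (by
    calc f (t * t) * f x = f t * (f t * f x * (f t)⁻¹) * f t := by simp [mul_assoc]
      _ = (f t * f x * (f t)⁻¹)⁻¹ * f t * f t := by rw [i2]; nth_rewrite 2 [← i2]; group
      _ = _ := by rw [i2]; simp [mul_assoc]))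
  obtain ⟨a, ha, w, hw, e⟩ := (coprime_cent_prod_of_le (N := P ⊓ f.ker) inf_le_left (normsI AN nrmT)
    ((hP.pi.inf_left _).cop_of_ne (pt.mul pt rfl).zpowers r2) (.inr (sol_zpowers _))
    (le_inf (comm_le_left AN) (commutator_le.2 fun a ha b hb => by
      rw [MonoidHom.mem_ker, map_commutatorElement, commutatorElement_eq_one_iff_mul_comm]
      exact (mem_cen1.1 (cen1_le_cen1_of_mem_zpowers (hP.le ha) (AC hb))).symm))).mul x (xP (mem_zpowers x))
  have fw : f w = f x := by rw [e, map_mul, show f a = 1 from ha.2, one_mul]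
  refine ⟨w * (t * w * t⁻¹)⁻¹, t, hP.pi.piElt (mul_mem hw.1 (inv_mem (conj_mem tN hw.1))), ?_, ?_⟩
  · calc _ = t * w * t⁻¹ * (t * t * w * (t * t)⁻¹)⁻¹ := by group
      _ = _ := by rw [mem_cen.1 hw.2 _ (mem_zpowers _)]; group
  · rw [map_mul, map_inv, map_mul, map_mul, map_inv, fw, i2, inv_inv]

/-- the size of the class of `x` -/
noncomputable abbrev ix (x : G) : ℕ := C[x].relIndex ⊤

theorem ix_conj (g x : G) : ix (g * x * g⁻¹) = ix x := by
  rw [ix, ix, ← cj_cen1, ← relIndex_cj g C[x], cj_top]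

theorem f0 (h1 : PiNat σ (ix t)) (h2 : PiNat σᶜ (ix w)) (g : G) : ∃ c ∈ C[w], g * t * g⁻¹ = c * t * c⁻¹ := by
  obtain ⟨c, hc, d, hd, rfl⟩ := (mulEq_of_coprime_relIndex le_top le_top (h2.coprime' h1)).mul g trivial
  exact ⟨c, hc, by rw [mul_assoc c, mem_cen1.1 hd]; group⟩

theorem sq_of_odd (i : g * x * g⁻¹ = x⁻¹) (o : Odd (ix x)) : x * x = 1 :=
  sq x ▸ (S3863.result x (isConj_iff.2 ⟨g, i⟩)).2.1 (relIndex_top_right C[x] ▸ o)

theorem into {p : ℕ} (h : PiNat {p}ᶜ (ix t)) (hx : PiElt {p} x) : ∃ m, x ∈ C[m * t * m⁻¹] := by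
  obtain ⟨S, hS, l⟩ := (p'nat_relIndex_iff le_top).1 h
  obtain ⟨m, -, e⟩ := hS.syl_elt (mem_top x) hx
  exact ⟨m⁻¹, by rw [← cj_cen1, mem_cj, inv_inv]; exact l e⟩

/-- the elements permuting the class of `t` by left multiplication -/
def St (t : G) : Subgroup G where
  carrier := {a | ∀ g, ∃ k, a * (g * t * g⁻¹) = k * t * k⁻¹}
  one_mem' g := ⟨g, one_mul _⟩
  mul_mem' ha hb g := let ⟨k, e⟩ := hb g; let ⟨l, f⟩ := ha k; ⟨l, by rw [mul_assoc, e, f]⟩
  inv_mem' {a} ha := by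
    rw [← mul_inv_eq_one.1 (show a ^ (orderOf a - 1) * a⁻¹⁻¹ = 1 by
      rw [inv_inv, ← pow_succ, Nat.sub_add_cancel (orderOf_pos a), pow_orderOf_eq_one])]
    generalize orderOf a - 1 = n
    induction n with
    | zero => exact fun g => ⟨g, by rw [pow_zero, one_mul]⟩
    | succ n ih => exact fun g => let ⟨k, e⟩ := ha g; let ⟨l, f⟩ := ih k; ⟨l, by rw [pow_succ, mul_assoc, e, f]⟩

instance St_normal (t : G) : (St t).Normal :=
  ⟨fun a ha b g => let ⟨k, e⟩ := ha (b⁻¹ * g); ⟨b * k, by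
    calc _ = b * (a * (b⁻¹ * g * t * (b⁻¹ * g)⁻¹)) * b⁻¹ := by group
      _ = _ := by rw [e]; group⟩⟩

theorem odd_St (o : Odd (ix t)) : Odd #(St t) := odd_of_no_invo fun e he ie => by
  classical
  have := Fintype.ofFinite G
  have := Finset.sum_involution (s := Finset.univ.filter (IsConj t ·)) (f := fun _ => (1 : ZMod 2)) (fun y _ => e * y)
    (fun _ _ => rfl) (fun y _ _ c => Invo.ne ie (by simpa using c)) (fun y hy => by
      simp only [Finset.mem_filter, Finset.mem_univ, true_and, isConj_iff] at hy ⊢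
      obtain ⟨g, rfl⟩ := hy
      exact (he g).imp fun _ e => e.symm) fun y _ => Invo.cancel ie y
  rw [Finset.sum_const, nsmul_eq_mul, mul_one, ZMod.natCast_eq_zero_iff_even] at this
  rw [ix, relIndex_top_right, ← H20.card_isConj_eq_index, Nat.card_eq_fintype_card, Fintype.card_subtype] at o
  exact Nat.not_even_iff_odd.2 o this

theorem St_inv (ht : Invo t) (ha : a ∈ St t) (g : G) : g * t * g⁻¹ * a * (g * t * g⁻¹)⁻¹ = a⁻¹ := by
  obtain ⟨k, e⟩ := ha g
  have := (ht.conj k).sq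
  rw [← e] at this
  rw [(ht.conj g).inv]
  exact eq_inv_of_mul_eq_one_right (by simpa only [mul_assoc] using this)

theorem mem_ncl {y : G} (hy : y ∈ Group.conjugatesOfSet ({t} : Set G)) : ∃ g, g * t * g⁻¹ = y := by
  simpa [Group.mem_conjugatesOfSet_iff, isConj_iff] using hy

theorem abelem_ncl (ht : Invo t) (c : ∀ g, t * (g * t * g⁻¹) = g * t * g⁻¹ * t) : Abelem 2 (normalClosure {t}) := by
  have ab : Ab (normalClosure {t}) := ab_iff.2 (by
    rw [normalClosure, centralizer_closure, closure_le]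
    intro x hx y hy
    obtain ⟨a, rfl⟩ := mem_ncl hx
    obtain ⟨b, rfl⟩ := mem_ncl hy
    calc _ = b * (t * (b⁻¹ * a * t * (b⁻¹ * a)⁻¹)) * b⁻¹ := by group
      _ = _ := by rw [c]; group)
  refine abelem_iff.2 ⟨ab, fun x hx => closure_induction (p := fun x _ => x ^ 2 = 1) (fun y hy => ?_) (one_pow 2)
    (fun a b ha hb e f => by rw [Commute.mul_pow (ab.comm ha hb), e, f, mul_one]) (fun a _ e => by rw [inv_pow, e, inv_one]) hx⟩
  obtain ⟨a, rfl⟩ := mem_ncl hy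
  rw [sq, (ht.conj a).sq]

open SemidirectProduct in
theorem exists_amb.{u} {G : Type u} [Group G] [Finite G] (V : Subgroup G) [V.Normal] :
    ∃ (Y : Type u) (_ : Group Y) (_ : Finite Y) (f : G →* Y) (j : V →* Y), Function.Injective j ∧ j.range.Normal ∧
      (∀ g (v : V), f g ∈ C[j v] ↔ g ∈ C[(v : G)]) ∧ ∀ g, (∀ v : V, g ∈ C[(v : G)]) → f g = 1 := by
  refine ⟨V ⋊[MonoidHom.id _] MulAut V, inferInstance, Finite.of_equiv _ equivProd.symm, inr.comp MulAut.conjNormal, inl,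
    inl_injective, by rw [range_inl_eq_ker_rightHom]; infer_instance, fun g v => ?_, fun g c => ?_⟩
  · rw [mem_cen1, mem_cen1, ← mul_inv_eq_iff_eq_mul, ← mul_inv_eq_iff_eq_mul, MonoidHom.comp_apply, ← map_inv, ← inl_aut,
      inl_injective.eq_iff, Subtype.ext_iff]
    rfl
  · rw [MonoidHom.comp_apply, show MulAut.conjNormal (H := V) g = 1 from
      MulEquiv.ext fun w => Subtype.ext (mul_inv_eq_iff_eq_mul.2 (mem_cen1.1 (c w))), map_one]

structure HG (σ : Set ℕ) (G : Type*) [Group G] : Prop where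
  two : 2 ∉ σ
  di : ∀ x g : G, g * x * g⁻¹ = x⁻¹ → PiNat σ (ix x) ∨ PiNat σᶜ (ix x)

/-- non-central involutions whose class size is a `σ`-number -/
def TT (σ : Set ℕ) (t : G) : Prop := Invo t ∧ PiNat σ (ix t) ∧ ix t ≠ 1

theorem TT.conj (h : TT σ t) (g : G) : TT σ (g * t * g⁻¹) := ⟨h.1.conj g, ix_conj g t ▸ h.2⟩

namespace HG

theorem odd (h : HG σ G) {n : ℕ} (p : PiNat σ n) : Odd n := H27.two'_nat_iff.1 (p.p'_of_not_mem h.two)

theorem f1 (h : HG σ G) (i : g * x * g⁻¹ = x⁻¹) (n : x * x ≠ 1) : PiNat σᶜ (ix x) :=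
  (h.di x g i).resolve_left fun c => n (sq_of_odd i (h.odd c))

theorem f1' (h : HG σ G) (i : g * x * g⁻¹ = x⁻¹) (o : Odd (orderOf x)) : PiNat σᶜ (ix x) := by
  by_cases c : x = 1
  · simp [c, ix, cen1_one, piNat_one]
  · exact h.f1 i fun e => c (eq_one_of_sq o e)

theorem f2 (h : HG σ G) (ht : TT σ t) (hx : x ∈ C[t]) (o : Odd (orderOf x)) (i : g * x * g⁻¹ = x⁻¹) : x = 1 :=
  by_contra fun n => by
    obtain ⟨u, -, pu, i⟩ := HM.two_elt (mem_top g) i
    obtain ⟨m, hm⟩ := into (ht.2.1.p'_of_not_mem h.two) pu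
    obtain ⟨c, hc, e⟩ := f0 ht.2.1 (h.f1' i o) m
    have hs := ht.conj m
    have c1 : x ∈ C[m * t * m⁻¹] := by
      rw [e, ← cj_cen1, mem_cj, mul_assoc, ← mem_cen1.1 hc, inv_mul_cancel_left]
      exact hx
    generalize m * t * m⁻¹ = s at hs c1 hm
    have c2 := mem_cen1.1 c1
    have i2 : u * (s * x) * u⁻¹ = (s * x)⁻¹ := by
      rw [← mul_assoc, mem_cen1.1 hm, ← c2, mul_inv_rev, hs.1.inv, ← i]; group
    have := h.f1 i2 fun c => n (eq_one_of_sq o (by
      rw [← c, mul_assoc s, ← mul_assoc x, c2, mul_assoc s, hs.1.cancel]))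
    have l : C[s * x] ≤ C[s] := (cen1_le_cen1_constt {2} _).trans (by
      rw [constt_mul_of_pi hs.1.pElt (H27.two'_nat_iff.2 o) c2.symm])
    exact hs.2.2 (hs.2.1.eq_one (this.of_dvd (relIndex_dvd_of_le l _)))

theorem solC (h : HG σ G) (ht : TT σ t) : Sol C[t] :=
  let ⟨_, hS⟩ := exists_syl 2 C[t]
  sol_closed hS (closed hS fun _ hx _ _ o i => o.ne (h.f2 ht hx o.odd i))

theorem mem (h : HG σ G) (ht : TT σ t) (o : Op x) (i : g * x * g⁻¹ = x⁻¹) : orderOf x ∈ σ := by_contra fun c =>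
  let ⟨m, hm⟩ := into (ht.2.1.p'_of_not_mem c) o.pElt
  o.ne (h.f2 (ht.conj m) hm o.odd i)

theorem dich (h : HG σ G) (ht : TT σ t) (a b : G) :
    a * t * a⁻¹ * (b * t * b⁻¹) ∈ St t ∨ TT σ (a * t * a⁻¹ * (b * t * b⁻¹)) := by
  have i := (ht.1.conj a).inverts_mul (ht.1.conj b)
  by_cases c : PiNat σᶜ (ix (a * t * a⁻¹ * (b * t * b⁻¹)))
  · refine .inl fun g => ?_
    obtain ⟨c, hc, e⟩ := f0 (ht.conj a).2.1 c (g * a⁻¹)
    refine ⟨c * a * t * a⁻¹ * b, ?_⟩
    calc _ = a * t * a⁻¹ * (b * t * b⁻¹) * (g * a⁻¹ * (a * t * a⁻¹) * (g * a⁻¹)⁻¹) := by group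
      _ = a * t * a⁻¹ * (b * t * b⁻¹) * c * (a * t⁻¹ * a⁻¹) * c⁻¹ := by rw [e, ht.1.inv]; group
      _ = _ := by rw [← mem_cen1.1 hc]; group
  · have p := (h.di _ _ i).resolve_right c
    have n : ix (a * t * a⁻¹ * (b * t * b⁻¹)) ≠ 1 := fun e => c (e ▸ piNat_one _)
    exact .inr ⟨invo_iff.2 ⟨sq_of_odd i (h.odd p), fun e => n (by simp [e, ix, cen1_one])⟩, p, n⟩

theorem case1 (h : HG σ G) (ht : TT σ t) (c : ∀ g, g * t * g⁻¹ * t ∈ St t) : Sol (⊤ : Subgroup G) := by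
  have o := odd_St (h.odd ht.2.1)
  refine ((sol_odd o).sup (h.solC ht) nrmT).mono fun g _ => ?_
  obtain ⟨d, hd, e⟩ := exists_sqrt (odd_orderOf o (c g))
  have dA := zpowers_le.2 (c g) hd
  have i := St_inv ht.1 dA 1
  rw [one_mul, inv_one, mul_one] at i
  rw [← mul_inv_cancel_left d g]
  refine mul_mem_sup dA (mem_cen1.2 ?_)
  calc _ = d⁻¹ * (g * t * g⁻¹ * t) * t⁻¹ * g := by group
    _ = t * (t * (d * t⁻¹)) * g := by rw [← e, ht.1.cancel]; group
    _ = _ := by rw [← mul_assoc t d, i, mul_assoc]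

theorem case2 (h : HG σ G) (ht : TT σ t) (e : s = a * t * a⁻¹ * (b * t * b⁻¹)) (hs : Invo s) (g : G) :
    s * (g * s * g⁻¹) = g * s * g⁻¹ * s := by
  have q : ∀ a b : G, Commute (QuotientGroup.mk' (St t) (a * t * a⁻¹)) (QuotientGroup.mk' (St t) (b * t * b⁻¹)) :=
    fun a b => by
      rw [← commutatorElement_eq_one_iff_commute, ← map_commutatorElement, QuotientGroup.mk'_apply,
        QuotientGroup.eq_one_iff, commutatorElement_def, (ht.1.conj a).inv, (ht.1.conj b).inv, mul_assoc]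
      exact (h.dich ht a b).elim (fun c => mul_mem c c) fun c => c.1.sq ▸ one_mem _
  have m : ⁅s, g * s * g⁻¹⁆ ∈ St t := by
    rw [← QuotientGroup.eq_one_iff, ← QuotientGroup.mk'_apply, map_commutatorElement,
      commutatorElement_eq_one_iff_commute, show g * s * g⁻¹ = g * a * t * (g * a)⁻¹ * (g * b * t * (g * b)⁻¹) by
        rw [e]; group, e, map_mul _ (a * t * a⁻¹), map_mul _ (g * a * t * (g * a)⁻¹)]
    exact ((q _ _).mul_right (q _ _)).mul_left ((q _ _).mul_right (q _ _))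
  refine commutatorElement_eq_one_iff_mul_comm.1 (eq_one_of_inv_comm (u := s)
    (odd_orderOf (odd_St (h.odd ht.2.1)) m) ?_ ?_)
  · rw [commutatorElement_inv, commutatorElement_def, commutatorElement_def, hs.inv, (hs.conj g).inv]
    simp only [← mul_assoc s, hs.sq, one_mul]
  · generalize ⁅s, g * s * g⁻¹⁆ = z at m
    refine mul_inv_eq_iff_eq_mul.1 ?_
    calc _ = a * t * a⁻¹ * (b * t * b⁻¹ * z * (b * t * b⁻¹)⁻¹) * (a * t * a⁻¹)⁻¹ := by rw [e]; group
      _ = _ := by rw [St_inv ht.1 m, St_inv ht.1 (inv_mem m), inv_inv]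

theorem case3 (h : HG σ G) (ht : TT σ t) (c : ∀ g, t * (g * t * g⁻¹) = g * t * g⁻¹ * t) (o : Op x)
    (i : g * x * g⁻¹ = x⁻¹) : ∃ V : Subgroup G, V.Normal ∧ Abelem 2 V ∧ V ≠ ⊥ ∧ ∀ v ∈ V, v ≠ 1 → TT σ v := by
  have ab := abelem_ncl ht.1 c
  have tV : t ∈ normalClosure {t} := subset_normalClosure rfl
  have nW : (normalClosure {t}).Normal := inferInstance
  generalize normalClosure {t} = W at ab tV nW
  have xt : t * (x * t * x⁻¹) ≠ 1 := fun e => o.ne (h.f2 ht (mem_cen1.2 (by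
    rw [← ht.1.cancel (x * t), ← mul_inv_cancel_right (t * (x * t)) x⁻¹, mul_assoc t (x * t), e, one_mul, inv_inv])) o.odd i)
  have sC : t * (x * t * x⁻¹) ∈ ⁅W, ⟪x⟫⁆ := by
    simpa only [commutatorElement_def, ht.1.inv, mul_assoc] using commutator_mem_commutator tV (mem_zpowers x)
  have pW := ab.pGrp Nat.prime_two
  have hs : TT σ (t * (x * t * x⁻¹)) := by
    have := h.dich ht 1 x
    rw [one_mul, inv_one, mul_one] at this
    exact this.resolve_left fun c => xt ((pW.piElt (comm_le_left nrmT sC)).eq_one_of_mem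
      (odd_iff_p'.1 (odd_St (h.odd ht.2.1))) c)
  generalize t * (x * t * x⁻¹) = s at xt sC hs
  have l : normalClosure {s} ≤ ⁅W, ⟪x⟫⁆ := (closure_le _).2 fun y hy => by
    obtain ⟨a, rfl⟩ := mem_ncl hy
    obtain ⟨c, hc, e⟩ := f0 hs.2.1 (h.f1' i o.odd) a
    exact e ▸ conj_mem (normsR nrmT ((cen_zpowers x).ge.trans (cen_le_nrm _)) hc) sC
  have ti := coprime_abel_cent_TI (A := ⟪x⟫) nrmT (pW.cop_of_ne o.pElt.zpowers o.2.symm) ab.ab
  have lW := l.trans (comm_le_left nrmT)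
  refine ⟨normalClosure {s}, inferInstance, ab.mono lW, ne_bot_of_mem (subset_normalClosure rfl) xt, fun v hv v1 => ?_⟩
  have nx : ∀ m, x ∉ C[m * v * m⁻¹] := fun m c => conj_ne_one.2 v1 (eq_one_of_mem_inf ti
    (l (Normal.conj_mem inferInstance v hv m)) (cen_zpowers x ▸ cen1_comm.1 c))
  have iv : Invo v := invo_iff.2 ⟨sq v ▸ ab.pow (lW hv), v1⟩
  exact ⟨iv, (h.di v 1 (by simp [iv.inv])).resolve_right fun c => (into (c.p'_of_mem (h.mem ht o i)) o.pElt).elim nx,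
    fun e => (into (e ▸ piNat_one _) o.pElt).elim nx⟩

end HG

end Cfsg.Agent.H20.RG
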