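import Mathlib
import Cfsg.Agent.H20.RG3

/-! Groups whose real class sizes have a disconnected prime graph are solvable. -/

set_option autoImplicit false
set_option linter.unusedSectionVars false

namespace Cfsg.Agent.H20.RG

open Subgroup Cfsg.Agent.FT Cfsg.Agent.GW
open scoped commutatorElement Pointwise

variable {G : Type*} [Group G] [Finite G] {A C H K L M P R S T U V W : Subgroup G} {a b c d e g k s t u v w x y z : G}
  {σ : Set ℕ}

namespace HG

theorem fin (h : HG σ G) [V.Normal] (ab : Abelem 2 V) (ne : V ≠ ⊥) (tt : ∀ v ∈ V, v ≠ 1 → TT σ v) :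
    Sol (⊤ : Subgroup G) := by
  obtain ⟨Y, _, _, f, j, inj, _, cv, kf⟩ := exists_amb V
  have li : ∀ x g : G, Op (f x) → f g * f x * (f g)⁻¹ = (f x)⁻¹ →
      ∃ y n : G, Odd (orderOf y) ∧ n * y * n⁻¹ = y⁻¹ ∧ f y = f x * f x := fun x g o i =>
    let ⟨y, n, h1, h2⟩ := lift f o.2 o.pElt i
    ⟨y, n, H27.two'_nat_iff.1 (PiNat.p' h1 o.2), h2⟩
  obtain ⟨v, hv, v1⟩ := exists_ne_one ne
  have h1 : Abelem 2 j.range := ab.of_equiv (MonoidHom.ofInjective inj)
  have h2 : j.range ≠ ⊥ := ne_bot_of_mem (MonoidHom.mem_range.2 ⟨⟨v, hv⟩, rfl⟩) fun e =>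
    v1 (congrArg Subtype.val (inj (e.trans (map_one j).symm)))
  have h3 : f.range ⊓ C(j.range) = ⊥ := eq_bot_iff.2 (by
    rintro _ ⟨⟨g, rfl⟩, c⟩
    exact kf g fun w => (cv g w).1 (cen_le_cen1 (MonoidHom.mem_range.2 ⟨w, rfl⟩) c))
  have h4 : ∀ v ∈ j.range, v ≠ 1 → PiNat σ (C[v].relIndex f.range) := by
    rintro _ ⟨w, rfl⟩ w1
    rw [← index_comap, show C[j w].comap f = C[(w : G)] from ext fun g => cv g w, ← relIndex_top_right]
    exact (tt w w.2 fun e => w1 (by rw [show w = 1 from Subtype.ext e, map_one])).2.1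
  have h5 : ∀ x ∈ f.range, ∀ g ∈ f.range, Op x → g * x * g⁻¹ = x⁻¹ → j.range ⊓ C[x] = ⊥ := by
    rintro _ ⟨x, rfl⟩ _ ⟨g, rfl⟩ o i
    obtain ⟨y, n, oy, iy, e⟩ := li x g o i
    refine eq_bot_iff.2 ?_
    rintro _ ⟨⟨w, rfl⟩, c⟩
    by_contra w1
    have c := cen1_comm.1 c
    have := h.f2 (tt w w.2 fun e => w1 (by rw [show w = 1 from Subtype.ext e, map_one]; exact one_mem _))
      ((cv y w).1 (by rw [e]; exact mul_mem c c)) oy iy
    exact o.ne (eq_one_of_sq o.odd (by rw [← e, this, map_one]))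
  have h6 : ∀ x ∈ f.range, ∀ g ∈ f.range, Op x → g * x * g⁻¹ = x⁻¹ → PiNat σᶜ (C[x].relIndex f.range) := by
    rintro _ ⟨x, rfl⟩ _ ⟨g, rfl⟩ o i
    obtain ⟨y, n, oy, iy, e⟩ := li x g o i
    rw [← index_comap, ← relIndex_top_right]
    refine (h.f1' iy oy).of_dvd (relIndex_dvd_of_le (fun c hc => ?_) _)
    rw [mem_comap, cen1_comm]
    refine mem_of_sq_mem o.odd ?_
    rw [← e, mem_cen1, ← map_mul, ← map_mul, mem_cen1.1 hc]
  have hm : HM σ j.range f.range := ⟨h.two, h1, h2, nrmT, h3, h4, h5, h6⟩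
  haveI := hm.sol
  haveI := h.solC (tt v hv v1)
  haveI : Group.IsSolvable G := Group.isSolvable_of_ker_le_range C[v].subtype f.rangeRestrict fun g hg =>
    ⟨⟨g, (cv g ⟨v, hv⟩).1 (by rw [show f g = 1 from congrArg Subtype.val hg]; exact one_mem _)⟩, rfl⟩
  infer_instance

theorem sol (h : HG σ G) (ht : TT σ t) : Sol (⊤ : Subgroup G) := by
  by_cases c : ∀ g, g * t * g⁻¹ * t ∈ St t
  · exact h.case1 ht c
  obtain ⟨a, ha⟩ := not_forall.1 c
  have hs := (h.dich ht a 1).resolve_left (by rwa [one_mul, inv_one, mul_one])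
  obtain ⟨S, hS⟩ := exists_syl 2 (⊤ : Subgroup G)
  by_contra n
  refine n (sol_closed hS (closed hS fun x _ g _ o i => n ?_))
  obtain ⟨V, _, h1, h2, h3⟩ := h.case3 hs (h.case2 ht rfl hs.1) o i
  exact h.fin h1 h2 h3

end HG

end Cfsg.Agent.H20.RG
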