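import Mathlib
import Cfsg.Agent.H20.RG4
import Cfsg.Agent.H2.Cores

/-! The structure of groups whose real class sizes have a disconnected prime graph. -/

set_option autoImplicit false
set_option linter.unusedSectionVars false

namespace Cfsg.Agent.H20.RG

open Subgroup Cfsg.Agent.FT Cfsg.Agent.GW
open scoped commutatorElement Pointwise

variable {G : Type*} [Group G] [Finite G] {A C H K L M P R S T U V W : Subgroup G} {a b c d e g k s t u v w x y z : G}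
  {σ : Set ℕ}

theorem two_mem_core [Group.IsSolvable G] {q : ℕ} (q2 : q ≠ 2)
    (h : ∀ x g : G, Op x → g * x * g⁻¹ = x⁻¹ → orderOf x ≠ q) (ht : PiElt {2} t) : t ∈ piCore {q}ᶜ G := by
  by_contra n
  have pt : PiElt {2} (QuotientGroup.mk' (piCore {q}ᶜ G) t) := PiNat.of_dvd ht (orderOf_map_dvd _ t)
  obtain ⟨s, -, is⟩ := pt.zpowers.exists_elt (zpowers_ne_bot' fun e => n ((QuotientGroup.eq_one_iff t).1 e))
  have c := cent_sub_pcore (M := (⊤ : Subgroup (G ⧸ piCore {q}ᶜ G))) (p := q) inferInstance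
    (by rw [pcore_top, H2.piCore_quotient_self])
  have pQ := pcore_pi {q} (⊤ : Subgroup (G ⧸ piCore {q}ᶜ G))
  have nQ := pcore_nrm {q} (⊤ : Subgroup (G ⧸ piCore {q}ᶜ G))
  generalize O[{q}]((⊤ : Subgroup (G ⧸ piCore {q}ᶜ G))) = Q at c pQ nQ
  have oQ := odd_pGrp pQ q2
  obtain ⟨w, hw, e⟩ : ∃ w ∈ Q, w * (s * w * s⁻¹)⁻¹ ≠ 1 := by_contra fun k =>
    Invo.not_mem_odd is oQ (c ⟨trivial, mem_cen.2 fun w hw => by
      rw [← mul_inv_eq_iff_eq_mul.1 (mul_inv_eq_one.1 (by_contra fun e => k ⟨w, hw, e⟩)).symm]⟩)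
  have hy := mul_mem hw (inv_mem (conj_mem (nQ (mem_top s)) hw))
  have iy : s * (w * (s * w * s⁻¹)⁻¹) * s⁻¹ = (w * (s * w * s⁻¹)⁻¹)⁻¹ := by
    simp [mul_assoc, Invo.inv is, Invo.cancel is, Invo.sq is]
  generalize w * (s * w * s⁻¹)⁻¹ = y at e hy iy
  obtain ⟨y, rfl⟩ := QuotientGroup.mk'_surjective _ y
  obtain ⟨s, rfl⟩ := QuotientGroup.mk'_surjective _ s
  obtain ⟨x, m, px, ix, ex⟩ := lift _ q2 (pQ.piElt hy) iy
  obtain ⟨z, hz, oz⟩ := exists_op (H27.two'_nat_iff.1 (PiNat.p' px q2)) fun c =>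
    e (eq_one_of_sq (odd_orderOf oQ hy) (by rw [← ex, c, map_one]))
  exact h z m oz (H27.inverts_of_mem_zpowers ix hz) (PiNat.eq_prime (px.of_mem_zpowers hz) oz.1 dvd_rfl)

theorem sym (h : ∀ x g : G, g * x * g⁻¹ = x⁻¹ → x * x = 1) (ia : Invo a) (ib : Invo b) (ha : PiNat σ (ix a))
    (hb : PiNat σᶜ (ix b)) (hab : PiNat σᶜ (ix (a * b))) (o : Odd (ix b)) : ix a = 1 := by
  have cm : ∀ u v : G, Invo u → Invo v → u * v = v * u := fun u v hu hv => by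
    rw [eq_inv_of_mul_eq_one_left (h _ _ (hu.inverts_mul hv)), mul_inv_rev, hu.inv, hv.inv]
  rw [ix, relIndex_eq_one]
  intro g _
  have m : a * (g * a * g⁻¹) ∈ St b := fun k => by
    obtain ⟨c, hc, e⟩ := f0 hb (by rwa [compl_compl]) k
    obtain ⟨d, hd, f⟩ := f0 ha hab (c⁻¹ * g)
    refine ⟨c * d, ?_⟩
    calc _ = a * c * (c⁻¹ * g * a * (c⁻¹ * g)⁻¹) * b * c⁻¹ := by rw [e]; group
      _ = c * (a * (d * a * d⁻¹)) * b * c⁻¹ := by rw [f, ← mem_cen1.1 hc]; group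
      _ = c * d * a * (d⁻¹ * (a * b)) * c⁻¹ := by rw [cm _ _ ia (ia.conj d)]; group
      _ = c * d * (a * (a * b)) * d⁻¹ * c⁻¹ := by rw [mem_cen1.1 (inv_mem hd)]; group
      _ = _ := by rw [ia.cancel]; group
  have := eq_one_of_sq (odd_orderOf (odd_St o) m) (h _ _ (ia.inverts_mul (ia.conj g)))
  exact mem_cen1.2 (mul_inv_eq_iff_eq_mul.1 (by rw [eq_inv_of_mul_eq_one_right this, ia.inv]))

/-- the real class sizes -/
abbrev RS (G : Type*) [Group G] : Set ℕ := {n : ℕ | ∃ x : G, IsConj x x⁻¹ ∧ (centralizer ({x} : Set G)).index = n}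

theorem mem_RS (i : g * x * g⁻¹ = x⁻¹) : ix x ∈ RS G := ⟨x, isConj_iff.2 ⟨g, i⟩, (relIndex_top_right _).symm⟩

theorem RS_elim {n : ℕ} (h : n ∈ RS G) : ∃ x g : G, g * x * g⁻¹ = x⁻¹ ∧ ix x = n :=
  let ⟨x, h1, h2⟩ := h
  let ⟨g, i⟩ := isConj_iff.1 h1
  ⟨x, g, i, (relIndex_top_right _).trans h2⟩

/-- the prime graph on the real class sizes is disconnected -/
structure Dis (G : Type*) [Group G] (π ρ : Set ℕ) : Prop where
  l : π.Nonempty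
  r : ρ.Nonempty
  sub : ∀ q ∈ π ∪ ρ, q.Prime ∧ ∃ n ∈ RS G, q ∣ n
  cov : ∀ q : ℕ, q.Prime → (∃ n ∈ RS G, q ∣ n) → q ∈ π ∨ q ∈ ρ
  dis : Disjoint π ρ
  no : ∀ a ∈ π, ∀ b ∈ ρ, ∀ n ∈ RS G, ¬ (a ∣ n ∧ b ∣ n)

namespace Dis

variable {π ρ : Set ℕ}

theorem symm (h : Dis G π ρ) : Dis G ρ π :=
  ⟨h.r, h.l, Set.union_comm π ρ ▸ h.sub, fun q a b => (h.cov q a b).symm, h.dis.symm,
    fun a ha b hb n hn c => h.no b hb a ha n hn c.symm⟩

theorem hg (h : Dis G π ρ) (h2 : 2 ∉ ρ) : HG ρ G ∧ ∃ t : G, TT ρ t := by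
  have hg : HG ρ G := ⟨h2, fun x g i => or_iff_not_imp_right.2 fun c q hq d => (h.cov q hq ⟨_, mem_RS i, d⟩).resolve_left
    fun m => c fun b _ e k => h.no q m b k _ (mem_RS i) ⟨d, e⟩⟩
  obtain ⟨b, hb⟩ := h.r
  obtain ⟨pb, _, hn, d⟩ := h.sub b (.inr hb)
  obtain ⟨t, g, i, rfl⟩ := RS_elim hn
  have p := (hg.di t g i).resolve_right fun c => c.not_dvd pb hb d
  have n : ix t ≠ 1 := fun e => pb.not_dvd_one (e ▸ d)
  exact ⟨hg, t, invo_iff.2 ⟨sq_of_odd i (hg.odd p), fun e => n (by simp [e, ix, cen1_one])⟩, p, n⟩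

theorem ex (h : Dis G π ρ) : ∃ σ, HG σ G ∧ ∃ t : G, TT σ t := by
  by_cases c : 2 ∈ ρ
  · exact ⟨π, h.symm.hg fun e => Set.disjoint_left.1 h.dis e c⟩
  · exact ⟨ρ, h.hg c⟩

theorem sol (h : Dis G π ρ) : Group.IsSolvable G :=
  let ⟨_, h1, _, h2⟩ := h.ex
  haveI := h1.sol h2
  Group.isSolvable_of_surjective (f := (⊤ : Subgroup G).subtype) fun x => ⟨⟨x, trivial⟩, rfl⟩

theorem even (h : Dis G π ρ) : ∃ n ∈ RS G, 2 ∣ n := by_contra fun c => by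
  obtain ⟨h1, a, ha⟩ := h.hg fun e => c (h.sub 2 (.inr e)).2
  obtain ⟨h2, b, hb⟩ := h.symm.hg fun e => c (h.sub 2 (.inl e)).2
  have s : ∀ x g : G, g * x * g⁻¹ = x⁻¹ → x * x = 1 := fun x g i =>
    sq_of_odd i (Nat.odd_iff.2 (Nat.two_dvd_ne_zero.1 fun d => c ⟨_, mem_RS i, d⟩))
  have pb : PiNat ρᶜ (ix b) := hb.2.1.mono h.dis.subset_compl_right
  have i := ha.1.inverts_mul hb.1
  rcases h1.di _ _ i with p | p
  · refine hb.2.2 (sym s hb.1 ha.1 pb (by rw [compl_compl]; exact ha.2.1) ?_ (h1.odd ha.2.1))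
    rwa [compl_compl, ← ix_conj a, ← mul_assoc, mul_inv_cancel_right]
  · exact ha.2.2 (sym s ha.1 hb.1 ha.2.1 pb p (h2.odd hb.2.1))

end Dis

/-- the subgroup generated by the `2`-elements -/
abbrev K2 (G : Type*) [Group G] : Subgroup G := closure {g : G | ∃ k : ℕ, orderOf g = 2 ^ k}

theorem K2_nml : K2 G ⊴ ⊤ := ⟨le_top, norms_closure fun g _ x hx => by rwa [Set.mem_ofPred, FT.orderOf_conj]⟩

theorem mem_K2 (h : PiElt {2} t) : t ∈ K2 G := subset_closure (H27.PiElt.exists_orderOf h)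

theorem ix_sub (x : K) : ix x = C[(x : G)].relIndex K := by
  rw [ix, relIndex_top_right, relIndex]
  congr 1
  ext y
  rw [mem_subgroupOf, mem_cen1, mem_cen1, Subtype.ext_iff]
  rfl

theorem HG.main (h : HG σ G) (ht : TT σ t) (o : Op x) (i : g * x * g⁻¹ = x⁻¹) :
    (∃ n ∈ RS (K2 G), 2 ∣ n) ∧ (∃ q : ℕ, q.Prime ∧ q ≠ 2 ∧ ∃ n ∈ RS (K2 G), q ∣ n) ∧
      ∀ n ∈ RS (K2 G), Odd n ∨ ∃ j, n = 2 ^ j := by
  have dv : ∀ y : K2 G, ix y ∣ ix (y : G) := fun y => ix_sub y ▸ K2_nml.subn.relIndex_dvd _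
  obtain ⟨u, -, pu, i⟩ := HM.two_elt (mem_top g) i
  have xK : x ∈ K2 G := mem_of_sq_mem o.odd (by
    have := mul_mem (K2_nml.conj_mem (mem_top x) (mem_K2 pu)) (inv_mem (mem_K2 pu))
    rwa [show x * u * x⁻¹ * u⁻¹ = x * (u * x * u⁻¹)⁻¹ by group, i, inv_inv] at this)
  refine ⟨?_, ?_, fun n hn => ?_⟩
  · have i' : (⟨u, mem_K2 pu⟩ : K2 G) * ⟨x, xK⟩ * (⟨u, mem_K2 pu⟩ : K2 G)⁻¹ = (⟨x, xK⟩ : K2 G)⁻¹ := Subtype.ext i
    exact ⟨_, mem_RS i', by_contra fun c => o.ne (eq_one_of_sq o.odd (congrArg Subtype.val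
      (sq_of_odd i' (Nat.odd_iff.2 (Nat.two_dvd_ne_zero.1 c)))))⟩
  · have tK := mem_K2 ht.1.pElt
    obtain ⟨q, pq, d⟩ := Nat.exists_prime_and_dvd (show ix (⟨t, tK⟩ : K2 G) ≠ 1 from fun e =>
      o.ne (h.f2 ht (relIndex_eq_one.1 (ix_sub (⟨t, tK⟩ : K2 G) ▸ e) xK) o.odd i))
    exact ⟨q, pq, fun e => h.two (e ▸ ht.2.1.mem pq (d.trans (dv _))), _,
      mem_RS (g := 1) (Subtype.ext (by simp [ht.1.inv])), d⟩
  · obtain ⟨y, g, iy, rfl⟩ := RS_elim hn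
    refine (h.di y g (congrArg Subtype.val iy)).imp (fun p => h.odd (p.of_dvd (dv y))) fun p => ?_
    refine PiNat.exists_pow (fun q pq d => by_contra fun q2 => ?_) (by rw [ix, relIndex_top_right]; exact index_ne_zero_of_finite)
    haveI := h.sol ht
    haveI := Group.isSolvable_of_surjective (f := (⊤ : Subgroup G).subtype) fun x => ⟨⟨x, trivial⟩, rfl⟩
    have l : K2 G ≤ O[{q}ᶜ]((⊤ : Subgroup G)) := (closure_le _).2 fun s ⟨_, hs⟩ => pcore_top (G := G) {q}ᶜ ▸ two_mem_core q2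
      (fun x g o i e => p.mem pq (d.trans (dv y)) (e ▸ h.mem ht o i)) (H27.pElt_of_orderOf Nat.prime_two hs)
    exact ((pcore_pi _ _).mono l).mem pq (d.trans (ix_sub y ▸ relIndex_dvd _ _)) rfl

end Cfsg.Agent.H20.RG
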