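import Mathlib
import Cfsg.Agent.H20.SEc

/-!
Groups without solvable normal subgroups: the rank and the odd core.
-/

set_option autoImplicit false
set_option linter.unusedSectionVars false

namespace Cfsg.Agent.H20.SEc

open Cfsg.Agent.FT Cfsg.Agent.H13 Cfsg.Agent.BS MulAction Pointwise

variable {G : Type*} [Group G] [Finite G] {H K M S : Subgroup G} {t : G}

theorem sol_of_pi (h : PiGrp {2}ᶜ H) : Sol H :=
  odd_order_solvable (Nat.odd_iff.2 (Nat.two_dvd_ne_zero.1 (h.not_dvd Nat.prime_two rfl)))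

theorem oddCore_eq_bot (h : ∀ N : Subgroup G, N ⊴ ⊤ → Sol N → N = ⊥) : oddCore G = ⊥ :=
  h _ (nml_top_iff.2 normal_oddCore) (sol_of_pi pi_oddCore)

theorem rank2_of_rad (hG : ¬ Group.IsSolvable G) (h : ∀ N : Subgroup G, N ⊴ ⊤ → Sol N → N = ⊥) :
    R1.Rank2 G := by
  by_contra h2
  obtain ⟨t, -, ht⟩ := exists_elt_of_prime_dvd Nat.prime_two (two_dvd_of_not_sol hG)
  have e := oddCore_sup_cen h2 ht
  rw [oddCore_eq_bot h, bot_sup_eq] at e
  exact ne_bot_of_prime_card (by rw [card_zpowers', ht]; exact Nat.prime_two)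
    (h ⟪t⟫ ⟨le_top, norms_zpowers_of_cen1 e.ge⟩ (ab_zpowers t).sol)

theorem exists_pair (h2 : R1.Rank2 G) (hS : Syl 2 S ⊤) :
    ∃ x ∈ S, ∃ y ∈ S, orderOf x = 2 ∧ orderOf y = 2 ∧ x ≠ y ∧ x * y = y * x := by
  obtain ⟨x, y, x1, y1, hne, hx, hy, hc⟩ := h2
  have ox : orderOf x = 2 := orderOf_eq_prime (by rw [sq, hx]) x1
  have oy : orderOf y = 2 := orderOf_eq_prime (by rw [sq, hy]) y1
  have hP : PGrp 2 (⟪x⟫ ⊔ ⟪y⟫) :=
    (pGrp_of_card_prime Nat.prime_two ((card_zpowers' x).trans ox)).sup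
      (pGrp_of_card_prime Nat.prime_two ((card_zpowers' y).trans oy))
      (norms_zpowers_of_cen1 (Subgroup.zpowers_le.2 (mem_cen1.2 hc.symm)))
  obtain ⟨g, -, hg⟩ := hS.syl_Jsub hP le_top
  refine ⟨_, hg (conj_mem_cj.2 (Subgroup.mem_sup_left (Subgroup.mem_zpowers x))), _,
    hg (conj_mem_cj.2 (Subgroup.mem_sup_right (Subgroup.mem_zpowers y))),
    (orderOf_conj g x).trans ox, (orderOf_conj g y).trans oy, by simpa using hne, ?_⟩
  rw [conj_mul, conj_mul, hc]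

theorem sol_nrm_syl (hS : Syl 2 S ⊤) : Sol N(S) := by
  obtain ⟨H, h1, h2⟩ := (hS.subl (le_nrm S) le_top).exists_compl le_rfl
  exact h2.sup ▸ hS.pi.sol.sup (sol_of_pi h1.pi) h2.nrm

/-- an involution normalising a nilpotent group of even order centralises an involution of it -/
theorem exists_cen_invol (hK : Nil K) (he : 2 ∣ #K) (ht : orderOf t = 2) (hn : t ∈ N(K)) :
    K ⊓ C[t] ≠ ⊥ := by
  have h := (pGrp_of_card_prime Nat.prime_two ((card_zpowers' t).trans ht)).meet_cen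
    (pcore_pi {2} K) (norms_pcore _ (Subgroup.zpowers_le.2 hn))
    (hK.pcore_ne_bot ⟨Nat.prime_two, he⟩ rfl)
  rw [cen_zpowers] at h
  exact ne_bot_of_le (inf_le_inf_right _ (pcore_le _ _)) h

theorem smul_eq_cj (g : G) (H : Subgroup G) : MulAut.conj g • H = cj g H := rfl

end Cfsg.Agent.H20.SEc
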