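import Mathlib
import Cfsg.Agent.GW.Base
import Cfsg.Agent.H4.Transfer2
import Cfsg.Agent.S0949

/-! Transfer tools for perfect groups with small Sylow `2`-subgroups. -/

set_option autoImplicit false
set_option linter.unusedSectionVars false

namespace Cfsg.Agent.H20.Sm

open Subgroup Cfsg.Agent.FT Cfsg.Agent.GW
open scoped commutatorElement

variable {G : Type*} [Group G] [Finite G] {A B C I K M P S T X : Subgroup G}
  {a b c e g i r s t u v w x y z : G}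

theorem syl_sup {p : ℕ} (hT : Syl p T A) (hP : PGrp p P) (hA : P ≤ N(A)) (hn : P ≤ N(T)) :
    Syl p (T ⊔ P) (A ⊔ P) := by
  refine syl_of_max (hT.pi.sup hP hn) (sup_le_sup_right hT.le _) fun Q hQ h1 h2 => ?_
  refine le_antisymm (fun q hq => ?_) h1
  obtain ⟨a, ha, b, hb, rfl⟩ := (mem_sup_norm hA).1 (h2 hq)
  have h3 : a ∈ Q := by
    have := Q.mul_mem hq (Q.inv_mem (h1 (mem_sup_right hb)))
    rwa [mul_inv_cancel_right] at this
  have h4 : Q ⊓ A = T := hT.max (hQ.mono inf_le_left) (le_inf (le_sup_left.trans h1) hT.le) inf_le_right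
  exact mul_mem (mem_sup_left (h4.le ⟨h3, ha⟩)) (mem_sup_right hb)

theorem rel2 (ha : a ∈ S) (hM : a ∉ M) (h : ∀ b ∈ S, b ∈ M ∨ b * a ∈ M) : M.relIndex S = 2 := by
  refine relIndex_eq_two_iff.2 ⟨a, ha, fun b hb => ?_⟩
  by_cases c : b ∈ M
  · exact Or.inr ⟨c, fun d => hM (by simpa using M.mul_mem (M.inv_mem c) d)⟩
  · exact Or.inl ⟨(h b hb).resolve_left c, c⟩

/-- the transfer into a quotient of order two -/
theorem exists_tr (hS : Syl 2 S K) (h2 : M.relIndex S = 2) : ∃ V : K →* ℤˣ, ∀ (u : K) (ε : ℤˣ),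
    (∀ (k : ℕ), ∀ g ∈ K, g * (u : G) ^ k * g⁻¹ ∈ S → (g * (u : G) ^ k * g⁻¹ ∈ M ↔ ε ^ k = 1)) →
      V u = ε := by
  have h3 : (M.subgroupOf K).relIndex (S.subgroupOf K) = 2 := by
    rw [relIndex_subgroupOf hS.le, h2]
  obtain ⟨φ, hφ⟩ := H4.exists_sign_hom h3
  have ho : Odd (S.subgroupOf K).index :=
    Nat.odd_iff.2 (Nat.two_dvd_ne_zero.1 (hS.not_dvd Nat.prime_two))
  refine ⟨MonoidHom.transfer φ, fun u ε h => ?_⟩
  rw [H4.transfer_eq_pow_of_forall φ u ε fun k t ht => ?_]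
  · rcases Int.units_eq_one_or ε with rfl | rfl
    · simp
    · exact ho.neg_one_pow
  · have h4 := h k (t⁻¹ : K) (t⁻¹).2 (by simpa [mem_subgroupOf] using ht)
    have h5 := (hφ ⟨_, ht⟩).trans (show _ ↔ ε ^ k = 1 by
      rw [← h4]; simp [mem_subgroupOf])
    rcases Int.units_eq_one_or (ε ^ k) with c | c
    · rw [c]; exact h5.2 c
    · rw [c]
      refine (Int.units_eq_one_or _).resolve_left fun d => ?_
      rw [h5.1 d] at c
      exact absurd c (by decide)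

theorem tr_perf (hA : ⁅A, A⁆ = A) (hK : A ≤ K) (V : K →* ℤˣ) (ha : a ∈ A) : V ⟨a, hK ha⟩ = 1 := by
  have : ⁅A, A⁆ ≤ V.ker.map K.subtype := commutator_le.2 fun x hx y hy =>
    ⟨⁅(⟨x, hK hx⟩ : K), ⟨y, hK hy⟩⁆, by
      rw [SetLike.mem_coe, MonoidHom.mem_ker, map_commutatorElement,
        commutatorElement_eq_one_iff_mul_comm, mul_comm], rfl⟩
  obtain ⟨b, hb, e⟩ := this (hA.ge ha)
  rwa [show (⟨a, hK ha⟩ : K) = b from Subtype.ext e.symm]

theorem mem_of_odd (hu : PiElt {2} u) {k : ℕ} (hk : Odd k) (h : u ^ k ∈ M) : u ∈ M :=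
  hu.mem_of_pow_mem (p'nat_of_not_dvd fun c => (Nat.not_even_iff_odd.2 hk) (even_iff_two_dvd.2 c)) h

theorem tt4 (hA : ⁅A, A⁆ = A) (hT : Syl 2 T A) (h2 : M.relIndex T = 2) {n : ℕ}
    (h : ∀ a ∈ T, a ∉ M → a ^ n ≠ 1) (hu : u ∈ T) (hn : u ^ (2 * n) = 1) :
    ∃ g ∈ A, g * u * g⁻¹ ∈ M := by
  by_contra! hc
  obtain ⟨V, hV⟩ := exists_tr hT h2
  have h1 := hV ⟨u, hT.le hu⟩ (-1) fun k g hg hm => by
    rcases Nat.even_or_odd k with hk | hk
    · rw [hk.neg_one_pow]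
      refine iff_of_true (by_contra fun c => h _ hm c ?_) rfl
      obtain ⟨j, rfl⟩ := hk
      rw [conj_pow, ← pow_mul, ← two_mul, mul_comm 2 j, mul_assoc j, mul_comm j, pow_mul, hn]
      simp
    · rw [hk.neg_one_pow]
      refine iff_of_false (fun c => hc g hg ?_) (by decide)
      rw [← conj_pow] at c
      exact mem_of_odd ((hT.pi.piElt hu).conj g) hk c
  rw [tr_perf hA le_rfl V (hT.le hu)] at h1
  exact absurd h1 (by decide)

theorem tt1 (hA : ⁅A, A⁆ = A) (hT : Syl 2 T A) (h2 : M.relIndex T = 2) (hu : u ∈ T)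
    (hn : u * u = 1) : ∃ g ∈ A, g * u * g⁻¹ ∈ M :=
  tt4 (n := 1) hA hT h2 (fun a _ h c => h (by rw [pow_one] at c; exact c ▸ one_mem _)) hu
    (by rw [mul_one, sq, hn])

theorem tt5 (hA : ⁅A, A⁆ = A) (hT : Syl 2 T A) (h2 : M.relIndex T = 2) {n : ℕ}
    (h : ∀ a ∈ T, a ∉ M → a ^ n ≠ 1) (h' : ∀ a ∈ M, a ^ n = 1) (hu : u ∈ T) (hM : u ∉ M)
    (hu2 : u * u ∈ M) : False := by
  obtain ⟨g, -, hg⟩ := tt4 hA hT h2 h hu (by rw [pow_mul, sq]; exact h' _ hu2)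
  have := h' _ hg
  rw [conj_pow, mul_inv_eq_one, mul_eq_left] at this
  exact h u hu hM this

theorem tt3 (hA : ⁅A, A⁆ = A) (hK : A ≤ K) (hS : Syl 2 S K) (h2 : M.relIndex S = 2) (ht : t ∈ K)
    (hu : u ∈ K) (ht2 : t * t = 1) (hu2 : u * u = 1) (htu : t * u ∈ A)
    (h1 : ∀ g ∈ K, g * t * g⁻¹ ∉ M) (h3 : ∀ g ∈ K, g * u * g⁻¹ ∈ S → g * u * g⁻¹ ∈ M) : False := by
  obtain ⟨V, hV⟩ := exists_tr hS h2
  have key : ∀ v : G, v * v = 1 → ∀ k : ℕ, (Even k → v ^ k = 1) ∧ (Odd k → v ^ k = v) :=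
    fun v hv k => ⟨fun ⟨j, e⟩ => by rw [e, ← two_mul, pow_mul, sq, hv, one_pow],
      fun ⟨j, e⟩ => by rw [e, pow_succ, pow_mul, sq, hv, one_pow, one_mul]⟩
  have e1 := hV ⟨t, ht⟩ (-1) fun k g hg hm => by
    rcases Nat.even_or_odd k with hk | hk
    · rw [hk.neg_one_pow, (key t ht2 k).1 hk]; simp
    · rw [hk.neg_one_pow, (key t ht2 k).2 hk]; exact iff_of_false (h1 g hg) (by decide)
  have e2 := hV ⟨u, hu⟩ 1 fun k g hg hm => by
    rcases Nat.even_or_odd k with hk | hk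
    · rw [(key u hu2 k).1 hk]; simp
    · rw [(key u hu2 k).2 hk] at hm ⊢; exact iff_of_true (h3 g hg hm) (one_pow _)
  have e3 := tr_perf hA hK V htu
  rw [show (⟨t * u, hK htu⟩ : K) = ⟨t, ht⟩ * ⟨u, hu⟩ from rfl, map_mul, e1, e2] at e3
  exact absurd e3 (by decide)

/-- extremal conjugation -/
theorem ext (hS : Syl 2 S K) (hz : S ≤ C[z]) (he : e ∈ K) (h2 : PiElt {2} e) (hg : g ∈ K)
    (hs : g * s * g⁻¹ = z) (hc : e * s = s * e) :
    ∃ h ∈ K, h * s * h⁻¹ = z ∧ h * e * h⁻¹ ∈ S := by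
  have h1 : Syl 2 S (K ⊓ C[z]) := hS.subl (le_inf hS.le hz) inf_le_left
  obtain ⟨k, hk, h3⟩ := h1.syl_elt (x := g * e * g⁻¹) ⟨K.mul_mem (K.mul_mem hg he) (K.inv_mem hg),
    mem_cen1.2 (by rw [← hs]; simp only [mul_assoc, inv_mul_cancel_left]; rw [← mul_assoc e, hc,
      mul_assoc])⟩ (h2.conj g)
  refine ⟨k * g, K.mul_mem hk.1 hg, ?_, by convert h3 using 1; group⟩
  rw [show k * g * s * (k * g)⁻¹ = k * (g * s * g⁻¹) * k⁻¹ by group, hs, mem_cen1.1 hk.2,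
    mul_inv_cancel_right]

theorem cen_of_syl (hS : Syl 2 S K) (hX : S ≤ C(X)) (hg : g ∈ K) (hn : g ∈ N(X))
    (h2 : PiElt {2} g) : g ∈ C(X) :=
  (hS.subl (le_inf hS.le (cents_norm hX)) inf_le_left).le_of_syl_le
    (inf_le_right.trans (norms_cent le_rfl)) hX h2.zpowers (zpowers_le.2 ⟨hg, hn⟩) (mem_zpowers g)

theorem two_elt (h : x * x = 1) : PiElt {2} x := pElt_of_pow_eq_one Nat.prime_two (by rw [sq, h])

theorem four_elt (h : x * x = z) (hz : z * z = 1) : PiElt {2} x :=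
  (pElt_iff Nat.prime_two).2 ⟨2, by rw [show 2 ^ 2 = 2 * 2 from rfl, pow_mul, sq, sq, h, hz]⟩

theorem lemE (hT : Syl 2 T A) (heA : e ∈ N(A)) (heT : e ∈ C(T)) (he : e * e = z) (hz1 : z ≠ 1)
    (hz2 : z * z = 1) (hsq : ∀ y ∈ T, y * y * (y * y) = 1 → y * y = 1 ∨ y * y = z) (hs : s ∈ T)
    (hsz : s ≠ z) (hg : g ∈ A) (hgs : g * s * g⁻¹ = z) : False := by
  have h2 := four_elt he hz2
  have hS := syl_sup hT h2.zpowers (zpowers_le.2 heA) (zpowers_le.2 (cen_le_nrm _ heT))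
  have hez : e * z = z * e := by rw [← he, mul_assoc]
  obtain ⟨h, -, h1, h3⟩ := ext (z := z) hS (sup_le (fun y hy => mem_cen1.2 (by
      rw [← he, ← mul_assoc, mem_cen.1 heT y hy, mul_assoc, mem_cen.1 heT y hy, mul_assoc]))
    (zpowers_le.2 (mem_cen1.2 hez))) (mem_sup_right (mem_zpowers e)) h2 (mem_sup_left hg) hgs
    (mem_cen.1 heT s hs).symm
  obtain ⟨y, hy, f, ⟨k, rfl⟩, h4⟩ := (mem_sup_norm (zpowers_le.2 (cen_le_nrm _ heT))).1 h3
  have c1 : Commute y e := mem_cen.1 heT y hy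
  have h5 : h * z * h⁻¹ = y * y * z ^ k := by
    have : h * z * h⁻¹ = (h * e * h⁻¹) * (h * e * h⁻¹) := by rw [← he]; group
    rw [this, h4, ← he, (Commute.refl e).mul_zpow]
    simp only []
    rw [mul_assoc, ← mul_assoc (e ^ k), ← (c1.zpow_right k).eq]
    group
  have hk : z ^ k = 1 ∨ z ^ k = z := by
    have z2 : z ^ (2 : ℤ) = 1 := by rw [zpow_two, hz2]
    rcases Int.even_or_odd' k with ⟨j, rfl | rfl⟩
    · left; rw [zpow_mul, z2, one_zpow]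
    · right; rw [zpow_add, zpow_mul, z2, one_zpow, one_mul, zpow_one]
  have c2 : Commute (y * y) (z ^ k) := by
    rw [← he]; exact ((c1.mul_right c1).mul_left (c1.mul_right c1)).zpow_right k
  have h6 : y * y * (y * y) = 1 := by
    have : h * z * h⁻¹ * (h * z * h⁻¹) = 1 := by
      rw [show h * z * h⁻¹ * (h * z * h⁻¹) = h * (z * z) * h⁻¹ by group, hz2]; simp
    rw [h5, mul_assoc, ← mul_assoc (z ^ k), ← c2.eq, mul_assoc (y * y) (z ^ k), ← mul_assoc] at this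
    rcases hk with c | c <;> simpa [c, hz2] using this
  have h7 : h * z * h⁻¹ ≠ 1 := by simpa using hz1
  have h8 : h * z * h⁻¹ ≠ z := fun c => hsz (by
    rw [← h1] at c
    conv_lhs at c => rw [h1]
    simpa using c.symm)
  rw [h5] at h7 h8
  rcases hsq y hy h6 with c | c <;> rcases hk with d | d <;> simp [c, d, hz2] at h7 h8

theorem cyc_false (hA : ⁅A, A⁆ = A) (hT : Syl 2 T A) (hc : Cyc T) : T = ⊥ := by
  have h1 := (npc_of_cyc hT hc).syl_inf_der hT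
  rwa [hA, inf_eq_left.2 hT.le, ab_iff_der.1 hc.ab] at h1

theorem brauer0 (hT : Syl 2 T A) (hO : Od(A) = ⊥) (hab : Ab T) (h16 : 16 ∣ #T)
    (h4 : ∀ a ∈ T, a * a = 1 → a = 1 ∨ a = z ∨ a = w ∨ a = v) : Sol A := by
  classical
  obtain ⟨P, hP⟩ := (syl_iff_sylow Nat.prime_two hT.le).1 hT
  have hn := S0949.normal (Q := T) (fun a b => Subtype.ext (hab.comm a.2 b.2)) h16
    (fun s hs => by
      rw [← Finset.card_image_of_injective s Subtype.val_injective]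
      refine (Finset.card_le_card (t := {1, z, w, v}) fun a ha => ?_).trans Finset.card_le_four
      obtain ⟨b, hb, rfl⟩ := Finset.mem_image.1 ha
      simpa using h4 b b.2 (congrArg Subtype.val (hs b hb))) _ P
    ((MulEquiv.subgroupCongr hP).trans (subgroupOfEquivOfLe hT.le)) le_rfl
    (by rw [← piCore_compl_singleton Nat.prime_two, ← pcore_top, ← subgroupOf_self, ← so_pcore _ le_rfl, hO, bot_subgroupOf])
  rw [hP, ← nml_iff_normal hT.le] at hn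
  exact sol_of_quo hn.nrm hT.pi.sol (sol_odd (odd_iff_p'.2 (hT.quo_pi' hn.nrm)))

theorem brauer (hA : ⁅A, A⁆ = A) (hT : Syl 2 T A) (hab : Ab T) (h16 : 16 ∣ #T) (hz : z ∈ T)
    (hw : w ∈ T) (hv : v ∈ T) (h4 : ∀ a ∈ T, a * a = 1 → a = 1 ∨ a = z ∨ a = w ∨ a = v) :
    False := by
  have hn := pcore_nrm {2}ᶜ A
  have hi : Od(A) ⊓ T = ⊥ := Cop.inf ((pcore_pi _ _).cop' hT.pi)
  have hs := brauer0 (z := coset(Od(A), z)) (w := coset(Od(A), w)) (v := coset(Od(A), v))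
    (hT.quo hn) (pcore_quo_pcore _ _) (hab.quo _)
    (by rwa [card_quo_of_inf (hT.le.trans hn) hi]) fun a ha h => by
      obtain ⟨b, hb, hb', rfl⟩ := mem_quo.1 ha
      rw [← coset_mul hb' hb', coset_eq_one_iff (mul_mem hb' hb')] at h
      rcases h4 b hb (mem_bot.1 (hi.le ⟨h, T.mul_mem hb hb⟩)) with c | c | c | c <;>
        simp [c, coset_one]
  have := perf_le_of_sol_quo hA hn hs
  rw [inf_eq_right.2 (hT.le.trans this)] at hi
  simp [hi] at h16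

end Cfsg.Agent.H20.Sm
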