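import Cfsg.Agent.H20.Sm1

/-! `2`-groups with a cyclic subgroup of index two. -/

set_option autoImplicit false
set_option linter.unusedSectionVars false

namespace Cfsg.Agent.H20.Sm

open Subgroup Cfsg.Agent.FT Cfsg.Agent.GW
open scoped commutatorElement

variable {G : Type*} [Group G] [Finite G] {A B C D I K M P Q S T U W X : Subgroup G}
  {a b c d e g i r s t u v w x y z : G}

theorem mem_of_zodd (hu : PiElt {2} u) {k : ℤ} (hk : Odd k) (h : u ^ k ∈ M) : u ∈ M := by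
  refine mem_of_odd hu (Int.natAbs_odd.2 hk) ?_
  rcases Int.natAbs_eq k with e | e <;> rw [e] at h
  · rwa [zpow_natCast] at h
  · rwa [zpow_neg, inv_mem_iff, zpow_natCast] at h

theorem z_even (hz : z * z = 1) {k : ℤ} (hk : Even k) : z ^ k = 1 := by
  obtain ⟨j, rfl⟩ := hk
  rw [← two_mul, zpow_mul, zpow_two, hz, one_zpow]

theorem z_odd (hz : z * z = 1) {k : ℤ} (hk : Odd k) : z ^ k = z := by
  obtain ⟨j, rfl⟩ := hk
  rw [zpow_add, zpow_mul, zpow_two, hz, one_zpow, one_mul, zpow_one]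

theorem uniq (hC : Cyc C) (h2 : PGrp 2 C) (hz : z ∈ C) (z1 : z ≠ 1) (z2 : z * z = 1) (ha : a ∈ C)
    (a2 : a * a = 1) : a = 1 ∨ a = z := by
  rcases hC.le_or_le h2 (zpowers_le.2 ha) (zpowers_le.2 hz) with h | h
  · exact sq_mem_zpowers z2 (h (mem_zpowers a))
  · exact Or.inr ((sq_mem_zpowers a2 (h (mem_zpowers z))).resolve_left z1).symm

theorem exists_four (hC : Cyc C) (h2 : PGrp 2 C) (hz : z ∈ C) (z1 : z ≠ 1) (z2 : z * z = 1)
    (ha : a ∈ C) (a2 : a * a ≠ 1) : ∃ i ∈ C, i * i = z := by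
  obtain ⟨k, hk⟩ := (h2.piElt ha).exists_pow
  induction k generalizing a with
  | zero => exact absurd (by simp at hk; simp [hk]) a2
  | succ k ih =>
    by_cases c : a * a * (a * a) = 1
    · exact ⟨a, ha, (uniq hC h2 hz z1 z2 (C.mul_mem ha ha) c).resolve_left a2⟩
    · exact ih (C.mul_mem ha ha) c (by rw [← sq, ← pow_mul, ← pow_succ', hk])

/-- a cyclic `2`-group with an element `i` of order four -/
structure C4 (C : Subgroup G) (i z : G) : Prop where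
  cyc : Cyc C
  pg : PGrp 2 C
  hi : i ∈ C
  ii : i * i = z
  z1 : z ≠ 1
  z2 : z * z = 1

namespace C4
variable (h : C4 C i z)
include h

theorem hz : z ∈ C := h.ii ▸ C.mul_mem h.hi h.hi
theorem un (ha : a ∈ C) (a2 : a * a = 1) : a = 1 ∨ a = z := uniq h.cyc h.pg h.hz h.z1 h.z2 ha a2
theorem cm (ha : a ∈ C) (hb : b ∈ C) : a * b = b * a := h.cyc.ab.comm ha hb
theorem ne_inv : i ≠ i⁻¹ := fun c => h.z1 (by rw [← h.ii]; nth_rw 1 [c]; exact inv_mul_cancel i)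
theorem inv_eq : i⁻¹ = i * z := by rw [eq_comm, ← mul_eq_one_iff_eq_inv', ← mul_assoc, h.ii, h.z2]

theorem mem (ha : a ∈ C) (h1 : a ≠ 1) (h2 : a ≠ z) : i ∈ ⟪a⟫ := by
  rcases h.cyc.le_or_le h.pg (zpowers_le.2 ha) (zpowers_le.2 h.hi) with c | c
  · obtain ⟨k, rfl⟩ := c (mem_zpowers a)
    rcases Int.even_or_odd k with ⟨j, rfl⟩ | hk
    · exfalso
      simp only [← two_mul, zpow_mul, zpow_two, h.ii] at h1 h2
      rcases Int.even_or_odd j with e | e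
      · exact h1 (z_even h.z2 e)
      · exact h2 (z_odd h.z2 e)
    · exact mem_of_zodd (h.pg.piElt h.hi) hk (mem_zpowers _)
  · exact c (mem_zpowers i)

theorem of_inv (ha : a ∈ C) (h1 : y * a * y⁻¹ = a⁻¹) (h2 : y * i * y⁻¹ = i) : a = 1 ∨ a = z := by
  by_contra! c
  obtain ⟨k, hk⟩ := h.mem ha c.1 c.2
  refine h.ne_inv ?_
  simp only [] at hk
  exact h2.symm.trans (by rw [← hk, ← conj_zpow, h1, inv_zpow])

theorem of_fix (ha : a ∈ C) (h1 : y * a * y⁻¹ = a) (h2 : y * i * y⁻¹ = i⁻¹) : a = 1 ∨ a = z := by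
  by_contra! c
  obtain ⟨k, hk⟩ := h.mem ha c.1 c.2
  refine h.ne_inv ?_
  simp only [] at hk
  rw [← h2, ← hk, ← conj_zpow, h1]

theorem fixz (hy : y ∈ N(C)) : y * z * y⁻¹ = z :=
  (h.un (conj_mem hy h.hz) (by
    rw [show y * z * y⁻¹ * (y * z * y⁻¹) = y * (z * z) * y⁻¹ by group, h.z2]; simp)).resolve_left
      (by simpa using h.z1)

theorem pm (hy : y ∈ N(C)) : y * i * y⁻¹ = i ∨ y * i * y⁻¹ = i⁻¹ := by
  have h1 := conj_mem hy h.hi
  have h2 : y * i * y⁻¹ * (y * i * y⁻¹) = z := by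
    rw [show y * i * y⁻¹ * (y * i * y⁻¹) = y * (i * i) * y⁻¹ by group, h.ii, h.fixz hy]
  generalize y * i * y⁻¹ = j at h1 h2
  rcases h.un (C.mul_mem h.hi h1) (by
    rw [mul_assoc, ← mul_assoc j, ← h.cm h.hi h1, mul_assoc i j, h2, ← mul_assoc, h.ii, h.z2]) with c | c
  · exact Or.inr (eq_inv_of_mul_eq_one_right c)
  · exact Or.inl (mul_left_cancel (c.trans h.ii.symm))

end C4

theorem idx2 (h : B.relIndex Q = 2) (ha : a ∈ Q) (hb : b ∈ Q) (h1 : a ∉ B) (h2 : b ∉ B) :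
    a * b ∈ B := by
  have := mul_mem_iff_of_index_two (H := B.subgroupOf Q) h (a := ⟨a, ha⟩) (b := ⟨b, hb⟩)
  simpa [mem_subgroupOf, h1, h2] using this

theorem exists_step (hS : PGrp 2 S) (hB : B ⊴ S) (hD : D ⊴ S) (h : B ≤ D) (ha : a ∈ D)
    (ha' : a ∉ B) : ∃ y ∈ D, y ∉ B ∧ y * y ∈ B ∧ ∀ s ∈ S, y⁻¹ * (s * y * s⁻¹) ∈ B := by
  obtain ⟨n, hn⟩ := (hS.mono hB.le).card
  have h1 := (hS.mono hD.le).mul_card_le (lt_of_le_of_ne h fun c => ha' (c ▸ ha))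
  obtain ⟨Q, hQ, h2, h3, h4⟩ := hS.exists_nml_between (n := n + 1) Nat.prime_two hB hD h
    (by rw [hn]; exact Nat.pow_le_pow_right two_pos n.le_succ) (by rw [pow_succ', ← hn]; exact h1)
  have h5 : B.relIndex Q = 2 := by
    have := card_mul_relIndex h2
    rw [hn, h4, pow_succ] at this
    exact Nat.eq_of_mul_eq_mul_left (by positivity) this
  obtain ⟨y, hy, hy'⟩ : ∃ y ∈ Q, y ∉ B := by
    by_contra! c
    rw [relIndex_eq_one.2 c] at h5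
    omega
  refine ⟨y, h3 hy, hy', idx2 h5 hy hy hy' hy', fun s hs => idx2 h5 (Q.inv_mem hy)
    (hQ.conj_mem hs hy) (by simpa) fun c => hy' ?_⟩
  simpa [mul_assoc] using conj_mem' (hB.nrm hs) c

theorem nml_step (hB : B ⊴ S) (hy : y ∈ S) (h : ∀ s ∈ S, y⁻¹ * (s * y * s⁻¹) ∈ B) :
    B ⊔ ⟪y⟫ ⊴ S := by
  refine ⟨sup_le hB.le (zpowers_le.2 hy), le_nrm_iff.2 fun s hs a ha => ?_⟩
  obtain ⟨b, hb, f, ⟨k, rfl⟩, rfl⟩ := (mem_sup_norm (zpowers_le.2 (hB.nrm hy))).1 ha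
  rw [show s * (b * (fun k : ℤ => y ^ k) k) * s⁻¹ = s * b * s⁻¹ * (s * y * s⁻¹) ^ k by
    rw [conj_zpow]; group]
  refine mul_mem (mem_sup_left (hB.conj_mem hs hb)) (zpow_mem ?_ k)
  simpa using mul_mem (mem_sup_right (S := B) (mem_zpowers y)) (mem_sup_left (T := ⟪y⟫) (h s hs))

theorem exists_scn (hS : PGrp 2 S) (hT : T ⊴ S) (hW : W ⊴ S) (hWT : W ≤ T) (hab : Ab W) :
    ∃ B, B ⊴ S ∧ W ≤ B ∧ B ≤ T ∧ Ab B ∧ T ⊓ C(B) ≤ B := by
  obtain ⟨B, h1, ⟨h2, h3, h4⟩, h5⟩ := Finite.exists_le_maximal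
    (p := fun B : Subgroup G => B ⊴ S ∧ B ≤ T ∧ Ab B) ⟨hW, hWT, hab⟩
  refine ⟨B, h2, h1, h3, h4, fun a ha => by_contra fun c => ?_⟩
  obtain ⟨y, hy, hy', -, h6⟩ := exists_step hS h2 (hT.subcent h2.nrm) (le_inf h3 h4.le_cen) ha c
  exact hy' (h5 ⟨nml_step h2 (hT.le hy.1) h6, sup_le h3 (zpowers_le.2 hy.1),
    h4.sup (ab_zpowers y) (zpowers_le.2 hy.2)⟩ le_sup_left (mem_sup_right (mem_zpowers y)))

theorem cyc_of_uniq (hab : Ab B) (h2 : PGrp 2 B) (z2 : z * z = 1)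
    (h : ∀ a ∈ B, a * a = 1 → a = 1 ∨ a = z) : Cyc B := by
  refine hab.cyc_of_card_Ohm h2 Nat.prime_two ((card_dvd_of_le (Ohm_le_iff.2 fun a ha c => ?_ :
    _ ≤ ⟪z⟫)).trans ?_)
  · rcases h a ha (by rwa [← sq]) with rfl | rfl
    · exact one_mem _
    · exact mem_zpowers _
  · rw [card_zpowers']; exact orderOf_dvd_of_pow_eq_one (by rwa [sq])

/-- `T` has the cyclic subgroup `⟨c⟩` of index at most two, outside of which `i` is inverted -/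
structure Cy (T : Subgroup G) (c i z : G) : Prop extends C4 ⟪c⟫ i z where
  hc : c ∈ T
  nrm : T ≤ N(⟪c⟫)
  out : ∀ a ∈ T, a ∉ ⟪c⟫ → a * i * a⁻¹ = i⁻¹

theorem cz_pow (hc : z * c = c * z) (h : y * c * y⁻¹ = c * z) (k : ℤ) :
    y * c ^ k * y⁻¹ = c ^ k * z ^ k := by
  rw [← conj_zpow, h, Commute.mul_zpow hc.symm]

theorem icz_pow (hc : z * c = c * z) (h : y * c * y⁻¹ = c⁻¹ * z) (k : ℤ) :
    y * c ^ k * y⁻¹ = c ^ (-k) * z ^ k := by
  rw [← conj_zpow, h, Commute.mul_zpow (Commute.inv_left hc.symm), inv_zpow']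

theorem exists_cy (hS : PGrp 2 S) (hT : T ⊴ S) (hC : C ⊴ S) (hCT : C ≤ T) (hcyc : Cyc C)
    (hcen : T ⊓ C(C) ≤ C) (hz : z ∈ C) (z1 : z ≠ 1) (z2 : z * z = 1) (hzS : S ≤ C[z])
    (hH : ∀ w ∈ T, w * w = 1 → (∀ y ∈ S, y * w * y⁻¹ = w ∨ y * w * y⁻¹ = w * z) → w = 1 ∨ w = z)
    (hs : s ∈ T) (hs' : s ∉ C) : ∃ c i, C = ⟪c⟫ ∧ Cy T c i z := by
  obtain ⟨c, rfl⟩ := cyc_iff.1 hcyc
  have h2 := hS.mono hC.le
  have hcc : ∀ y ∈ T, y * c * y⁻¹ = c → y ∈ ⟪c⟫ := fun y hy e =>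
    hcen ⟨hy, (cen_zpowers c).ge (mem_cen1.2 (mul_inv_eq_iff_eq_mul.1 e))⟩
  obtain ⟨i, hi, ii⟩ := exists_four hcyc h2 hz z1 z2 (mem_zpowers c) fun e => hs' (hcc s hs (by
    rcases uniq hcyc h2 hz z1 z2 (mem_zpowers c) e with rfl | rfl
    · simp
    · rw [mem_cen1.1 (hzS (hT.le hs)), mul_inv_cancel_right]))
  have h : C4 ⟪c⟫ i z := ⟨hcyc, h2, hi, ii, z1, z2⟩
  refine ⟨c, i, rfl, h, hCT (mem_zpowers c), hT.le.trans hC.nrm, fun a ha ha' => ?_⟩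
  refine (h.pm (hC.nrm (hT.le ha))).resolve_left fun hai => ?_
  have hn : S ≤ N(⟪i⟫) := le_nrm_iff.2 fun g hg b ⟨k, hk⟩ => by
    rw [← hk, ← conj_zpow]
    rcases h.pm (hC.nrm hg) with e | e <;> rw [e]
    · exact zpow_mem (mem_zpowers i) k
    · exact zpow_mem (inv_mem (mem_zpowers i)) k
  obtain ⟨y, hy, hy', yy, h6⟩ := exists_step hS hC (hT.subcent hn)
    (le_inf hCT (hcyc.ab.cents (zpowers_le.2 hi) le_rfl)) (a := a)
    ⟨ha, (cen_zpowers i).ge (mem_cen1.2 (mul_inv_eq_iff_eq_mul.1 hai))⟩ ha'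
  have yi : y * i * y⁻¹ = i := by
    rw [mem_cen1.1 ((cen_zpowers i).le hy.2), mul_inv_cancel_right]
  have yn := hC.nrm (hT.le hy.1)
  have cz : z * c = c * z := h.cm hz (mem_zpowers c)
  have yc : y * c * y⁻¹ = c * z := by
    have h7 := conj_mem yn (mem_zpowers c)
    rcases h.of_inv (y := y) (mul_mem (inv_mem (mem_zpowers c)) h7) (by
      rw [show y * (c⁻¹ * (y * c * y⁻¹)) * y⁻¹ = (y * c * y⁻¹)⁻¹ * (y * y * c * (y * y)⁻¹) by group,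
        h.cm yy (mem_zpowers c)]; group) yi with e | e
    · exact absurd (hcc y hy.1 (inv_mul_eq_one.1 e).symm) hy'
    · rw [← e]; group
  have ev : ∀ k : ℤ, y * c ^ k * y⁻¹ = c ^ k → ∃ j, k = 2 * j := fun k e => by
    rw [cz_pow cz yc, mul_eq_left] at e
    rcases Int.even_or_odd' k with ⟨j, c | c⟩
    · exact ⟨j, c⟩
    · exact absurd ((z_odd z2 ⟨j, c⟩).symm.trans e) z1
  obtain ⟨m, hm⟩ := yy
  obtain ⟨p, hp⟩ := hi
  simp only [] at hm hp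
  obtain ⟨j, rfl⟩ := ev m (by rw [hm]; group)
  obtain ⟨q, rfl⟩ := ev p (by rw [hp, yi])
  obtain ⟨k, hk⟩ : ∃ k : ℤ, y * c ^ k * (y * c ^ k) = 1 := by
    have e : ∀ k : ℤ, y * c ^ k * (y * c ^ k) = c ^ (2 * (k + j)) * z ^ k := fun k => by
      rw [show y * c ^ k * (y * c ^ k) = (y * c ^ k * y⁻¹) * (y * y) * c ^ k by group,
        cz_pow cz yc, ← hm, mul_assoc, mul_assoc, ← zpow_add,
        ((Commute.zpow_zpow cz k _).eq), ← mul_assoc, ← zpow_add]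
      congr 2; ring
    rcases Int.even_or_odd j with d | d
    · exact ⟨-j, by rw [e, z_even z2 d.neg]; simp⟩
    · refine ⟨2 * q - j, ?_⟩
      rw [e, z_odd z2 ((even_two_mul q).sub_odd d), sub_add_cancel, two_mul (2 * q), zpow_add, hp,
        ii, z2]
  have hw : y * c ^ k ∉ ⟪c⟫ := fun d => hy' (by
    simpa using mul_mem d (inv_mem (zpow_mem (mem_zpowers c) k)))
  have wi : y * c ^ k * i * (y * c ^ k)⁻¹ = i := by
    rw [mul_assoc y, h.cm (zpow_mem (mem_zpowers c) k) h.hi, mul_inv_rev, ← mul_assoc, mul_assoc y,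
      mul_inv_cancel_right, yi]
  rcases hH (y * c ^ k) (mul_mem hy.1 (hCT (zpow_mem (mem_zpowers c) k))) hk fun g hg => by
    have h8 : (y * c ^ k)⁻¹ * (g * (y * c ^ k) * g⁻¹) ∈ ⟪c⟫ := by
      convert mul_mem (inv_mem (zpow_mem (mem_zpowers c) k)) (mul_mem (h6 g hg)
        (hC.conj_mem hg (zpow_mem (mem_zpowers c) k))) using 1
      group
    have h9 : g * (y * c ^ k) * g⁻¹ * (g * (y * c ^ k) * g⁻¹) = 1 := by
      rw [show g * (y * c ^ k) * g⁻¹ * (g * (y * c ^ k) * g⁻¹) =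
        g * (y * c ^ k * (y * c ^ k)) * g⁻¹ by group, hk]; simp
    generalize y * c ^ k = w at *
    generalize g * w * g⁻¹ = w' at *
    rcases h.of_inv (y := w) h8 (by
      rw [mul_inv_cancel_left, mul_inv_rev, inv_inv, inv_eq_of_mul_eq_one_right hk,
        inv_eq_of_mul_eq_one_right h9]) wi with e | e
    · exact Or.inl (inv_mul_eq_one.1 e).symm
    · exact Or.inr (by rw [← e]; group) with e | e
  · exact hw (e ▸ one_mem _)
  · exact hw (e ▸ hz)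

end Cfsg.Agent.H20.Sm
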