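import Cfsg.Agent.H20.Sm2

/-! A four-group acting on a perfect group with fixed points of `2`-rank one. -/

set_option autoImplicit false
set_option linter.unusedSectionVars false

namespace Cfsg.Agent.H20.Sm

open Subgroup Cfsg.Agent.FT Cfsg.Agent.GW
open scoped commutatorElement

variable {G : Type*} [Group G] [Finite G] {A B C D I K M P Q S T U W X : Subgroup G}
  {a b c d e g i r s t u v w x y z : G}

theorem conj_sq (h : a * a = b) (g : G) : g * a * g⁻¹ * (g * a * g⁻¹) = g * b * g⁻¹ := by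
  rw [← h]; group

theorem conj_sq1 (h : a * a = 1) (g : G) : g * a * g⁻¹ * (g * a * g⁻¹) = 1 := by
  rw [conj_sq h]; simp

theorem cc (h : u * u = 1) (a : G) : u * (u * a * u⁻¹) * u⁻¹ = a := by
  rw [show u * (u * a * u⁻¹) * u⁻¹ = (u * u) * a * (u * u)⁻¹ by group, h]; simp

namespace Cy
variable (h : Cy T c i z)
include h

theorem mul (ha : a ∈ T) (hb : b ∈ T) (h1 : a ∉ ⟪c⟫) (h2 : b ∉ ⟪c⟫) : a * b ∈ ⟪c⟫ := by
  by_contra e
  refine h.ne_inv ?_
  rw [← h.out _ (T.mul_mem ha hb) e, show a * b * i * (a * b)⁻¹ = a * (b * i * b⁻¹) * a⁻¹ by group,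
    h.out b hb h2, ← conj_inv, h.out a ha h1, inv_inv]

theorem le : ⟪c⟫ ≤ T := zpowers_le.2 h.hc
theorem cz : z * c = c * z := h.cm h.hz (mem_zpowers c)

theorem sq (ha : a ∈ T) : a * a ∈ ⟪c⟫ := by
  by_cases e : a ∈ ⟪c⟫
  · exact mul_mem e e
  · exact h.mul ha ha e e

theorem act (ha : a ∈ T) (h1 : a ∉ ⟪c⟫) : a * c * a⁻¹ = c⁻¹ ∨ a * c * a⁻¹ = c⁻¹ * z := by
  have h2 := conj_mem (h.nrm ha) (mem_zpowers c)
  rcases h.of_fix (y := a) (mul_mem (mem_zpowers c) h2) (by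
    rw [show a * (c * (a * c * a⁻¹)) * a⁻¹ = (a * c * a⁻¹) * (a * a * c * (a * a)⁻¹) by group,
      h.cm (h.sq ha) (mem_zpowers c), mul_inv_cancel_right, h.cm h2 (mem_zpowers c)])
    (h.out a ha h1) with e | e
  · exact Or.inl (eq_inv_of_mul_eq_one_right e)
  · exact Or.inr (by rw [← e]; group)

theorem le_cen (hc : e * c = c * e) (ha : a ∈ T) (h1 : a ∉ ⟪c⟫) (h2 : e * a = a * e) :
    e ∈ C(T) := by
  have h3 : ⟪c⟫ ≤ C[e] := zpowers_le.2 (mem_cen1.2 hc.symm)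
  refine le_cen1.1 fun b hb => ?_
  by_cases h4 : b ∈ ⟪c⟫
  · exact h3 h4
  · have := mul_mem (h3 (h.mul hb ha h4 h1)) (inv_mem (mem_cen1.2 h2.symm))
    rwa [mul_inv_cancel_right] at this

theorem rel (ha : a ∈ T) (h1 : a ∉ ⟪c⟫) : ⟪c⟫.relIndex T = 2 :=
  rel2 ha h1 fun b hb => (em _).imp_right fun e => h.mul hb ha e h1

theorem inner (hA : ⁅A, A⁆ = A) (hT : Syl 2 T A) (hs : s ∈ T) (hs' : s ∉ ⟪c⟫) (ss : s * s = 1)
    (hu : u ∈ N(A)) (uu : u * u = 1) (hy : y ∈ T) (yy : y * y = z) (ha : a ∈ T) (h1 : a ∉ ⟪c⟫)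
    (h2 : u * c * u⁻¹ = y * c * y⁻¹) (h3 : u * a * u⁻¹ = y * a * y⁻¹) : False := by
  have key : ∀ b : G, u * b * u⁻¹ = y * b * y⁻¹ → y⁻¹ * u * b = b * (y⁻¹ * u) := fun b e => by
    rw [mul_assoc, mul_inv_eq_iff_eq_mul.1 e]; group
  have h4 := h.le_cen (key c h2) ha h1 (key a h3)
  have h5 : u * y⁻¹ = y⁻¹ * u := by
    have := mem_cen.1 h4 _ (T.inv_mem hy)
    rw [mul_assoc] at this
    exact (mul_left_cancel this).symm
  obtain ⟨g, hg, h6⟩ := tt1 hA hT (h.rel hs hs') hs ss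
  refine lemE (z := z) hT (mul_mem (inv_mem (le_nrm A (hT.le hy))) hu) h4 ?_ h.z1 h.z2
    (fun b hb e => h.un (h.sq hb) e) hs (fun e => hs' (e ▸ h.hz)) hg
    ((h.un h6 (conj_sq1 ss g)).resolve_left (by simpa using fun e : s = 1 => hs' (e ▸ one_mem _)))
  rw [mul_assoc, ← mul_assoc u, h5, mul_assoc, uu, mul_one, ← mul_inv_rev, yy,
    inv_eq_of_mul_eq_one_right h.z2]

/-- an involution fixing `i` but no involution outside `⟨c⟩` -/
theorem fix_i (hs : s ∈ T) (hs' : s ∉ ⟪c⟫) (hu : u ∈ N(T)) (hu' : u ∈ N(⟪c⟫)) (uu : u * u = 1)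
    (ui : u * i * u⁻¹ = i) (us : u * s * u⁻¹ ≠ s) :
    u * s * u⁻¹ = s * z ∧ (u * c * u⁻¹ = c ∨ u * c * u⁻¹ = c * z) := by
  have key : ∀ b : G, b⁻¹ * (u * b * u⁻¹) ∈ ⟪c⟫ → u * b * u⁻¹ = b ∨ u * b * u⁻¹ = b * z :=
    fun b hb => by
      rcases h.of_inv (y := u) hb (by
        rw [show u * (b⁻¹ * (u * b * u⁻¹)) * u⁻¹ = (u * b * u⁻¹)⁻¹ * (u * (u * b * u⁻¹) * u⁻¹) by
          group, cc uu]; group) ui with e | e
      · exact Or.inl (inv_mul_eq_one.1 e).symm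
      · exact Or.inr (by rw [← e]; group)
  refine ⟨(key s (h.mul (inv_mem hs) (conj_mem hu hs) (by simpa) fun e => hs' ?_)).resolve_left us,
    key c (mul_mem (inv_mem (mem_zpowers c)) (conj_mem hu' (mem_zpowers c)))⟩
  simpa [mul_assoc] using conj_mem' hu' e

theorem i_conj (hs : s ∈ T) (hs' : s ∉ ⟪c⟫) : i * s * i⁻¹ = s * z := by
  have h1 := h.out _ (inv_mem hs) (by simpa using hs')
  rw [show i * s * i⁻¹ = s * (s⁻¹ * i * s⁻¹⁻¹) * i⁻¹ by group, h1, mul_assoc, ← mul_inv_rev, h.ii,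
    inv_eq_of_mul_eq_one_right h.z2]

theorem i_c : i * c * i⁻¹ = c := by rw [h.cm h.hi (mem_zpowers c), mul_inv_cancel_right]

theorem mul_out (hs' : s ∉ ⟪c⟫) (hb : b ∈ ⟪c⟫) : s * b ∉ ⟪c⟫ := fun e =>
  hs' (by simpa using mul_mem e (inv_mem hb))

theorem sd_sq (ss : s * s = d) (sc : s * c * s⁻¹ = c⁻¹ * z) (hd : d ∈ ⟪c⟫) (j : ℤ) :
    s * c ^ j * (s * c ^ j) = d * z ^ j := by
  rw [show s * c ^ j * (s * c ^ j) = (s * c ^ j * s⁻¹) * (s * s) * c ^ j by group, icz_pow h.cz sc,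
    ss, h.cm _ (zpow_mem (mem_zpowers c) j), h.cm _ hd, ← mul_assoc,
    h.cm (zpow_mem (mem_zpowers c) j) hd]
  · group
  · exact mul_mem (zpow_mem (mem_zpowers c) _) (zpow_mem h.hz _)
  · exact mul_mem (mul_mem (zpow_mem (mem_zpowers c) _) (zpow_mem h.hz _)) hd

end Cy

theorem four_core (hA : ⁅A, A⁆ = A) (hU : PGrp 2 U) (hUA : U ≤ N(A)) (hu : u ∈ U) (hv : v ∈ U)
    (huv : Fr u v) (hΓ : ∀ u ∈ U, u ≠ 1 → ∀ a ∈ A, ∀ b ∈ A, u * a * u⁻¹ = a → u * b * u⁻¹ = b →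
      ¬ Fr a b) (ha : a ∈ A) (hb : b ∈ A) (hab : Fr a b) : False := by
  obtain ⟨T, hT, hn, -⟩ := hU.exists_syl_norms hUA
  obtain ⟨k, -, hk⟩ := hT.syl_Jsub hab.pGrp (hab.V_le ha hb)
  have ha' := hk (mem_cj'.2 ⟨_, hab.l_mem, rfl⟩)
  have hb' := hk (mem_cj'.2 ⟨_, hab.r_mem, rfl⟩)
  replace hab := hab.cj k
  generalize k * a * k⁻¹ = a at *
  generalize k * b * k⁻¹ = b at *
  have hS : PGrp 2 (T ⊔ U) := hT.pi.sup hU hn
  have hTS : T ⊴ T ⊔ U := nml_sup_left hn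
  obtain ⟨z, ⟨hz, hzS⟩, hz2 : Invo z⟩ := (hT.pi.mono inf_le_left).exists_elt
    (hS.meet_cen hT.pi hTS.nrm fun e => hab.l.ne (mem_bot.1 (e ▸ ha')))
  replace hzS := le_cen1.2 hzS
  have z2 := hz2.sq
  have zc : ∀ y ∈ T ⊔ U, y * z = z * y := fun y hy => mem_cen1.1 (hzS hy)
  have fx : ∀ u ∈ U, u ≠ 1 → ∀ w ∈ T, w * w = 1 → u * w * u⁻¹ = w → w = 1 ∨ w = z :=
    fun u hu u1 w hw ww e => by
      by_contra! c
      exact hΓ u hu u1 z (hT.le hz) w (hT.le hw)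
        (by rw [zc u (mem_sup_right hu), mul_inv_cancel_right]) e
        ⟨hz2, invo_of ww c.1, (zc w (mem_sup_left hw)).symm, c.2⟩
  have star : ∀ w ∈ T, w * w = 1 → (∀ u ∈ U, w * (u * w * u⁻¹) = u * w * u⁻¹ * w) →
      w = 1 ∨ w = z := fun w hw ww hc => by
    by_contra! c
    have k1 : ∀ u ∈ U, Invo u → u * w * u⁻¹ = w * z := fun u hu iu => by
      rcases fx u hu iu.ne _ (mul_mem hw (conj_mem (hn hu) hw)) (by
        rw [mul_assoc, ← mul_assoc (u * w * u⁻¹), ← hc u hu, mul_assoc w, conj_sq1 ww, mul_one, ww])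
        (by rw [show u * (w * (u * w * u⁻¹)) * u⁻¹ = u * w * u⁻¹ * (u * (u * w * u⁻¹) * u⁻¹) by
          group, cc iu.sq, hc u hu]) with e | e
      · exact absurd (fx u hu iu.ne w hw ww (mul_left_cancel (e.trans ww.symm))) (not_or.2 c)
      · rw [← e, ← mul_assoc, ww, one_mul]
    have k2 := k1 _ (mul_mem hu hv) huv.mul
    rw [show u * v * w * (u * v)⁻¹ = u * (v * w * v⁻¹) * u⁻¹ by group, k1 v hv huv.r,
      show u * (w * z) * u⁻¹ = u * w * u⁻¹ * (u * z * u⁻¹) by group, k1 u hu huv.l,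
      zc u (mem_sup_right hu), mul_inv_cancel_right, mul_eq_left] at k2
    exact hz2.ne k2
  have hW : ⟪z⟫ ⊴ T ⊔ U := ⟨zpowers_le.2 (mem_sup_left hz), norms_zpowers_of_cen1 hzS⟩
  obtain ⟨B, hB, h1, h2, h3, h4⟩ := exists_scn hS hTS hW (zpowers_le.2 hz) (ab_zpowers z)
  have hun : ∀ w ∈ B, w * w = 1 → w = 1 ∨ w = z := fun w hw ww => star w (h2 hw) ww fun u hu =>
    h3.comm hw (hB.conj_mem (mem_sup_right hu) hw)
  obtain ⟨s, hs, ss, hs'⟩ : ∃ s ∈ T, s * s = 1 ∧ s ∉ B := by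
    by_contra! c
    exact hab.ne (((hun b (c b hb' hab.r.sq) hab.r.sq).resolve_left hab.r.ne).trans
      ((hun a (c a ha' hab.l.sq) hab.l.sq).resolve_left hab.l.ne).symm)
  obtain ⟨c, i, rfl, h⟩ := exists_cy hS hTS hB h2 (cyc_of_uniq h3 (hS.mono hB.le) z2 hun) h4
    (h1 (mem_zpowers z)) hz2.ne z2 hzS (fun w hw ww hc => star w hw ww fun u hu => by
      rcases hc u (mem_sup_right hu) with e | e <;> rw [e]
      rw [mul_assoc w z, ← zc w (mem_sup_left hw)]) hs hs'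
  have hnC : U ≤ N(⟪c⟫) := le_sup_right.trans hB.nrm
  have nf : ∀ u ∈ U, u ≠ 1 → ∀ w ∈ T, w ∉ ⟪c⟫ → w * w = 1 → u * w * u⁻¹ ≠ w :=
    fun u hu u1 w hw hw' ww e => by
      rcases fx u hu u1 w hw ww e with rfl | rfl
      · exact hw' (one_mem _)
      · exact hw' h.hz
  have main : ∀ u ∈ U, ∀ v ∈ U, Fr u v → u * i * u⁻¹ ≠ i := fun u hu v hv huv ui => by
    obtain ⟨us, uc | uc⟩ := h.fix_i hs hs' (hn hu) (hnC hu) huv.l.sq ui (nf u hu huv.l.ne s hs hs' ss)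
    · exact h.inner hA hT hs hs' ss (hUA hu) huv.l.sq (h.le h.hi) h.ii hs hs' (uc.trans h.i_c.symm)
        (us.trans (h.i_conj hs hs').symm)
    have zu : ∀ u ∈ U, u * z * u⁻¹ = z := fun u hu => h.fixz (hnC hu)
    have sc : s * c * s⁻¹ = c⁻¹ * z := (h.act hs hs').resolve_left fun e =>
      nf u hu huv.l.ne (s * c) (mul_mem hs h.hc) (h.mul_out hs' (mem_zpowers c))
        (by rw [show s * c * (s * c) = (s * c * s⁻¹) * (s * s) * c by group, e, ss]; simp)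
        (by rw [show u * (s * c) * u⁻¹ = (u * s * u⁻¹) * (u * c * u⁻¹) by group, us, uc, ← h.cz,
          mul_assoc, ← mul_assoc z, z2, one_mul])
    have vi : v * i * v⁻¹ = i⁻¹ := (h.pm (hnC hv)).resolve_left fun e =>
      nf _ (mul_mem hu hv) huv.mul.ne s hs hs' ss (by
        rw [show u * v * s * (u * v)⁻¹ = u * (v * s * v⁻¹) * u⁻¹ by group,
          (h.fix_i hs hs' (hn hv) (hnC hv) huv.r.sq e (nf v hv huv.r.ne s hs hs' ss)).1,
          show u * (s * z) * u⁻¹ = u * s * u⁻¹ * (u * z * u⁻¹) by group, us, zu u hu, mul_assoc, z2,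
          mul_one])
    obtain ⟨v, hv, iv, vc⟩ : ∃ v ∈ U, Invo v ∧ v * c * v⁻¹ = c⁻¹ * z := by
      have h5 := conj_mem (hnC hv) (mem_zpowers c)
      rcases h.of_fix (y := v) (mul_mem (mem_zpowers c) h5) (by
        rw [show v * (c * (v * c * v⁻¹)) * v⁻¹ = (v * c * v⁻¹) * (v * (v * c * v⁻¹) * v⁻¹) by group,
          cc huv.r.sq, h.cm h5 (mem_zpowers c)]) vi with e | e
      · refine ⟨v * u, mul_mem hv hu, huv.symm.mul, ?_⟩
        rw [show v * u * c * (v * u)⁻¹ = v * (u * c * u⁻¹) * v⁻¹ by group, uc,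
          show v * (c * z) * v⁻¹ = v * c * v⁻¹ * (v * z * v⁻¹) by group, zu v hv,
          eq_inv_of_mul_eq_one_right e]
      · exact ⟨v, hv, huv.r, by rw [← e]; group⟩
    obtain ⟨m, hm⟩ := h.mul (inv_mem hs) (conj_mem (hn hv) hs) (by simpa) fun e => hs' (by
      simpa [mul_assoc] using conj_mem' (hnC hv) e)
    replace hm : v * s * v⁻¹ = s * c ^ m := by simp only [] at hm; rw [hm]; group
    obtain ⟨l, rfl⟩ : ∃ l, m = 2 * l := by
      have := conj_sq1 ss v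
      rw [hm, h.sd_sq ss sc (one_mem _), one_mul] at this
      rcases Int.even_or_odd' m with ⟨l, e | e⟩
      · exact ⟨l, e⟩
      · exact absurd ((z_odd z2 ⟨l, e⟩).symm.trans this) hz2.ne
    have si : s⁻¹ = s := inv_eq_of_mul_eq_one_right ss
    have cj : ∀ j : ℤ, s * c ^ j * c * (s * c ^ j)⁻¹ = c⁻¹ * z := fun j => by rw [← sc]; group
    have sj : ∀ j : ℤ, s * c ^ j * s * (s * c ^ j)⁻¹ = s * (c ^ (2 * j) * z ^ j) := fun j => by
      have e1 := icz_pow h.cz sc (-j)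
      rw [show s * c ^ j * s * (s * c ^ j)⁻¹ = s * (c ^ j * (s * c ^ (-j) * s⁻¹)) by group, e1,
        zpow_neg z, ← inv_zpow, inv_eq_of_mul_eq_one_right z2]
      group
    have hy : ∀ j : ℤ, s * c ^ j ∈ T := fun j => mul_mem hs (zpow_mem h.hc j)
    rcases Int.even_or_odd l with d | d
    · refine nf v hv iv.ne _ (hy l) (h.mul_out hs' (zpow_mem (mem_zpowers c) l))
        (by rw [h.sd_sq ss sc (one_mem _), z_even z2 d, one_mul]) ?_
      rw [show v * (s * c ^ l) * v⁻¹ = v * s * v⁻¹ * (v * c ^ l * v⁻¹) by group, hm,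
        icz_pow h.cz vc, z_even z2 d]
      group
    · obtain ⟨p, hp⟩ := h.hi
      simp only [] at hp
      have ep : Even p := by
        by_contra e
        rw [← hp, cz_pow h.cz uc, z_odd z2 (Int.not_even_iff_odd.1 e), mul_eq_left] at ui
        exact hz2.ne ui
      refine h.inner hA hT hs hs' ss (hUA hv) iv.sq (hy (l + p))
        (by rw [h.sd_sq ss sc (one_mem _), z_odd z2 (d.add_even ep), one_mul]) hs hs'
        (vc.trans (cj _).symm) ?_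
      rw [hm, sj, z_odd z2 (d.add_even ep), mul_add, zpow_add, two_mul p, zpow_add, hp, h.ii,
        mul_assoc _ z, z2, mul_one]
  have e1 := (h.pm (hnC hu)).resolve_left (main u hu v hv huv)
  have e2 := (h.pm (hnC hv)).resolve_left (main v hv u hu huv.symm)
  refine main _ (mul_mem hu hv) u hu huv.left.symm ?_
  rw [show u * v * i * (u * v)⁻¹ = u * (v * i * v⁻¹) * u⁻¹ by group, e2, ← conj_inv, e1, inv_inv]

end Cfsg.Agent.H20.Sm
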