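import Cfsg.Agent.H20.Sm3

/-! An involution acting on a perfect group, fixed points with Sylow `2`-subgroup `Z₄`: first cases. -/

set_option autoImplicit false
set_option linter.unusedSectionVars false

namespace Cfsg.Agent.H20.Sm

open Subgroup Cfsg.Agent.FT Cfsg.Agent.GW
open scoped commutatorElement

variable {G : Type*} [Group G] [Finite G] {A B C D I K M P Q S T U W X : Subgroup G}
  {a b c d e g i r s t u v w x y z : G}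

theorem odd_conj (hc : PiElt {2} c) (c1 : c ≠ 1) (hg : g ∈ N(⟪c⟫)) :
    ∃ e : ℤ, Odd e ∧ g * c * g⁻¹ = c ^ e := by
  obtain ⟨e, he⟩ := conj_mem hg (mem_zpowers c)
  obtain ⟨f, hf⟩ := conj_mem' hg (mem_zpowers c)
  simp only [] at he hf
  refine ⟨e, by_contra fun h => c1 (mem_bot.1 (mem_of_zodd (k := f * e - 1) hc
    (((Int.not_odd_iff_even.1 h).mul_left f).sub_odd odd_one) ?_)), he.symm⟩
  rw [zpow_sub_one, zpow_mul, hf, show g⁻¹ * c * g = g⁻¹ * c * g⁻¹⁻¹ by simp, conj_zpow, he]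
  simp [mul_assoc]

structure Hy (A T : Subgroup G) (t x z : G) : Prop where
  hA : ⁅A, A⁆ = A
  hT : Syl 2 T A
  tA : t ∈ N(A)
  tT : t ∈ N(T)
  tt : t * t = 1
  t1 : t ≠ 1
  hx : x ∈ T
  xx : x * x = z
  z1 : z ≠ 1
  z2 : z * z = 1
  tx : t * x * t⁻¹ = x
  zc : T ≤ C[z]
  fx : ∀ g ∈ T, t * g * t⁻¹ = g → g ∈ ⟪x⟫
  nf : ∀ a ∈ A, ∀ b ∈ A, t * a * t⁻¹ = a → t * b * t⁻¹ = b → ¬ Fr a b

namespace Hy
variable (h : Hy A T t x z)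
include h

theorem hz : z ∈ T := h.xx ▸ T.mul_mem h.hx h.hx
theorem tz : t * z * t⁻¹ = z := by rw [← conj_sq h.xx, h.tx, h.xx]
theorem c4 : C4 ⟪x⟫ x z :=
  ⟨cyc_zpowers x, (four_elt h.xx h.z2).zpowers, mem_zpowers x, h.xx, h.z1, h.z2⟩
theorem pS : PGrp 2 (T ⊔ ⟪t⟫) := h.hT.pi.sup (two_elt h.tt).zpowers (zpowers_le.2 h.tT)
theorem nS : T ⊴ T ⊔ ⟪t⟫ := nml_sup_left (zpowers_le.2 h.tT)
theorem sylS : Syl 2 (T ⊔ ⟪t⟫) (A ⊔ ⟪t⟫) :=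
  syl_sup h.hT (two_elt h.tt).zpowers (zpowers_le.2 h.tA) (zpowers_le.2 h.tT)
theorem zS : T ⊔ ⟪t⟫ ≤ C[z] :=
  sup_le h.zc (zpowers_le.2 (mem_cen1.2 (mul_inv_eq_iff_eq_mul.1 h.tz)))
theorem tS : t ∈ T ⊔ ⟪t⟫ := mem_sup_right (mem_zpowers t)
theorem cz (ha : a ∈ T) : a * z = z * a := mem_cen1.1 (h.zc ha)
theorem f2 (ha : a ∈ T) (aa : a * a = 1) (e : t * a * t⁻¹ = a) : a = 1 ∨ a = z :=
  h.c4.un (h.fx a ha e) aa
theorem fsq (ha : a ∈ T) (e : t * a * t⁻¹ = a) : a * a = 1 ∨ a * a = z := by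
  obtain ⟨k, rfl⟩ := h.fx a ha e
  simp only []
  rw [← Commute.mul_zpow (Commute.refl x), h.xx]
  exact (Int.even_or_odd k).imp (z_even h.z2) (z_odd h.z2)
theorem ti : t⁻¹ = t := inv_eq_of_mul_eq_one_right h.tt
theorem zi : z⁻¹ = z := inv_eq_of_mul_eq_one_right h.z2

theorem inv_comm (y : G) : t * (y⁻¹ * (t * y * t⁻¹)) * t⁻¹ = (y⁻¹ * (t * y * t⁻¹))⁻¹ := by
  rw [show t * (y⁻¹ * (t * y * t⁻¹)) * t⁻¹ = (t * y * t⁻¹)⁻¹ * (t * (t * y * t⁻¹) * t⁻¹) by group,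
    cc h.tt]; group

theorem nrm_fix (hB : Ab B) (tB : t ∈ N(B)) (hb : b ∈ B) :
    t * (b * (t * b * t⁻¹)) * t⁻¹ = b * (t * b * t⁻¹) := by
  rw [show t * (b * (t * b * t⁻¹)) * t⁻¹ = (t * b * t⁻¹) * (t * (t * b * t⁻¹) * t⁻¹) by group,
    cc h.tt, hB.comm hb (conj_mem tB hb)]

theorem om1 (hB : Ab B) (hBT : B ≤ T) (tB : t ∈ N(B)) (ha : a ∈ B) (aa : a * a = 1) (h1 : a ≠ 1)
    (h2 : a ≠ z) : t * a * t⁻¹ = a * z := by
  have h3 := conj_mem tB ha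
  rcases h.f2 (hBT (mul_mem ha h3)) (by
    rw [mul_assoc, ← mul_assoc (t * a * t⁻¹), ← hB.comm ha h3, mul_assoc a, conj_sq1 aa, mul_one, aa])
    (h.nrm_fix hB tB ha) with e | e
  · exact absurd (h.f2 (hBT ha) aa (mul_left_cancel (e.trans aa.symm))) (not_or.2 ⟨h1, h2⟩)
  · rw [← e, ← mul_assoc, aa, one_mul]

theorem om2 (hB : Ab B) (hBT : B ≤ T) (tB : t ∈ N(B)) (hw : w ∈ B) (ww : w * w = 1) (h1 : w ≠ 1)
    (h2 : w ≠ z) (ha : a ∈ B) (aa : a * a = 1) : a = 1 ∨ a = z ∨ a = w ∨ a = w * z := by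
  by_cases c1 : a = 1
  · exact Or.inl c1
  by_cases c2 : a = z
  · exact Or.inr (Or.inl c2)
  refine Or.inr (Or.inr ?_)
  rcases h.f2 (hBT (mul_mem hw ha)) (by
    rw [mul_assoc, ← mul_assoc a, ← hB.comm hw ha, mul_assoc w, aa, mul_one, ww]) (by
    rw [show t * (w * a) * t⁻¹ = t * w * t⁻¹ * (t * a * t⁻¹) by group, h.om1 hB hBT tB hw ww h1 h2,
      h.om1 hB hBT tB ha aa c1 c2, mul_assoc, ← mul_assoc z, ← h.cz (hBT ha), mul_assoc a, h.z2,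
      mul_one]) with e | e
  · exact Or.inl (mul_left_cancel (e.trans ww.symm))
  · exact Or.inr (by rw [← e, ← mul_assoc, ww, one_mul])

theorem ab_false (hab : Ab T) (hs : s ∈ T) (ss : s * s = 1) (s1 : s ≠ 1) (s2 : s ≠ z) : False := by
  by_cases c : ∀ y ∈ T, y * y * (y * y) = 1 → y * y = 1 ∨ y * y = z
  · refine h.z1 (mem_bot.1 ((abelian_Sylow_dp h.hT hab).inf.le ⟨⟨h.hz, h.hA.ge (h.hT.le h.hz)⟩,
      h.hz, mem_cen.2 fun g hg => ?_⟩))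
    have h1 := conj_sq h.xx g
    rcases c _ (conj_mem hg.2 h.hx) (by rw [h1, conj_sq1 h.z2]) with e | e <;> rw [h1] at e
    · exact absurd (by simpa using e) h.z1
    · exact mul_inv_eq_iff_eq_mul.1 e
  push Not at c
  obtain ⟨b, hb, b4, b1, b2⟩ := c
  refine brauer h.hA h.hT hab ?_ h.hz hs (mul_mem hs h.hz) fun a ha aa =>
    h.om2 hab le_rfl h.tT hs ss s1 s2 ha aa
  have hbb := T.mul_mem hb hb
  have l1 : ⟪x⟫ ⊔ ⟪b * b⟫ ≤ T := sup_le (zpowers_le.2 h.hx) (zpowers_le.2 hbb)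
  have e1 := (h.hT.pi.mono l1).mul_card_le (R := ⟪x⟫) (lt_of_le_of_ne le_sup_left fun e => by
    rcases h.c4.un (e.ge (mem_sup_right (mem_zpowers _))) b4 with d | d
    exacts [b1 d, b2 d])
  have e2 := h.hT.pi.mul_card_le (lt_of_le_of_ne l1 fun e => by
    obtain ⟨p, ⟨k, rfl⟩, q, hq, e3⟩ := (mem_sup_norm ((zpowers_le.2 hbb).trans
      (hab.norms (zpowers_le.2 h.hx)))).1 (e.ge hb)
    have hp := T.zpow_mem h.hx k
    have e4 := h.fsq hp (by rw [← conj_zpow, h.tx])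
    simp only [] at e3
    have qq : q * q = 1 := by rcases sq_mem_zpowers b4 hq with d | d <;> simp [d, b4]
    have : b * b = x ^ k * x ^ k := by
      rw [e3, mul_assoc, ← mul_assoc q, hab.comm (zpowers_le.2 hbb hq) hp, mul_assoc _ q, qq, mul_one]
    rw [← this] at e4
    exact e4.elim b1 b2)
  have e3 : #⟪x⟫ = 4 := by
    rw [card_zpowers']
    exact orderOf_eq_prime_pow (p := 2) (n := 1) (by simpa [sq, h.xx] using h.z1)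
      (by rw [show 2 ^ (1 + 1) = 2 * 2 from rfl, pow_mul, sq, sq, h.xx, h.z2])
  obtain ⟨n, hn⟩ := h.hT.pi.card
  rw [hn] at e2 ⊢
  exact pow_dvd_pow 2 ((Nat.pow_le_pow_iff_right one_lt_two).1 (show 2 ^ 4 ≤ 2 ^ n by omega))

theorem fixB (hBT : B ≤ T) (hx : x ∈ B) (hy : y ∈ T) (hb : b ∈ B)
    (e : y⁻¹ * (t * y * t⁻¹) = b⁻¹ * (t * b * t⁻¹)) : y ∈ B := by
  have := zpowers_le.2 hx (h.fx _ (mul_mem hy (inv_mem (hBT hb))) (by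
    rw [show t * (y * b⁻¹) * t⁻¹ = y * (y⁻¹ * (t * y * t⁻¹)) * (t * b * t⁻¹)⁻¹ by group, e]; group))
  simpa using mul_mem this hb

theorem exists_I (hB : Ab B) (hBT : B ≤ T) :
    ∃ r, ∀ b, b ∈ ⟪r⟫ ↔ b ∈ B ∧ t * b * t⁻¹ = b⁻¹ := by
  let I : Subgroup G :=
    { carrier := {b | b ∈ B ∧ t * b * t⁻¹ = b⁻¹}
      mul_mem' := fun {a b} ha hb => ⟨mul_mem ha.1 hb.1, by
        rw [show t * (a * b) * t⁻¹ = t * a * t⁻¹ * (t * b * t⁻¹) by group, ha.2, hb.2,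
          hB.comm ha.1 hb.1, mul_inv_rev]⟩
      one_mem' := ⟨one_mem _, by simp⟩
      inv_mem' := fun {a} ha => ⟨inv_mem ha.1, by rw [← conj_inv, ha.2]⟩ }
  have hI : I ≤ B := fun _ hb => hb.1
  obtain ⟨r, hr⟩ := cyc_iff.1 (cyc_of_uniq (hB.mono hI) (h.hT.pi.mono (hI.trans hBT)) h.z2
    fun a ha aa => h.f2 (hBT ha.1) aa (ha.2.trans (inv_eq_of_mul_eq_one_right aa)))
  exact ⟨r, fun b => hr ▸ Iff.rfl⟩

theorem n1 (hB : Ab B) (hBT : B ≤ T) (hn : B ⊴ T ⊔ ⟪t⟫) (ha : a ∈ T) (ha' : a ∉ B) (hb : b ∈ B) :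
    t * b * t⁻¹ = b⁻¹ ∨ t * b * t⁻¹ = b⁻¹ * z := by
  have tB := hn.nrm h.tS
  have h1 := conj_mem tB hb
  by_contra! hc
  have c1 : b * (t * b * t⁻¹) ≠ 1 := fun e => hc.1 (eq_inv_of_mul_eq_one_right e)
  have c2 : b * (t * b * t⁻¹) ≠ z := fun e => hc.2 (by rw [← e]; group)
  have hx : x ∈ B := zpowers_le.2 (mul_mem hb h1)
    (h.c4.mem (h.fx _ (hBT (mul_mem hb h1)) (h.nrm_fix hB tB hb)) c1 c2)
  obtain ⟨r, hr⟩ := h.exists_I hB hBT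
  obtain ⟨r1, r2⟩ := (hr r).1 (mem_zpowers r)
  obtain ⟨k, hk⟩ := (hr _).2 ⟨mul_mem (inv_mem hb) h1, h.inv_comm b⟩
  simp only [] at hk
  rcases Int.even_or_odd k with ⟨j, rfl⟩ | d
  · have h2 : t * b * t⁻¹ = b * r ^ j * r ^ j := by rw [mul_assoc b, ← zpow_add, hk]; group
    have h3 := h.fsq (hBT (mul_mem hb (zpow_mem r1 j))) (by
      rw [show t * (b * r ^ j) * t⁻¹ = t * b * t⁻¹ * (t * r ^ j * t⁻¹) by group, h2, ← conj_zpow, r2]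
      group)
    have h6 : b * r ^ j * (b * r ^ j) = b * (t * b * t⁻¹) := by
      rw [h2, mul_assoc b, ← mul_assoc (r ^ j), ← hB.comm hb (zpow_mem r1 j)]
    rw [h6] at h3
    exact h3.elim c1 c2
  obtain ⟨y, hy, hy', -, h4⟩ := exists_step h.pS hn h.nS hBT ha ha'
  have h5 : r ∈ ⟪b⁻¹ * (t * b * t⁻¹)⟫ := mem_of_zodd (h.hT.pi.piElt (hBT r1)) d (hk ▸ mem_zpowers _)
  obtain ⟨l, hl⟩ := zpowers_le.2 h5 ((hr _).2 ⟨h4 t h.tS, h.inv_comm y⟩)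
  refine hy' (h.fixB hBT hx hy (zpow_mem hb l) ?_)
  rw [← hl, ← conj_zpow, ← inv_zpow]
  exact Commute.mul_zpow (hB.comm (inv_mem hb) h1) l

end Hy

end Cfsg.Agent.H20.Sm
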