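import Cfsg.Agent.H20.Sm4

/-! The dihedral and semidihedral cases. -/

set_option autoImplicit false
set_option linter.unusedSectionVars false

namespace Cfsg.Agent.H20.Sm

open Subgroup Cfsg.Agent.FT Cfsg.Agent.GW
open scoped commutatorElement

variable {G : Type*} [Group G] [Finite G] {A B C D I K M P Q S T U W X : Subgroup G}
  {a b c d e g i r s t u v w x y z : G}

theorem exists_M (hc : PiElt {2} c) (c1 : c ≠ 1) (tc : t ∈ N(⟪c⟫)) (xc : x ∈ N(⟪c⟫))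
    (tx : t * x = x * t) : ∃ M : Subgroup G, ∀ g, g ∈ M ↔
      ∃ a b k : ℤ, Even (a + b + k) ∧ g = t ^ a * x ^ b * c ^ k := by
  have hn : ∀ a b : ℤ, ∃ e : ℤ, Odd e ∧ ∀ k : ℤ,
      (t ^ a * x ^ b)⁻¹ * c ^ k * (t ^ a * x ^ b) = c ^ (e * k) := fun a b => by
    obtain ⟨e, h1, h2⟩ := odd_conj hc c1 (inv_mem (mul_mem (zpow_mem tc a) (zpow_mem xc b)))
    exact ⟨e, h1, fun k => by rw [zpow_mul, ← h2, conj_zpow, inv_inv]⟩
  have cm : ∀ a b : ℤ, x ^ b * t ^ a = t ^ a * x ^ b := fun a b =>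
    (Commute.zpow_zpow tx a b).eq.symm
  refine ⟨{ carrier := {g | ∃ a b k : ℤ, Even (a + b + k) ∧ g = t ^ a * x ^ b * c ^ k}
            mul_mem' := ?_, one_mem' := ⟨0, 0, 0, by simp, by simp⟩, inv_mem' := ?_ }, fun g => Iff.rfl⟩
  · rintro _ _ ⟨a, b, k, h1, rfl⟩ ⟨a', b', k', h2, rfl⟩
    obtain ⟨e, ⟨f, rfl⟩, h3⟩ := hn a' b'
    refine ⟨a + a', b + b', (2 * f + 1) * k + k', ?_, ?_⟩
    · rw [show a + a' + (b + b') + ((2 * f + 1) * k + k') =
        a + b + k + (a' + b' + k') + 2 * (f * k) by ring]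
      exact (h1.add h2).add (even_two_mul (f * k))
    · rw [zpow_add c, ← h3, zpow_add t, zpow_add x, mul_assoc (t ^ a) (t ^ a'),
        ← mul_assoc (t ^ a'), ← cm a' b]
      group
  · rintro _ ⟨a, b, k, h1, rfl⟩
    obtain ⟨e, ⟨f, rfl⟩, h3⟩ := hn (-a) (-b)
    refine ⟨-a, -b, (2 * f + 1) * -k, ?_, ?_⟩
    · rw [show -a + -b + (2 * f + 1) * -k = -(a + b + k) + 2 * (f * -k) by ring]
      exact h1.neg.add (even_two_mul (f * -k))
    · rw [← h3, ← cm (-a) (-b)]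
      group

namespace Hy
variable (h : Hy A T t x z)
include h

theorem nf' (hg : g ∈ A ⊔ ⟪t⟫) (hs : s ∈ T) (ss : s * s = 1) (s1 : s ≠ 1) (s2 : s ≠ z)
    (hu : g * t * g⁻¹ ∈ T ⊔ ⟪t⟫) : g * t * g⁻¹ * s * (g * t * g⁻¹)⁻¹ ≠ s := fun e => by
  have hn : g ∈ N(A) := sup_le (le_nrm A) (zpowers_le.2 h.tA) hg
  have k : ∀ s : G, g * t * g⁻¹ * s * (g * t * g⁻¹)⁻¹ = s →
      t * (g⁻¹ * s * g⁻¹⁻¹) * t⁻¹ = g⁻¹ * s * g⁻¹⁻¹ := fun s e => by
    conv_rhs => rw [← e]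
    group
  exact h.nf _ (conj_mem (inv_mem hn) (h.hT.le h.hz)) _ (conj_mem (inv_mem hn) (h.hT.le hs))
    (k z (by rw [mem_cen1.1 (h.zS hu), mul_inv_cancel_right])) (k s e)
    (Fr.cj ⟨invo_of h.z2 h.z1, invo_of ss s1, (h.cz hs).symm, s2⟩ g⁻¹)

theorem sd_case (k : Cy T c i z) (hx : x ∉ ⟪c⟫) (xc : x * c * x⁻¹ = c⁻¹ * z)
    (tc : t * c * t⁻¹ = c⁻¹) : False := by
  have z2 := h.z2
  have hc := h.hT.pi.piElt k.hc
  have odd1 : ∀ j : ℤ, Odd j → c ^ (2 * j) ≠ 1 := fun j hj e => by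
    obtain ⟨p, hp⟩ := k.hi
    have h1 : c ^ (2 : ℤ) = 1 := mem_bot.1 (mem_of_zodd (hc.zpow 2) hj (by rw [← zpow_mul, e]; simp))
    refine h.z1 ?_
    rw [← k.ii, ← hp]
    simp only []
    rw [← zpow_add, ← two_mul, zpow_mul, h1, one_zpow]
  have c1 : c ≠ 1 := fun e => odd1 1 odd_one (by simp [e])
  have tc' : ∀ j : ℤ, t * c ^ j * t⁻¹ = c ^ (-j) := fun j => by rw [← conj_zpow, tc, inv_zpow']
  have xc' := icz_pow k.cz xc
  have tn : t ∈ N(⟪c⟫) := mem_nrm.2 fun _ ⟨j, e⟩ => e ▸ (tc' j).symm ▸ zpow_mem (mem_zpowers c) _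
  have tx : t * x = x * t := mul_inv_eq_iff_eq_mul.1 h.tx
  obtain ⟨p, hp⟩ := k.hi
  simp only [] at hp
  have ep : Even p := by
    by_contra e
    have := k.out x h.hx hx
    rw [← hp, xc', z_odd z2 (Int.not_even_iff_odd.1 e), zpow_neg, mul_eq_left] at this
    exact h.z1 this
  have zp : z = c ^ (2 * p) := by rw [two_mul, zpow_add, hp, k.ii]
  have tT : t ∉ T := fun e => by
    rcases h.f2 e h.tt (by group) with d | d
    · exact h.t1 d
    · refine odd1 1 odd_one ?_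
      rw [d, k.cz, mul_inv_cancel_right] at tc
      rw [mul_one, zpow_two]; nth_rw 1 [tc]; exact inv_mul_cancel c
  have hnA : A ⊔ ⟪t⟫ ≤ N(A) := sup_le (le_nrm A) (zpowers_le.2 h.tA)
  have inT : ∀ u ∈ T ⊔ ⟪t⟫, u ∈ A → u ∈ T := fun u hu hu' =>
    (h.hT.max (h.pS.mono inf_le_left) (le_inf le_sup_left h.hT.le) inf_le_right).le ⟨hu, hu'⟩
  have tA : t ∉ A := fun e => tT (inT t h.tS e)
  have nT : ∀ u ∈ T, ∃ j : ℤ, u = c ^ j ∨ u = x * c ^ j := fun u hu => by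
    by_cases e : u ∈ ⟪c⟫
    · obtain ⟨j, rfl⟩ := e; exact ⟨j, Or.inl rfl⟩
    · obtain ⟨j, hj⟩ := k.mul (inv_mem h.hx) hu (by simpa) e
      exact ⟨j, Or.inr (by simp only [] at hj; rw [hj]; group)⟩
  have nS : ∀ u ∈ T ⊔ ⟪t⟫, u ∈ T ∨ t * u ∈ T := fun u hu => by
    obtain ⟨a, ha, b, hb, rfl⟩ := (mem_sup_norm (zpowers_le.2 h.tT)).1 hu
    rcases sq_mem_zpowers h.tt hb with rfl | rfl
    · exact Or.inl (by simpa)
    · exact Or.inr (by have := conj_mem h.tT ha; rwa [h.ti, mul_assoc] at this)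
  have nS' : ∀ u ∈ T ⊔ ⟪t⟫, u ∉ A → ∃ j : ℤ, u = t * c ^ j ∨ u = t * (x * c ^ j) :=
    fun u hu hu' => by
      obtain ⟨j, hj⟩ := nT _ ((nS u hu).resolve_left fun e => hu' (h.hT.le e))
      exact ⟨j, hj.imp (fun e => by rw [← e, ← mul_assoc, h.tt, one_mul])
        fun e => by rw [← e, ← mul_assoc, h.tt, one_mul]⟩
  obtain ⟨M, hM⟩ := exists_M hc c1 tn (k.nrm h.hx) tx
  have m1 : ∀ j : ℤ, Even j → c ^ j ∈ M := fun j hj => (hM _).2 ⟨0, 0, j, by simpa, by simp⟩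
  have m2 : ∀ j : ℤ, Odd j → x * c ^ j ∈ M := fun j hj =>
    (hM _).2 ⟨0, 1, j, by simpa using odd_one.add_odd hj, by simp⟩
  have m3 : ∀ j : ℤ, Odd j → t * c ^ j ∈ M := fun j hj =>
    (hM _).2 ⟨1, 0, j, by simpa using odd_one.add_odd hj, by simp⟩
  have m4 : ∀ j : ℤ, Even j → t * (x * c ^ j) ∈ M := fun j hj =>
    (hM _).2 ⟨1, 1, j, (even_two).add hj, by simp [mul_assoc]⟩
  have tM : t ∉ M := fun e => by
    obtain ⟨a, b, j, h1, h2⟩ := (hM t).1 e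
    rcases Int.even_or_odd a with d | d
    · rw [z_even h.tt d, one_mul] at h2
      exact tT (h2 ▸ mul_mem (zpow_mem h.hx b) (zpow_mem k.hc j))
    rw [z_odd h.tt d, mul_assoc, left_eq_mul] at h2
    rcases Int.even_or_odd b with ⟨l, rfl⟩ | d'
    · rw [← two_mul, zpow_mul, zpow_two, h.xx, zp, ← zpow_mul, ← zpow_add] at h2
      refine c1 (mem_bot.1 (mem_of_zodd hc ?_ (mem_bot.2 h2)))
      obtain ⟨a, rfl⟩ := d
      obtain ⟨m, hm⟩ := h1
      exact ⟨p * l + m - a - l - 1, by linear_combination hm⟩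
    · exact hx (mem_of_zodd (h.hT.pi.piElt h.hx) d' (by
        rw [eq_inv_of_mul_eq_one_left h2]; exact inv_mem (zpow_mem (mem_zpowers c) j)))
  have MS : M ≤ T ⊔ ⟪t⟫ := fun g hg => by
    obtain ⟨a, b, j, -, rfl⟩ := (hM g).1 hg
    exact mul_mem (mul_mem (zpow_mem h.tS a) (zpow_mem (mem_sup_left h.hx) b))
      (zpow_mem (mem_sup_left k.hc) j)
  have ct : ∀ j : ℤ, c ^ j * t = t * c ^ (-j) := fun j => by
    rw [← neg_neg j, ← tc' (-j), h.ti, mul_assoc, h.tt]; simp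
  have h2 : M.relIndex (T ⊔ ⟪t⟫) = 2 := rel2 h.tS tM fun b hb => by
    have hT' : ∀ u ∈ T, u ∈ M ∨ u * t ∈ M := fun u hu => by
      obtain ⟨j, rfl | rfl⟩ := nT u hu <;> rcases Int.even_or_odd j with d | d
      · exact Or.inl (m1 j d)
      · exact Or.inr (ct j ▸ m3 _ d.neg)
      · exact Or.inr (by rw [mul_assoc, ct, ← mul_assoc, ← tx, mul_assoc]; exact m4 _ d.neg)
      · exact Or.inl (m2 j d)
    obtain ⟨a, ha, f, hf, rfl⟩ := (mem_sup_norm (zpowers_le.2 h.tT)).1 hb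
    rcases sq_mem_zpowers h.tt hf with rfl | rfl
    · simpa using hT' a ha
    · rw [mul_assoc, h.tt, mul_one]; exact (hT' a ha).symm
  have xi : ∀ j : ℤ, c ^ j * x = x * (c ^ (-j) * z ^ j) := fun j => by
    have e := xc' (-j)
    rw [neg_neg, zpow_neg z] at e
    rw [← mul_assoc, mul_inv_eq_iff_eq_mul.1 e, mul_assoc, mul_assoc,
      (Commute.zpow_right (h.cz h.hx) j).eq, inv_mul_cancel_left]
  have hy : ∀ j : ℤ, x * c ^ j ∈ T := fun j => mul_mem h.hx (zpow_mem k.hc j)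
  have hy2 : ∀ j : ℤ, Odd j → x * c ^ j * (x * c ^ j) = 1 := fun j hj => by
    rw [k.sd_sq h.xx xc k.hz, z_odd z2 hj, z2]
  have hy3 : ∀ j : ℤ, x * c ^ j ≠ 1 ∧ x * c ^ j ≠ z := fun j =>
    ⟨fun e => k.mul_out hx (zpow_mem (mem_zpowers c) j) (e ▸ one_mem _),
      fun e => k.mul_out hx (zpow_mem (mem_zpowers c) j) (e ▸ k.hz)⟩
  have sq4 : ∀ j : ℤ, t * (x * c ^ j) * (t * (x * c ^ j)) = z * z ^ j * c ^ (2 * j) := fun j => by
    rw [show t * (x * c ^ j) * (t * (x * c ^ j)) = t * (x * (c ^ j * t) * (x * c ^ j)) by group, ct,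
      ← mul_assoc x, ← tx, show t * (t * x * c ^ (-j) * (x * c ^ j)) =
        t * t * ((x * c ^ (-j) * x⁻¹) * (x * x) * c ^ j) by group, h.tt, xc', h.xx, one_mul,
      neg_neg, zpow_neg z, ← inv_zpow, h.zi, zp]
    group
  have hb : ∀ g ∈ A ⊔ ⟪t⟫, g * t * g⁻¹ ∉ M := fun g hg e => by
    obtain ⟨j, d | d⟩ := nS' _ (MS e) fun d => tA (by simpa [mul_assoc] using conj_mem' (hnA hg) d)
    · have oj : Odd j := by
        by_contra c
        exact tM (by simpa [d] using mul_mem e (inv_mem (m1 j (Int.not_odd_iff_even.1 c))))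
      refine h.nf' hg (hy (j + p)) (hy2 _ (oj.add_even ep)) (hy3 _).1 (hy3 _).2 (MS e) ?_
      rw [d, show t * c ^ j * (x * c ^ (j + p)) * (t * c ^ j)⁻¹ =
        t * ((c ^ j * x) * c ^ p) * t⁻¹ by group, xi, z_odd z2 oj, zp,
        show t * (x * (c ^ (-j) * c ^ (2 * p)) * c ^ p) * t⁻¹ =
          (t * x * t⁻¹) * (t * c ^ (3 * p - j) * t⁻¹) by group, h.tx, tc',
        show j + p = -(3 * p - j) + 2 * p + 2 * p by ring, zpow_add, zpow_add, ← zp, mul_assoc _ z,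
        z2, mul_one]
    · have ej : Even j := by
        by_contra c
        exact tM (by simpa [d, mul_assoc] using mul_mem e (inv_mem (m2 j (Int.not_even_iff_odd.1 c))))
      have h3 := conj_sq1 h.tt g
      rw [d, sq4, z_even z2 ej, mul_one] at h3
      replace h3 : c ^ (2 * j) = z := by rw [← h.zi]; exact eq_inv_of_mul_eq_one_right h3
      refine h.nf' hg (hy 1) (hy2 _ odd_one) (hy3 _).1 (hy3 _).2 (MS e) ?_
      rw [d, show t * (x * c ^ j) * (x * c ^ (1 : ℤ)) * (t * (x * c ^ j))⁻¹ =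
        t * (x * ((c ^ j * x) * c ^ (1 - j)) * x⁻¹) * t⁻¹ by group, xi, z_even z2 ej,
        show t * (x * (x * (c ^ (-j) * 1) * c ^ (1 - j)) * x⁻¹) * t⁻¹ =
          t * (x * (x * (c * (c ^ (2 * j))⁻¹) * x⁻¹)) * t⁻¹ by group, h3,
        show x * (c * z⁻¹) * x⁻¹ = (x * c * x⁻¹) * (x * z * x⁻¹)⁻¹ by group, xc, h.cz h.hx,
        mul_inv_cancel_right, mul_inv_cancel_right,
        show t * (x * c⁻¹) * t⁻¹ = (t * x * t⁻¹) * (t * c * t⁻¹)⁻¹ by group, h.tx, tc, inv_inv,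
        zpow_one]
  have u2 : t * c * (t * c) = 1 := by
    rw [show t * c * (t * c) = (t * c * t⁻¹) * (t * t) * c by group, tc, h.tt]; simp
  have hcK : c ∈ A ⊔ ⟪t⟫ := mem_sup_left (h.hT.le k.hc)
  have tK : t ∈ A ⊔ ⟪t⟫ := mem_sup_right (mem_zpowers t)
  refine tt3 h.hA le_sup_left h.sylS h2 tK (mul_mem tK hcK) h.tt u2
    (by rw [← mul_assoc, h.tt, one_mul]; exact h.hT.le k.hc) hb fun g hg e => ?_
  obtain ⟨j, d | d⟩ := nS' _ e fun d => tA (by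
    have := mul_mem (conj_mem' (hnA hg) d) (inv_mem (h.hT.le k.hc))
    simpa [mul_assoc] using this)
  · rcases Int.even_or_odd j with ⟨l, rfl⟩ | o
    · refine absurd ?_ (hb (g⁻¹ * c ^ (-l)) (mul_mem (inv_mem hg) (zpow_mem hcK _)))
      rw [show g⁻¹ * c ^ (-l) * t * (g⁻¹ * c ^ (-l))⁻¹ = g⁻¹ * (c ^ (-l) * t * c ^ l) * g by group,
        ct, neg_neg, mul_assoc t, ← zpow_add, ← d]
      simpa [mul_assoc] using m3 1 odd_one
    · exact d ▸ m3 j o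
  · rcases Int.even_or_odd j with o | o
    · exact d ▸ m4 j o
    · have h3 := conj_sq1 u2 g
      rw [d, sq4, z_odd z2 o, z2, one_mul] at h3
      exact absurd h3 (odd1 j o)

theorem cyc_case (k : Cy T c i z) (tn : t ∈ N(⟪c⟫))
    (tc : t * c * t⁻¹ = c⁻¹ ∨ t * c * t⁻¹ = c⁻¹ * z) (hs : s ∈ T) (hs' : s ∉ ⟪c⟫)
    (ss : s * s = 1) : False := by
  have c2 : c * c ≠ 1 := fun e => h.z1 (by
    obtain ⟨p, hp⟩ := k.hi
    rw [← k.ii, ← hp, ← Commute.mul_zpow (Commute.refl c), e, one_zpow])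
  have c3 : ¬ (c = 1 ∨ c = z) := by rintro (rfl | rfl); exacts [c2 (mul_one 1), c2 h.z2]
  by_cases hx : x ∈ ⟪c⟫
  · have ti : t * i * t⁻¹ = i := (k.pm tn).resolve_right fun e => by
      rcases k.of_fix hx h.tx e with d | d
      · exact h.z1 (by rw [← h.xx, d, mul_one])
      · exact h.z1 (by rw [← h.xx, d, h.z2])
    obtain ⟨us, uc | uc⟩ := k.fix_i hs hs' h.tT tn h.tt ti fun e => by
      rcases h.f2 hs ss e with rfl | rfl
      exacts [hs' (one_mem _), hs' k.hz]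
    · exact k.inner h.hA h.hT hs hs' ss h.tA h.tt (k.le k.hi) k.ii hs hs' (uc.trans k.i_c.symm)
        (us.trans (k.i_conj hs hs').symm)
    · rcases tc with e | e
      · exact c3 (k.of_inv (mem_zpowers c) e ti)
      · rw [uc, mul_left_inj] at e
        exact c2 (by nth_rw 1 [e]; exact inv_mul_cancel c)
  by_cases e : t * c * t⁻¹ = x * c * x⁻¹
  · exact k.inner h.hA h.hT hs hs' ss h.tA h.tt h.hx h.xx h.hx hx e (by rw [h.tx]; group)
  rcases k.act h.hx hx with d | d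
  · obtain ⟨j, hj⟩ := k.mul (inv_mem h.hx) hs (by simpa) hs'
    replace hj : s = x * c ^ j := by simp only [] at hj; rw [hj]; group
    rw [hj, show x * c ^ j * (x * c ^ j) = (x * c ^ j * x⁻¹) * (x * x) * c ^ j by group, ← conj_zpow,
      d, h.xx, mul_assoc, ← h.cz (zpow_mem k.hc j), inv_zpow, inv_mul_cancel_left] at ss
    exact h.z1 ss
  · exact h.sd_case k hx d (tc.resolve_right fun f => e (f.trans d.symm))

end Hy

end Cfsg.Agent.H20.Sm
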