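import Cfsg.Agent.H20.Sm5

/-! The case of a normal four-subgroup: structure. -/

set_option autoImplicit false
set_option linter.unusedSectionVars false

namespace Cfsg.Agent.H20.Sm

open Subgroup Cfsg.Agent.FT Cfsg.Agent.GW
open scoped commutatorElement

variable {G : Type*} [Group G] [Finite G] {A B C D I K M P Q S T U W X : Subgroup G}
  {a b c d e g i r s t u v w x y z : G}

theorem mem_sup2 (hu : u ∈ N(I)) (uu : u * u ∈ I) (hg : g ∈ I ⊔ ⟪u⟫) : g ∈ I ∨ g * u⁻¹ ∈ I := by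
  obtain ⟨a, ha, _, ⟨k, rfl⟩, rfl⟩ := (mem_sup_norm (zpowers_le.2 hu)).1 hg
  simp only []
  rcases Int.even_or_odd' k with ⟨j, rfl | rfl⟩
  · exact Or.inl (mul_mem ha (by rw [zpow_mul, zpow_two]; exact zpow_mem uu j))
  · refine Or.inr ?_
    rw [zpow_add, zpow_one, ← mul_assoc, mul_inv_cancel_right, zpow_mul, zpow_two]
    exact mul_mem ha (zpow_mem uu j)

structure Nc (A T B : Subgroup G) (t x z w r i : G) : Prop extends Hy A T t x z where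
  hB : Ab B
  hBT : B ≤ T
  hn : B ⊴ T ⊔ ⟪t⟫
  hcen : T ⊓ C(B) ≤ B
  hw : w ∈ B
  ww : w * w = 1
  w1 : w ≠ 1
  w2 : w ≠ z
  hr : ∀ b, b ∈ ⟪r⟫ ↔ b ∈ B ∧ t * b * t⁻¹ = b⁻¹
  k4 : C4 ⟪r⟫ i z
  hN : ∀ b ∈ B, t * b * t⁻¹ = b⁻¹ ∨ t * b * t⁻¹ = b⁻¹ * z

namespace Nc
variable (h : Nc A T B t x z w r i)
include h

theorem IB : ⟪r⟫ ≤ B := fun b hb => ((h.hr b).1 hb).1
theorem rB : r ∈ B := h.IB (mem_zpowers r)
theorem iB : i ∈ B := h.IB h.k4.hi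
theorem zB : z ∈ B := h.IB h.k4.hz
theorem tB : t ∈ N(B) := h.hn.nrm h.tS
theorem nB (hg : g ∈ T) : g ∈ N(B) := h.hn.nrm (mem_sup_left hg)
theorem tw : t * w * t⁻¹ = w * z := h.om1 h.hB h.hBT h.tB h.hw h.ww h.w1 h.w2
theorem om (ha : a ∈ B) (aa : a * a = 1) : a = 1 ∨ a = z ∨ a = w ∨ a = w * z :=
  h.om2 h.hB h.hBT h.tB h.hw h.ww h.w1 h.w2 ha aa
theorem wi : w⁻¹ = w := inv_eq_of_mul_eq_one_right h.ww
theorem wz2 : w * z * (w * z) = 1 := by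
  rw [mul_assoc, ← mul_assoc z, ← h.hB.comm h.hw h.zB, mul_assoc w, h.z2, mul_one, h.ww]
theorem wI : w ∉ ⟪r⟫ := fun e => (h.k4.un e h.ww).elim h.w1 h.w2
theorem wzI : w * z ∉ ⟪r⟫ := fun e => h.wI (by simpa using mul_mem e (inv_mem h.k4.hz))

theorem pmw (hg : g ∈ T ⊔ ⟪t⟫) : g * w * g⁻¹ = w ∨ g * w * g⁻¹ = w * z := by
  rcases h.om (h.hn.conj_mem hg h.hw) (conj_sq1 h.ww g) with e | e | e
  · exact absurd (by simpa using e) h.w1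
  · rw [mul_inv_eq_iff_eq_mul, ← mem_cen1.1 (h.zS hg), mul_right_inj] at e
    exact absurd e h.w2
  · exact e

theorem split (hb : b ∈ B) : b ∈ ⟪r⟫ ∨ b * w ∈ ⟪r⟫ :=
  (h.hN b hb).imp (fun e => (h.hr b).2 ⟨hb, e⟩) fun e => (h.hr _).2 ⟨mul_mem hb h.hw, by
    rw [show t * (b * w) * t⁻¹ = t * b * t⁻¹ * (t * w * t⁻¹) by group, e, h.tw,
      h.hB.comm h.hw h.zB, mul_assoc, ← mul_assoc z, h.z2, one_mul, h.hB.comm hb h.hw, mul_inv_rev,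
      h.wi]⟩

theorem split' (hb : b ∈ B) : ∃ j : ℤ, b = r ^ j ∨ b = r ^ j * w := by
  rcases h.split hb with ⟨j, e⟩ | ⟨j, e⟩ <;> simp only [] at e
  · exact ⟨j, Or.inl e.symm⟩
  · exact ⟨j, Or.inr (by rw [e, mul_assoc, h.ww, mul_one])⟩

theorem sqI (hb : b ∈ B) : b * b ∈ ⟪r⟫ := by
  obtain ⟨j, rfl | rfl⟩ := h.split' hb
  · exact mul_mem (zpow_mem (mem_zpowers r) j) (zpow_mem (mem_zpowers r) j)
  · rw [mul_assoc, ← mul_assoc w, h.hB.comm h.hw (zpow_mem h.rB j), mul_assoc _ w, h.ww, mul_one]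
    exact mul_mem (zpow_mem (mem_zpowers r) j) (zpow_mem (mem_zpowers r) j)

theorem iw : x ∈ ⟪i * w⟫ := by
  have h1 : i * w * (i * w) = z := by
    rw [mul_assoc, ← mul_assoc w, h.hB.comm h.hw h.iB, mul_assoc _ w, h.ww, mul_one, h.k4.ii]
  refine h.c4.mem (h.fx _ (h.hBT (mul_mem h.iB h.hw)) ?_) (fun e => h.z1 ?_) fun e => h.z1 ?_
  · rw [show t * (i * w) * t⁻¹ = t * i * t⁻¹ * (t * w * t⁻¹) by group, h.tw, ((h.hr i).1 h.k4.hi).2,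
      h.k4.inv_eq, h.hB.comm h.hw h.zB, mul_assoc, ← mul_assoc z, h.z2, one_mul]
  · rw [← h1, e, mul_one]
  · rw [← h1, e, h.z2]

theorem xB : x ∈ B := zpowers_le.2 (mul_mem h.iB h.hw) h.iw

theorem tr (j : ℤ) : t * r ^ j * t⁻¹ = r ^ (-j) := by
  rw [((h.hr _).1 (zpow_mem (mem_zpowers r) j)).2, zpow_neg]

theorem ev (hu : u ∈ T) {j : ℤ} (hj : Even j) (e : u⁻¹ * (t * u * t⁻¹) = r ^ j) : u ∈ B := by
  obtain ⟨l, rfl⟩ := hj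
  exact h.fixB h.hBT h.xB hu (zpow_mem h.rB (-l)) (by rw [e, h.tr]; group)

theorem od (hu : u ∈ T) (hu' : u ∉ B) (e : u⁻¹ * (t * u * t⁻¹) ∈ B) :
    ∃ j : ℤ, Odd j ∧ u⁻¹ * (t * u * t⁻¹) = r ^ j := by
  obtain ⟨j, hj⟩ := (h.hr _).2 ⟨e, h.inv_comm u⟩
  exact ⟨j, by_contra fun c => hu' (h.ev hu (Int.not_odd_iff_even.1 c) hj.symm), hj.symm⟩

theorem r2 : PiElt {2} r := h.hT.pi.piElt (h.hBT h.rB)
theorem r1 : r ≠ 1 := fun e => h.z1 (by simpa [e] using h.k4.hz)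

theorem gen (hu : u ∈ T) (hu' : u ∉ B) (e : u⁻¹ * (t * u * t⁻¹) ∈ B) :
    ⟪u⁻¹ * (t * u * t⁻¹)⟫ = ⟪r⟫ := by
  obtain ⟨j, h1, h2⟩ := h.od hu hu' e
  exact le_antisymm (zpowers_le.2 (h2 ▸ zpow_mem (mem_zpowers r) j))
    (zpowers_le.2 (mem_of_zodd h.r2 h1 (h2 ▸ mem_zpowers _)))

theorem cenB (hg : g ∈ T) (h1 : g * r * g⁻¹ = r) (h2 : g * w * g⁻¹ = w) : g ∈ B := by
  refine h.hcen ⟨hg, mem_cen.2 fun b hb => ?_⟩
  have c1 : Commute g r := mul_inv_eq_iff_eq_mul.1 h1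
  have c2 : Commute g w := mul_inv_eq_iff_eq_mul.1 h2
  obtain ⟨j, rfl | rfl⟩ := h.split' hb
  · exact (c1.zpow_right j).eq.symm
  · exact ((c1.zpow_right j).mul_right c2).eq.symm

theorem nI (hg : g ∈ T) (e : g⁻¹ * (t * g * t⁻¹) ∈ B) : g ∈ N(⟪r⟫) := mem_nrm.2 fun b hb => by
  obtain ⟨h1, h2⟩ := (h.hr b).1 hb
  refine (h.hr _).2 ⟨conj_mem (h.nB hg) h1, ?_⟩
  rw [show t * (g * b * g⁻¹) * t⁻¹ = g * ((g⁻¹ * (t * g * t⁻¹)) * (t * b * t⁻¹) *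
    (g⁻¹ * (t * g * t⁻¹))⁻¹) * g⁻¹ by group, h2, h.hB.comm e (inv_mem h1)]
  group

theorem two (ha : a ∈ T) (ha' : a ∉ B) : ∃ y ∈ T, y ∉ B ∧ y⁻¹ * (t * y * t⁻¹) ∈ B ∧ y * y ∈ B ∧
    ∀ a ∈ T, a ∈ B ∨ a * y⁻¹ ∈ B := by
  obtain ⟨y, hy, hy', yy, h1⟩ := exists_step h.pS h.hn h.nS h.hBT ha ha'
  refine ⟨y, hy, hy', h1 t h.tS, yy, fun a ha => mem_sup2 (h.nB hy) yy (by_contra fun c => ?_)⟩
  obtain ⟨a, ha, c, -, h2⟩ := exists_step h.pS (nml_step h.hn (mem_sup_left hy) h1) h.nS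
    (sup_le h.hBT (zpowers_le.2 hy)) ha c
  replace h2 := h2 t h.tS
  have hv : a⁻¹ * (t * a * t⁻¹) ∈ T := mul_mem (inv_mem ha) (conj_mem h.tT ha)
  by_cases d : a⁻¹ * (t * a * t⁻¹) ∈ B
  · obtain ⟨j, j1, j2⟩ := h.od ha (fun e => c (mem_sup_left e)) d
    obtain ⟨l, l1, l2⟩ := h.od hy hy' (h1 t h.tS)
    obtain ⟨m, m1, m2⟩ := odd_conj h.r2 h.r1 (inv_mem (mul_mem (inv_mem (h.nI hy (h1 t h.tS)))
      (h.nI ha d)))
    have := h.ev (mul_mem (inv_mem hy) ha) ((m1.mul l1.neg).add_odd j1) (by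
      rw [zpow_add, zpow_mul, ← m2, conj_zpow, zpow_neg, ← l2, ← j2]; group)
    exact c (by simpa using mul_mem (mem_sup_right (S := B) (mem_zpowers y)) (mem_sup_left this))
  · have vv : a⁻¹ * (t * a * t⁻¹) * (a⁻¹ * (t * a * t⁻¹)) ∈ B := by
      have e := (mem_sup2 (h.nB hy) yy h2).resolve_left d
      generalize a⁻¹ * (t * a * t⁻¹) = v at e
      convert mul_mem (mul_mem e (conj_mem (h.nB hy) e)) yy using 1
      group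
    have vw : a⁻¹ * (t * a * t⁻¹) * w * (a⁻¹ * (t * a * t⁻¹))⁻¹ = w := by
      have tw' : t⁻¹ * w * t = w * z := by rw [← h.tw, h.ti]
      have zz : ∀ g ∈ T ⊔ ⟪t⟫, g * z * g⁻¹ = z := fun g hg => by
        rw [mem_cen1.1 (h.zS hg), mul_inv_cancel_right]
      rw [show a⁻¹ * (t * a * t⁻¹) * w * (a⁻¹ * (t * a * t⁻¹))⁻¹ =
        a⁻¹ * (t * (a * (t⁻¹ * w * t) * a⁻¹) * t⁻¹) * a by group, tw',
        show a * (w * z) * a⁻¹ = a * w * a⁻¹ * (a * z * a⁻¹) by group, zz a (mem_sup_left ha),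
        show t * (a * w * a⁻¹ * z) * t⁻¹ = t * (a * w * a⁻¹) * t⁻¹ * (t * z * t⁻¹) by group, h.tz]
      have : t * (a * w * a⁻¹) * t⁻¹ * z = a * w * a⁻¹ := by
        rcases h.pmw (mem_sup_left ha) with e | e <;> rw [e]
        · rw [h.tw, mul_assoc, h.z2, mul_one]
        · rw [show t * (w * z) * t⁻¹ = t * w * t⁻¹ * (t * z * t⁻¹) by group, h.tw, h.tz,
            mul_assoc w z z, h.z2, mul_one]
      rw [this]; group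
    have h3 := h.inv_comm a
    generalize a⁻¹ * (t * a * t⁻¹) = v at *
    have h4 := h.gen hv d (by rw [h3, ← mul_inv_rev]; exact inv_mem vv)
    obtain ⟨j, hj⟩ := h4.ge (mem_zpowers r)
    exact d (h.cenB hv (by rw [← hj, h3, ← conj_zpow]; group) vw)

theorem relM (hu : u ∈ T) (hu' : u ∉ B) (un : u ∈ N(⟪r⟫)) (uu : u * u ∈ ⟪r⟫)
    (h2 : ∀ a ∈ T, a ∈ B ∨ a * u⁻¹ ∈ B) : (⟪r⟫ ⊔ ⟪u⟫).relIndex T = 2 := by
  have m : ∀ g, g * u⁻¹ ∈ ⟪r⟫ → g ∈ ⟪r⟫ ⊔ ⟪u⟫ := fun g hg => by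
    simpa using mul_mem (mem_sup_left (T := ⟪u⟫) hg) (mem_sup_right (mem_zpowers u))
  refine rel2 (h.hBT h.hw) (fun e => (mem_sup2 un uu e).elim h.wI fun d => hu' ?_) fun g hg => ?_
  · simpa using mul_mem (inv_mem (h.IB d)) h.hw
  rcases h2 g hg with e | e
  · exact (h.split e).imp mem_sup_left mem_sup_left
  refine (h.split e).imp (m g) fun d => m _ ?_
  rw [show g * w * u⁻¹ = g * u⁻¹ * (u * w * u⁻¹) by group]
  rcases h.pmw (mem_sup_left hu) with f | f <;> rw [f]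
  · exact d
  · rw [← mul_assoc]; exact mul_mem d h.k4.hz

end Nc

end Cfsg.Agent.H20.Sm
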