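import Cfsg.Agent.H20.Sm6

/-! The case of a normal four-subgroup: fusion arguments. -/

set_option autoImplicit false
set_option linter.unusedSectionVars false

namespace Cfsg.Agent.H20.Sm

open Subgroup Cfsg.Agent.FT Cfsg.Agent.GW
open scoped commutatorElement

variable {G : Type*} [Group G] [Finite G] {A B C D I K M P Q S T U W X : Subgroup G}
  {a b c d e g i r s t u v w x y z : G}

structure Nd (A T B : Subgroup G) (t x z w r i y : G) : Prop extends Nc A T B t x z w r i where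
  hy : y ∈ T
  hy' : y ∉ B
  yy : y * y ∈ B
  ty : t * y * t⁻¹ = y * r
  dec : ∀ a ∈ T, a ∈ B ∨ a * y⁻¹ ∈ B

theorem or_mul (z2 : z * z = 1) (ha : a = 1 ∨ a = z) (hb : b = 1 ∨ b = z) :
    a * b = 1 ∨ a * b = z := by
  rcases ha with rfl | rfl <;> rcases hb with rfl | rfl <;> simp [z2]

theorem p4 (a : G) : a ^ 4 = a * a * (a * a) := by
  rw [show 4 = 2 * 2 from rfl, pow_mul, sq, sq]

namespace Nd
variable (h : Nd A T B t x z w r i y)
include h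

theorem dec' (ha : a ∈ T) (ha' : a ∉ B) : ∃ b ∈ B, a = y * b :=
  ⟨_, conj_mem' (h.nB h.hy) ((h.dec a ha).resolve_left ha'), by group⟩

theorem dec2 (hu : u ∈ T) (hu' : u ∉ B) (a : G) (ha : a ∈ T) : a ∈ B ∨ a * u⁻¹ ∈ B :=
  (h.dec a ha).imp_right fun e => by
    convert mul_mem e (inv_mem ((h.dec u hu).resolve_left hu')) using 1; group

theorem rel : B.relIndex T = 2 := rel2 (inv_mem h.hy) (by simpa using h.hy') h.dec

theorem beta (ha : a ∈ T) : a⁻¹ * (t * a * t⁻¹) ∈ B := by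
  by_cases c : a ∈ B
  · exact mul_mem (inv_mem c) (conj_mem h.tB c)
  obtain ⟨b, hb, rfl⟩ := h.dec' ha c
  rw [show (y * b)⁻¹ * (t * (y * b) * t⁻¹) = b⁻¹ * (y⁻¹ * (t * y * t⁻¹)) * (t * b * t⁻¹) by group,
    h.ty, inv_mul_cancel_left]
  exact mul_mem (mul_mem (inv_mem hb) h.rB) (conj_mem h.tB hb)

theorem TI (ha : a ∈ T) : a ∈ N(⟪r⟫) := h.nI ha (h.beta ha)

theorem sq_mul (hb : b ∈ B) : y * b * (y * b) = y * y * (y * b * y⁻¹ * b) := by
  rw [← mul_assoc (y * y), h.hB.comm h.yy (conj_mem (h.nB h.hy) hb)]; group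

theorem act (hb : b ∈ B) (hc : c ∈ B) : y * b * c * (y * b)⁻¹ = y * c * y⁻¹ := by
  rw [mul_assoc y, h.hB.comm hb hc]; group

theorem nu_mul (ha : a ∈ B) (hb : b ∈ B) :
    y * (a * b) * y⁻¹ * (a * b) = y * a * y⁻¹ * a * (y * b * y⁻¹ * b) := by
  rw [mul_assoc (y * a * y⁻¹), ← mul_assoc a, h.hB.comm ha (conj_mem (h.nB h.hy) hb)]; group

theorem nu_pow (j : ℤ) : y * r ^ j * y⁻¹ * r ^ j = (y * r * y⁻¹ * r) ^ j := by
  rw [Commute.mul_zpow (h.hB.comm (conj_mem (h.nB h.hy) h.rB) h.rB), conj_zpow]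

theorem nu_w : y * w * y⁻¹ * w = 1 ∨ y * w * y⁻¹ * w = z :=
  (h.pmw (mem_sup_left h.hy)).imp (fun e => by rw [e, h.ww]) fun e => by
    rw [e, h.hB.comm h.hw h.zB, mul_assoc, h.ww, mul_one]

theorem nu (h1 : y * r * y⁻¹ * r = 1 ∨ y * r * y⁻¹ * r = z) (ha : a ∈ T) (ha' : a ∉ B) :
    a * a = y * y ∨ a * a = y * y * z := by
  obtain ⟨b, hb, rfl⟩ := h.dec' ha ha'
  have h2 : ∀ j : ℤ, y * r ^ j * y⁻¹ * r ^ j = 1 ∨ y * r ^ j * y⁻¹ * r ^ j = z := fun j => by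
    rw [h.nu_pow]
    rcases h1 with e | e <;> rw [e]
    · simp
    · exact (Int.even_or_odd j).imp (z_even h.z2) (z_odd h.z2)
  have h3 : y * b * y⁻¹ * b = 1 ∨ y * b * y⁻¹ * b = z := by
    obtain ⟨j, rfl | rfl⟩ := h.split' hb
    · exact h2 j
    · rw [h.nu_mul (zpow_mem h.rB j) h.hw]; exact or_mul h.z2 (h2 j) h.nu_w
  rw [h.sq_mul hb]
  rcases h3 with e | e <;> simp [e]

theorem ty2 : t * (y * y) * t⁻¹ = y * y * (y * r * y⁻¹ * r) := by
  rw [← conj_sq rfl, h.ty, h.sq_mul h.rB]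

theorem sq4 (h1 : y * r * y⁻¹ * r = 1 ∨ y * r * y⁻¹ * r = z) (ha : a ∈ T) (ha' : a ∉ B) :
    a ^ 4 = y * y * (y * y) := by
  rw [p4]
  rcases h.nu h1 ha ha' with e | e <;> rw [e]
  rw [mul_assoc, ← mul_assoc z, ← h.hB.comm h.yy h.zB, mul_assoc _ z, h.z2, mul_one]

theorem cenT (hb : b ∈ B) (e : y * b * y⁻¹ = b) : T ≤ C[b] := fun a ha => by
  by_cases c : a ∈ B
  · exact mem_cen1.2 (h.hB.comm c hb)
  · obtain ⟨c, hc, rfl⟩ := h.dec' ha c
    exact mem_cen1.2 (mul_inv_eq_iff_eq_mul.1 ((h.act hc hb).trans e))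

theorem case2 (h1 : y * r * y⁻¹ * r = 1) (h2 : y * y * (y * y) = z) : False := by
  have h3 := h.ty2
  rw [h1, mul_one] at h3
  obtain ⟨g, hg, hb⟩ := tt4 (n := 4) h.hA h.hT h.rel (fun a ha ha' => by
    rw [h.sq4 (Or.inl h1) ha ha', h2]; exact h.z1) h.hy (by
      rw [mul_comm, pow_mul, h.sq4 (Or.inl h1) h.hy h.hy', h2, sq, h.z2])
  have h4 := ((h.hr _).1 (h.sqI hb)).2
  rw [conj_sq rfl] at h4
  replace h4 : g⁻¹ * t * g⁻¹⁻¹ * (y * y) * (g⁻¹ * t * g⁻¹⁻¹)⁻¹ = (y * y)⁻¹ := by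
    rw [show g⁻¹ * t * g⁻¹⁻¹ * (y * y) * (g⁻¹ * t * g⁻¹⁻¹)⁻¹ =
      g⁻¹ * (t * (g * (y * y) * g⁻¹) * t⁻¹) * g by group, h4]; group
  have h5 := cen_of_syl (X := ⟪y * y⟫) h.sylS (by
      rw [cen_zpowers]
      exact sup_le (h.cenT h.yy (by group)) (zpowers_le.2 (mem_cen1.2 (mul_inv_eq_iff_eq_mul.1 h3))))
    (mul_mem (mul_mem (inv_mem (mem_sup_left hg)) (mem_sup_right (mem_zpowers t)))
      (inv_mem (inv_mem (mem_sup_left hg))))
    (mem_nrm.2 fun _ ⟨j, e⟩ => by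
      rw [← e, ← conj_zpow, h4]; exact zpow_mem (inv_mem (mem_zpowers _)) j)
    ((two_elt h.tt).conj _)
  rw [cen_zpowers] at h5
  rw [mem_cen1.1 h5, mul_inv_cancel_right] at h4
  exact h.z1 (by rw [← h2]; nth_rw 1 [h4]; exact inv_mul_cancel _)

theorem case1 (h1 : y * r * y⁻¹ * r = 1) (h2 : y * y = 1 ∨ y * y = z) : False := by
  have z2 := h.z2
  have sq : ∀ a ∈ T, a ∉ B → a * a = 1 ∨ a * a = z := fun a ha ha' => by
    rcases h.nu (Or.inl h1) ha ha' with e | e <;> rw [e]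
    exacts [h2, or_mul z2 h2 (Or.inr rfl)]
  have sqI : ∀ a ∈ T, a * a ∈ ⟪r⟫ := fun a ha => by
    by_cases c : a ∈ B
    · exact h.sqI c
    · rcases sq a ha c with e | e <;> rw [e]
      exacts [one_mem _, h.k4.hz]
  have inv : ∀ a ∈ T, a ∉ B → ∀ b ∈ ⟪r⟫, a * b * a⁻¹ = b⁻¹ := fun a ha ha' b ⟨j, e⟩ => by
    obtain ⟨c, hc, rfl⟩ := h.dec' ha ha'
    rw [← e, h.act hc (zpow_mem h.rB j), ← conj_zpow, eq_inv_of_mul_eq_one_left h1, inv_zpow]
  have invol : ∀ u ∈ T, u ∉ B → ∀ a ∈ ⟪r⟫, a * u * (a * u) = u * u := fun u hu hu' a ha => by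
    rw [show a * u * (a * u) = a * (u * a * u⁻¹) * (u * u) by group, inv u hu hu' a ha]; simp
  have tt : ∀ u ∈ T, u ∉ B → ∃ g ∈ A, g * w * g⁻¹ = z ∨ ∃ a ∈ ⟪r⟫, g * w * g⁻¹ = a * u :=
    fun u hu hu' => by
      obtain ⟨g, hg, e⟩ := tt1 h.hA h.hT (h.relM hu hu' (h.TI hu) (sqI u hu) (h.dec2 hu hu'))
        (h.hBT h.hw) h.ww
      refine ⟨g, hg, (mem_sup2 (h.TI hu) (sqI u hu) e).imp (fun d => ?_) fun d => ⟨_, d, by group⟩⟩
      exact (h.k4.un d (conj_sq1 h.ww g)).resolve_left (by simpa using h.w1)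
  rcases h.pmw (mem_sup_left h.hy) with yw | yw
  swap
  · obtain ⟨u, hu, hu', uu⟩ : ∃ u ∈ T, u ∉ B ∧ u * u = z := by
      rcases h2 with e | e
      · refine ⟨y * w, mul_mem h.hy (h.hBT h.hw), fun d => h.hy' (by
          simpa using mul_mem d (inv_mem h.hw)), ?_⟩
        rw [h.sq_mul h.hw, e, yw, one_mul, h.hB.comm h.hw h.zB, mul_assoc, h.ww, mul_one]
      · exact ⟨y, h.hy, h.hy', e⟩
    obtain ⟨g, hg, e | ⟨a, ha, e⟩⟩ := tt u hu hu'
    · refine lemE h.hT (le_nrm A (h.hT.le h.hx)) (le_cen1.1 (h.cenT h.xB ?_)) h.xx h.z1 z2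
        (fun a ha e => h.k4.un (sqI a ha) e) (h.hBT h.hw) h.w2 hg e
      obtain ⟨j, hj⟩ := h.iw
      rw [← hj, ← conj_zpow, show y * (i * w) * y⁻¹ = y * i * y⁻¹ * (y * w * y⁻¹) by group, yw,
        inv y h.hy h.hy' i h.k4.hi, h.k4.inv_eq, h.hB.comm h.hw h.zB, mul_assoc, ← mul_assoc z, z2,
        one_mul]
    · exact h.z1 (by rw [← uu, ← invol u hu hu' a ha, ← e, conj_sq1 h.ww])
  have cw := h.cenT h.hw yw
  have cwz : T ≤ C[w * z] := h.cenT (mul_mem h.hw h.zB) (by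
    rw [show y * (w * z) * y⁻¹ = y * w * y⁻¹ * (y * z * y⁻¹) by group, yw, h.cz h.hy,
      mul_inv_cancel_right])
  have nz : ∀ v, T ≤ C[v] → v ∉ ⟪r⟫ → ∀ g ∈ A, g * z * g⁻¹ ≠ v := fun v hv hv' g hg e => by
    obtain ⟨k, -, k1, k2⟩ := ext h.hT hv (h.hT.le (h.hBT h.iB)) (four_elt h.k4.ii z2) hg e
      (h.hB.comm h.iB h.zB)
    exact hv' (by rw [← k1, ← conj_sq h.k4.ii]; exact sqI _ k2)
  have nw : ∀ g ∈ A, g * w * g⁻¹ ≠ z := fun g hg e =>
    nz w cw h.wI g⁻¹ (inv_mem hg) (by rw [← e]; group)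
  have iso : ∀ g ∈ A, g * z * g⁻¹ ∈ T → g * z * g⁻¹ = z := fun g hg e => by
    by_cases c : g * z * g⁻¹ ∈ B
    · rcases h.om c (conj_sq1 z2 g) with d | d | d | d
      · exact absurd (by simpa using d) h.z1
      · exact d
      · exact absurd d (nz w cw h.wI g hg)
      · exact absurd d (nz _ cwz h.wzI g hg)
    exfalso
    obtain ⟨k, hk, d | ⟨a, ⟨j, rfl⟩, d⟩⟩ := tt _ e c
    · exact nw k hk d
    simp only [] at d
    have key : ∀ v ∈ T, v ∉ B → ∀ l : ℤ, r ^ (2 * l) * v = r ^ l * v * (r ^ l)⁻¹ := fun v hv hv' l => by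
      rw [show r ^ l * v * (r ^ l)⁻¹ = r ^ l * (v * r ^ l * v⁻¹)⁻¹ * v by group,
        inv v hv hv' _ (zpow_mem (mem_zpowers r) l)]; group
    have hrA : ∀ l : ℤ, r ^ l ∈ A := fun l => zpow_mem (h.hT.le (h.hBT h.rB)) l
    rcases Int.even_or_odd' j with ⟨l, rfl | rfl⟩
    · rw [key _ e c] at d
      exact nw _ (mul_mem (inv_mem (mul_mem (hrA l) hg)) hk) (by
        rw [show (r ^ l * g)⁻¹ * k * w * ((r ^ l * g)⁻¹ * k)⁻¹ =
          (r ^ l * g)⁻¹ * (k * w * k⁻¹) * (r ^ l * g) by group, d]; group)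
    · obtain ⟨m, ⟨n, rfl⟩, m2⟩ := h.od e c (h.beta e)
      have e2 := conj_mem h.tT e
      have c2 : t * (g * z * g⁻¹) * t⁻¹ ∉ B := fun f => c (by
        simpa [mul_assoc] using conj_mem' h.tB f)
      have e3 : g * z * g⁻¹ = r ^ (2 * n + 1) * (t * (g * z * g⁻¹) * t⁻¹) := by
        have := inv _ e c _ (zpow_mem (mem_zpowers r) (2 * n + 1))
        rw [inv_mul_eq_iff_eq_mul.1 m2, mul_inv_eq_iff_eq_mul.1 this]; group
      rw [e3, ← mul_assoc, ← zpow_add, show 2 * l + 1 + (2 * n + 1) = 2 * (l + n + 1) by ring,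
        key _ e2 c2] at d
      refine nw _ (mul_mem (inv_mem (mul_mem (hrA (l + n + 1)) (conj_mem h.tA hg))) hk) ?_
      rw [show (r ^ (l + n + 1) * (t * g * t⁻¹))⁻¹ * k * w *
          ((r ^ (l + n + 1) * (t * g * t⁻¹))⁻¹ * k)⁻¹ = (r ^ (l + n + 1) * (t * g * t⁻¹))⁻¹ *
          (k * w * k⁻¹) * (r ^ (l + n + 1) * (t * g * t⁻¹)) by group, d]
      conv_rhs => rw [← h.tz]
      group
  obtain ⟨g, hg, e | ⟨a, ha, e⟩⟩ := tt y h.hy h.hy'
  · exact nw g hg e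
  have hu : a * y ∈ T := mul_mem (h.hBT (h.IB ha)) h.hy
  have hu' : a * y ∉ B := fun d => h.hy' (by simpa using mul_mem (inv_mem (h.IB ha)) d)
  generalize a * y = u at e hu hu'
  obtain ⟨k, hk, k1, k2⟩ := ext (s := u) h.hT cw (h.hT.le h.hz) (two_elt z2) (inv_mem hg)
    (by rw [← e]; group) (h.cz hu).symm
  replace k2 := iso k hk k2
  have iu : i * u * i⁻¹ = u * z := by
    have := inv _ (inv_mem hu) (by simpa using hu') i h.k4.hi
    rw [show i * u * i⁻¹ = u * (u⁻¹ * i * u⁻¹⁻¹) * i⁻¹ by group, this, mul_assoc, ← mul_inv_rev,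
      h.k4.ii, h.zi]
  have k3 : k * i * k⁻¹ * w * (k * i * k⁻¹)⁻¹ = w * z := by
    rw [← k1, ← k2, show k * i * k⁻¹ * (k * u * k⁻¹) * (k * i * k⁻¹)⁻¹ = k * (i * u * i⁻¹) * k⁻¹ by
      group, iu]; group
  have k4 : k * i * k⁻¹ * z * (k * i * k⁻¹)⁻¹ = z := by
    rw [← k2, show k * i * k⁻¹ * (k * z * k⁻¹) * (k * i * k⁻¹)⁻¹ = k * (i * z * i⁻¹) * k⁻¹ by
      group, h.hB.comm h.iB h.zB, mul_inv_cancel_right]
  have hF : Fr z w := ⟨invo_of z2 h.z1, invo_of h.ww h.w1, h.hB.comm h.zB h.hw, h.w2⟩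
  have k5 := cen_of_syl (X := ⟪z⟫ ⊔ ⟪w⟫) h.hT (by rw [hF.cen_V]; exact le_inf h.zc cw)
    (mul_mem (mul_mem hk (h.hT.le (h.hBT h.iB))) (inv_mem hk))
    (hF.mem_nrm (by rw [k4]; exact hF.l_mem) (by rw [k3]; exact mul_mem hF.r_mem hF.l_mem))
    ((four_elt h.k4.ii z2).conj k)
  rw [← mem_cen.1 k5 w hF.r_mem, mul_inv_cancel_right, left_eq_mul] at k3
  exact h.z1 k3

theorem case3 (h1 : y * r * y⁻¹ * r = z) : False := by
  have z2 := h.z2
  have h3 := h.ty2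
  rw [h1] at h3
  rcases h.hN _ h.yy with e | e
  · have h4 : y * y * (y * y) = z := by
      rw [h3] at e
      rw [← h.zi, eq_inv_iff_mul_eq_one, mul_assoc, e, mul_inv_cancel]
    obtain ⟨j, hj⟩ := (h.hr _).2 ⟨h.yy, e⟩
    simp only [] at hj
    have h5 := h.nu_pow j
    rw [h1, hj, show y * (y * y) * y⁻¹ = y * y by group, h4] at h5
    have h6 : r ∈ ⟪y * y⟫ := mem_of_zodd h.r2 (by_contra fun c => h.z1
      (h5.trans (z_even z2 (Int.not_odd_iff_even.1 c)))) (hj ▸ mem_zpowers _)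
    have h7 : ∀ b ∈ ⟪r⟫, b * b = 1 ∨ b * b = z := fun b hb => by
      obtain ⟨l, rfl⟩ := zpowers_le.2 h6 hb
      simp only []
      rw [← Commute.mul_zpow (Commute.refl _), h4]
      exact (Int.even_or_odd l).imp (z_even z2) (z_odd z2)
    refine tt5 (n := 4) h.hA h.hT h.rel (fun a ha ha' => by
      rw [h.sq4 (Or.inr h1) ha ha', h4]; exact h.z1) (fun b hb => ?_) h.hy h.hy' h.yy
    obtain ⟨l, rfl | rfl⟩ := h.split' hb
    · rw [p4 (r ^ l)]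
      rcases h7 _ (zpow_mem (mem_zpowers r) l) with d | d <;> simp [d, z2]
    · rw [Commute.mul_pow (h.hB.comm (zpow_mem h.rB l) h.hw),
        p4 (r ^ l),
        p4 w, h.ww]
      rcases h7 _ (zpow_mem (mem_zpowers r) l) with d | d <;> simp [d, z2]
  rw [h3, mul_left_inj] at e
  have h4 : y * y * (y * y) = 1 := by nth_rw 1 [e]; exact inv_mul_cancel _
  have h5 : y * y ∉ ⟪r⟫ := fun c => h.z1 (by
    rw [((h.hr _).1 c).2, ← e, left_eq_mul] at h3; exact h3)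
  have yw : y * w * y⁻¹ = w := by
    rcases h.om h.yy h4 with d | d | d | d
    · exact absurd (d ▸ one_mem _) h5
    · exact absurd (d ▸ h.k4.hz) h5
    · rw [← d]; group
    · rw [show w = y * y * z⁻¹ by rw [d]; group, show y * (y * y * z⁻¹) * y⁻¹ =
        y * y * (y * z * y⁻¹)⁻¹ by group, h.cz h.hy, mul_inv_cancel_right]
  obtain ⟨g, hg, hb⟩ := tt4 (n := 2) h.hA h.hT h.rel (fun a ha ha' c => h5 (by
    rcases h.nu (Or.inr h1) ha ha' with d | d <;> rw [← sq, c] at d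
    · exact d ▸ one_mem _
    · rw [eq_inv_of_mul_eq_one_left d.symm]; exact inv_mem h.k4.hz)) h.hy
    (by rw [h.sq4 (Or.inr h1) h.hy h.hy', h4])
  have h6 := h.sqI hb
  rw [conj_sq rfl] at h6
  replace h6 := (h.k4.un h6 (conj_sq1 h4 g)).resolve_left fun c => h5 (by
    rw [show y * y = 1 by simpa using c]; exact one_mem _)
  obtain ⟨p, hp⟩ := h.k4.hi
  simp only [] at hp
  rcases Int.even_or_odd p with ⟨q, rfl⟩ | d
  · obtain ⟨k, -, k1, k2⟩ := ext (s := z) (e := r ^ q) h.hT (h.cenT h.yy (by group))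
      (h.hT.le (h.hBT (zpow_mem h.rB q))) (h.r2.zpow q) (inv_mem hg) (by rw [← h6]; group)
      (h.hB.comm (zpow_mem h.rB q) h.zB)
    have k3 : (k * r ^ q * k⁻¹) ^ 4 = y * y := by
      rw [← k1, ← h.k4.ii, ← hp, p4]; group
    by_cases c : k * r ^ q * k⁻¹ ∈ B
    · refine h5 ?_
      rw [← k3, show 4 = 2 * 2 from rfl, pow_mul, sq (k * r ^ q * k⁻¹)]
      exact pow_mem (h.sqI c) 2
    · rw [h.sq4 (Or.inr h1) k2 c, h4] at k3
      exact h5 (k3 ▸ one_mem _)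
  · have h7 := h.nu_pow p
    rw [h1, z_odd z2 d, hp, ← h.k4.ii, mul_left_inj] at h7
    obtain ⟨l, hl⟩ := mem_of_zodd (M := ⟪i⟫) h.r2 d (hp ▸ mem_zpowers _)
    exact h.hy' (h.cenB h.hy (by rw [← hl, ← conj_zpow, h7]) yw)

theorem case4 (h1 : y * r * y⁻¹ * r ≠ 1) (h2 : y * r * y⁻¹ * r ≠ z) : False := by
  have z2 := h.z2
  have h3 := conj_mem (h.TI h.hy) (mem_zpowers r)
  have yi : y * i * y⁻¹ = i := (h.k4.pm (h.TI h.hy)).resolve_right fun e =>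
    (h.k4.of_fix (mul_mem h3 (mem_zpowers r)) (by
      rw [show y * (y * r * y⁻¹ * r) * y⁻¹ = (y * y * r * (y * y)⁻¹) * (y * r * y⁻¹) by group,
        h.hB.comm h.yy h.rB, mul_inv_cancel_right, h.k4.cm h3 (mem_zpowers r)]) e).elim h1 h2
  have key : ∀ a ∈ T, a ∉ B → ∀ b ∈ ⟪r⟫, a * b * a⁻¹ = b ∨ a * b * a⁻¹ = b * z :=
    fun a ha ha' b hb => by
      have aa : a * a ∈ B := idx2 h.rel ha ha ha' ha'
      have h4 := conj_mem (h.TI ha) hb
      rcases h.k4.of_inv (y := a) (mul_mem (inv_mem hb) h4) (by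
        rw [show a * (b⁻¹ * (a * b * a⁻¹)) * a⁻¹ = (a * b * a⁻¹)⁻¹ * (a * a * b * (a * a)⁻¹) by group,
          h.hB.comm aa (h.IB hb)]; group) (by
        obtain ⟨c, hc, rfl⟩ := h.dec' ha ha'
        rw [h.act hc h.iB, yi]) with e | e
      · exact Or.inl (inv_mul_eq_one.1 e).symm
      · exact Or.inr (by rw [← e]; group)
  have r4 : r * r * (r * r) ≠ 1 := fun e => by
    have h4 := h.k4.un (mul_mem (mem_zpowers r) (mem_zpowers r)) e
    rcases key y h.hy h.hy' r (mem_zpowers r) with d | d <;> rw [d] at h1 h2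
    · exact h4.elim h1 h2
    · rw [h.k4.cm (mem_zpowers r) h.k4.hz, mul_assoc] at h1 h2
      exact (or_mul z2 (Or.inr rfl) h4).elim h1 h2
  obtain ⟨m, hm⟩ := (IsPGroup.iff_orderOf (p := 2)).1 h.r2.zpowers.isPGroup ⟨r, mem_zpowers r⟩
  rw [← orderOf_coe] at hm
  simp only [] at hm
  obtain ⟨l, rfl⟩ : ∃ l, m = l + 3 := Nat.exists_eq_add_of_le' (by_contra fun c => r4 (by
    rw [← p4, show 4 = 2 ^ 2 from rfl, ← orderOf_dvd_iff_pow_eq_one, hm]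
    exact pow_dvd_pow 2 (by omega)))
  have e1 : ∀ j : ℤ, (r ^ j) ^ 2 ^ (l + 3) = 1 := fun j => by
    rw [← zpow_natCast, ← zpow_mul, mul_comm, zpow_mul, zpow_natCast, ← hm, pow_orderOf_eq_one,
      one_zpow]
  refine tt5 (n := 2 ^ (l + 3)) h.hA h.hT h.rel (fun a ha ha' e => ?_) (fun b hb => ?_) h.hy h.hy'
    h.yy
  · have aa : a * a ∈ B := idx2 h.rel ha ha ha' ha'
    have h4 := h.gen ha ha' (h.beta ha)
    have h5 : a⁻¹ * (t * a * t⁻¹) ∈ ⟪r⟫ := h4.le (mem_zpowers _)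
    have h6 : t * (a * a) * t⁻¹ = a * a * (a * (a⁻¹ * (t * a * t⁻¹)) * a⁻¹ * (a⁻¹ * (t * a * t⁻¹))) := by
      rw [← mul_assoc (a * a), h.hB.comm aa (conj_mem (h.nB ha) (h.IB h5))]; group
    have h7 := key a ha ha' _ h5
    generalize a⁻¹ * (t * a * t⁻¹) = β at *
    have bz : β * z = z * β := h.k4.cm h5 h.k4.hz
    have h8 : a ^ 4 * (β * β) = 1 ∨ a ^ 4 * (β * β) = z := by
      have h9 : a * a * (t * (a * a) * t⁻¹) = 1 ∨ a * a * (t * (a * a) * t⁻¹) = z :=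
        (h.hN _ aa).imp (fun e => by rw [e]; group) fun e => by rw [e]; group
      rw [h6] at h9
      rcases h7 with d | d <;> rw [d] at h9
      · simpa only [p4, mul_assoc] using h9
      · have := or_mul z2 h9 (Or.inr rfl)
        rw [mul_assoc β, ← bz] at this
        simpa only [p4, mul_assoc, z2, mul_one] using this
    have h9 : (a ^ 4 * (β * β)) ^ 2 = 1 := by rcases h8 with d | d <;> simp [d, sq, z2]
    have c4 : Commute (a ^ 4) (β * β) := by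
      rw [p4]
      exact h.hB.comm (mul_mem aa aa) (mul_mem (h.IB h5) (h.IB h5))
    have h10 : β ^ 2 ^ (l + 2) = 1 := by
      have := congrArg (· ^ 2 ^ l) h9
      simp only [one_pow] at this
      rw [← pow_mul, c4.mul_pow, ← pow_mul, show 4 * (2 * 2 ^ l) = 2 ^ (l + 3) by ring, e, one_mul,
        ← sq, ← pow_mul] at this
      rwa [show 2 ^ (l + 2) = 2 * (2 * 2 ^ l) by ring]
    obtain ⟨j, hj⟩ := h4.ge (mem_zpowers r)
    have h11 : 2 ^ (l + 3) ∣ 2 ^ (l + 2) := by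
      rw [← hm, orderOf_dvd_iff_pow_eq_one, ← hj]
      simp only []
      rw [← zpow_natCast, ← zpow_mul, mul_comm, zpow_mul, zpow_natCast, h10, one_zpow]
    have := (Nat.pow_dvd_pow_iff_le_right one_lt_two).1 h11
    omega
  · obtain ⟨j, rfl | rfl⟩ := h.split' hb
    · exact e1 j
    · rw [Commute.mul_pow (h.hB.comm (zpow_mem h.rB j) h.hw), e1, one_mul, pow_succ', pow_mul, sq,
        h.ww, one_pow]

theorem false : False := by
  by_cases h1 : y * r * y⁻¹ * r = 1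
  · have h3 := h.ty2
    rw [h1, mul_one] at h3
    rcases h.fsq (h.hBT h.yy) h3 with e | e
    · exact h.case1 h1 (h.f2 (h.hBT h.yy) e h3)
    · exact h.case2 h1 e
  by_cases h2 : y * r * y⁻¹ * r = z
  · exact h.case3 h2
  · exact h.case4 h1 h2

end Nd

theorem Nc.false (h : Nc A T B t x z w r i) (ha : a ∈ T) (ha' : a ∉ B) : False := by
  obtain ⟨y, hy, hy', h1, h2, h3⟩ := h.two ha ha'
  have e := h.gen hy hy' h1
  exact Nd.false (r := y⁻¹ * (t * y * t⁻¹)) (i := i) ⟨⟨h.toHy, h.hB, h.hBT, h.hn, h.hcen, h.hw, h.ww,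
    h.w1, h.w2, e ▸ h.hr, e ▸ h.k4, h.hN⟩, hy, hy', h2, by group, h3⟩

theorem Hy.false (h : Hy A T t x z) (hs : s ∈ T) (ss : s * s = 1) (s1 : s ≠ 1) (s2 : s ≠ z) :
    False := by
  by_cases H : ∀ w ∈ T, w * w = 1 → (∀ y ∈ T ⊔ ⟪t⟫, y * w * y⁻¹ = w ∨ y * w * y⁻¹ = w * z) →
    w = 1 ∨ w = z
  · obtain ⟨B, hB, h1, h2, h3, h4⟩ := exists_scn h.pS h.nS ⟨zpowers_le.2 (mem_sup_left h.hz),
      norms_zpowers_of_cen1 h.zS⟩ (zpowers_le.2 h.hz) (ab_zpowers z)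
    have hun : ∀ w ∈ B, w * w = 1 → w = 1 ∨ w = z := fun w hw ww => by
      by_contra! c
      refine not_or.2 c (H w (h2 hw) ww fun y hy => ?_)
      rcases h.om2 h3 h2 (hB.nrm h.tS) hw ww c.1 c.2 (hB.conj_mem hy hw) (conj_sq1 ww y) with
        e | e | e
      · exact absurd (by simpa using e) c.1
      · rw [mul_inv_eq_iff_eq_mul, ← mem_cen1.1 (h.zS hy), mul_right_inj] at e
        exact absurd e c.2
      · exact e
    have hs' : s ∉ B := fun e => (hun s e ss).elim s1 s2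
    obtain ⟨c, i, rfl, k⟩ := exists_cy h.pS h.nS hB h2 (cyc_of_uniq h3 (h.pS.mono hB.le) h.z2 hun)
      h4 (h1 (mem_zpowers z)) h.z1 h.z2 h.zS H hs hs'
    exact h.cyc_case k (hB.nrm h.tS) (h.n1 h3 h2 hB hs hs' (mem_zpowers c)) hs hs' ss
  push Not at H
  obtain ⟨w, hw, ww, H, w1, w2⟩ := H
  have hF : Fr z w := ⟨invo_of h.z2 h.z1, invo_of ww w1, (h.cz hw).symm, w2⟩
  obtain ⟨B, hB, h1, h2, h3, h4⟩ := exists_scn h.pS h.nS ⟨hF.V_le (mem_sup_left h.hz)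
    (mem_sup_left hw), fun y hy => hF.mem_nrm (by
      rw [mem_cen1.1 (h.zS hy), mul_inv_cancel_right]; exact hF.l_mem) (by
      rcases H y hy with e | e <;> rw [e]
      exacts [hF.r_mem, mul_mem hF.r_mem hF.l_mem])⟩ (hF.V_le h.hz hw) hF.ab
  obtain ⟨a, ha, ha'⟩ : ∃ a ∈ T, a ∉ B := by
    by_contra! c
    exact h.ab_false (h3.mono c) hs ss s1 s2
  have hN := fun b hb => h.n1 (b := b) h3 h2 hB ha ha' hb
  obtain ⟨r, hr⟩ := h.exists_I h3 h2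
  have hz : z ∈ ⟪r⟫ := (hr z).2 ⟨h1 hF.l_mem, by rw [h.tz, h.zi]⟩
  have hr2 := h.hT.pi.mono (zpowers_le.2 (h2 ((hr r).1 (mem_zpowers r)).1))
  by_cases c : r * r = 1
  swap
  · obtain ⟨i, hi, ii⟩ := exists_four (cyc_zpowers r) hr2 hz h.z1 h.z2 (mem_zpowers r) c
    exact Nc.false ⟨h, h3, h2, hB, h4, h1 hF.r_mem, ww, w1, w2, hr, ⟨cyc_zpowers r, hr2, hi, ii,
      h.z1, h.z2⟩, hN⟩ ha ha'
  have tw := h.om1 h3 h2 (hB.nrm h.tS) (h1 hF.r_mem) ww w1 w2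
  have b2 : ∀ b ∈ B, b * b = 1 := fun b hb => by
    have k : ∀ b ∈ ⟪r⟫, b * b = 1 := fun b hb => by
      rcases sq_mem_zpowers c hb with rfl | rfl <;> simp [c]
    rcases hN b hb with e | e
    · exact k b ((hr b).2 ⟨hb, e⟩)
    · have := k _ ((hr _).2 ⟨mul_mem hb (h1 hF.r_mem), by
        rw [show t * (b * w) * t⁻¹ = t * b * t⁻¹ * (t * w * t⁻¹) by group, e, tw, ← hF.comm,
          mul_assoc, ← mul_assoc z, h.z2, one_mul, h3.comm hb (h1 hF.r_mem), mul_inv_rev,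
          hF.r.inv]⟩)
      rwa [mul_assoc, ← mul_assoc w, ← h3.comm hb (h1 hF.r_mem), mul_assoc b w, ww, mul_one] at this
  have om := fun b hb => h.om2 (a := b) h3 h2 (hB.nrm h.tS) (h1 hF.r_mem) ww w1 w2 hb (b2 b hb)
  have cB : ∀ g ∈ T, g * w * g⁻¹ = w → g ∈ B := fun g hg e => h4 ⟨hg, mem_cen.2 fun b hb => by
    have e' := mul_inv_eq_iff_eq_mul.1 e
    rcases om b hb with rfl | rfl | rfl | rfl
    · simp
    · exact (h.cz hg).symm
    · exact e'.symm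
    · rw [mul_assoc, ← h.cz hg, ← mul_assoc, ← e', mul_assoc]⟩
  have xw : x * w * x⁻¹ = w * z := (H x (mem_sup_left h.hx)).resolve_left fun e =>
    h.z1 (h.xx.symm.trans (b2 x (cB x h.hx e)))
  have wx : w * x * w⁻¹ = x⁻¹ := by
    rw [hF.r.inv, mul_assoc, mul_inv_eq_iff_eq_mul.1 xw, ← mul_assoc, ← mul_assoc, ww, one_mul,
      h.c4.inv_eq, h.cz h.hx]
  have zx : z * x * z⁻¹ = x := by rw [← h.cz h.hx, mul_inv_cancel_right]
  have hzx := h.c4.hz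
  have dec : ∀ g ∈ T, g ∈ ⟪x⟫ ∨ ∃ f ∈ ⟪x⟫, g = w * f := fun g hg => by
    rcases H g (mem_sup_left hg) with e | e
    · rcases om g (cB g hg e) with rfl | rfl | rfl | rfl
      exacts [Or.inl (one_mem _), Or.inl hzx, Or.inr ⟨1, one_mem _, by simp⟩, Or.inr ⟨_, hzx, rfl⟩]
    · have := cB _ (mul_mem hg (inv_mem h.hx)) (by
        have e2 : x⁻¹ * w * x = w * z := by
          have e3 : x * (w * z) * x⁻¹ = w := by
            rw [show x * (w * z) * x⁻¹ = x * w * x⁻¹ * (x * z * x⁻¹) by group, xw, h.cz h.hx,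
              mul_inv_cancel_right, mul_assoc, h.z2, mul_one]
          conv_lhs => rw [← e3]
          group
        rw [show g * x⁻¹ * w * (g * x⁻¹)⁻¹ = g * (x⁻¹ * w * x) * g⁻¹ by group, e2,
          show g * (w * z) * g⁻¹ = g * w * g⁻¹ * (g * z * g⁻¹) by group, e, h.cz hg,
          mul_inv_cancel_right, mul_assoc, h.z2, mul_one])
      have hg' : g = g * x⁻¹ * x := by group
      rcases om _ this with d | d | d | d <;> rw [d] at hg'
      · exact Or.inl (hg' ▸ by simp)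
      · exact Or.inl (hg' ▸ mul_mem hzx (mem_zpowers x))
      · exact Or.inr ⟨x, mem_zpowers x, hg'⟩
      · exact Or.inr ⟨z * x, mul_mem hzx (mem_zpowers x), by rw [hg', mul_assoc]⟩
  have out : ∀ g ∈ T, g ∉ ⟪x⟫ → g * x * g⁻¹ = x⁻¹ := fun g hg hg' => by
    obtain ⟨f, hf, rfl⟩ := (dec g hg).resolve_left hg'
    rw [mul_assoc w, h.c4.cm hf (mem_zpowers x), ← wx]; group
  refine h.cyc_case (s := w) ⟨h.c4, h.hx, fun g hg => mem_nrm.2 fun _ ⟨j, e⟩ => ?_, out⟩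
    (mem_nrm.2 fun _ ⟨j, e⟩ => by rw [← e, ← conj_zpow, h.tx]; exact zpow_mem (mem_zpowers x) j)
    (Or.inr (by rw [h.tx, h.c4.inv_eq, mul_assoc, h.z2, mul_one])) hw
    (fun e => (h.c4.un e ww).elim w1 w2) ww
  by_cases d : g ∈ ⟪x⟫
  · exact mul_mem (mul_mem d ⟨j, e⟩) (inv_mem d)
  · rw [← e, ← conj_zpow, out g hg d]; exact zpow_mem (inv_mem (mem_zpowers x)) j

end Cfsg.Agent.H20.Sm
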