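import Cfsg.Agent.H20.Wr1
import Cfsg.Agent.GO.P8
import Cfsg.Agent.GO.Sr

/-! Two-groups of sectional rank four containing the wreath product. -/

set_option autoImplicit false
set_option linter.unusedSectionVars false
set_option linter.unusedVariables false

namespace Cfsg.Agent.H20.Wr

open Cfsg Subgroup Cfsg.Agent.FT Cfsg.Agent.GO

theorem cls (α : MulAut M) : ∃ (m : M) (i j k : Bool),
    (∀ x, m * α x * m⁻¹ = sg i j k x) ∨ (∀ x, m * α x * m⁻¹ = ta i j k x) := by
  have hc : α c * α c = 1 := by rw [← map_mul, (by decide : c * c = 1), map_one]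
  rcases cl1 _ hc with h | h | ⟨m1, h⟩
  · have := h (α (a * b))
    simp only [← map_mul, ← map_inv] at this
    exact absurd (α.injective this) (by decide)
  · have := h (α (a * b * c * (a * b) * c)) (by rw [← map_mul, ← map_mul]; exact congrArg α (by decide))
    rw [← map_mul, map_eq_one_iff _ α.injective] at this
    exact absurd this (by decide)
  · let β : MulAut M := MulAut.conj m1 * α
    have hβ : ∀ x, β x = m1 * α x * m1⁻¹ := fun x => rfl
    have e : β c = c := h
    have r : ∀ x y : M, x = y → β x = β y := fun x y h => congrArg β h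
    have r1 : ∀ x : M, x = 1 → β x = 1 := fun x h => by rw [h, map_one]
    obtain ⟨m, h1, h2⟩ := cl2 (β a) (by simpa only [map_mul] using r1 (a * a) (by decide))
      (by simpa only [map_mul, e] using r (a * (c * a * c)) (c * a * c * a) (by decide))
      (β b) (by simpa only [map_mul] using r1 (b * b) (by decide))
      (by simpa only [map_mul, e] using r (a * (c * b * c)) (c * b * c * a) (by decide))
      (by simpa only [map_mul, e] using r (b * (c * b * c)) (c * b * c * b) (by decide))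
      (fun h => by
        have : β (a * b * a * b * c * (a * b * a * b) * c) = 1 := by simpa only [map_mul, e] using h
        rw [map_eq_one_iff _ β.injective] at this
        exact absurd this (by decide))
      (by simpa only [map_mul] using r1 (a * b * a * b * (a * b * a * b)) (by decide))
    let γ : MulAut M := MulAut.conj m * β
    have hγ : ∀ x, γ x = m * β x * m⁻¹ := fun x => rfl
    have hγ' : ∀ x, m * m1 * α x * (m * m1)⁻¹ = γ x := fun x => by rw [hγ, hβ]; group
    obtain ⟨k, hk⟩ := h1.ex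
    have hk' : γ c = zz c k := by rw [hγ, e, hk]
    rcases h2 with ⟨ha, hb⟩ | ⟨ha, hb⟩
    · obtain ⟨i, hi⟩ := ha.ex
      obtain ⟨j, hj⟩ := hb.ex
      exact ⟨m * m1, i, j, k, Or.inl fun x => by rw [hγ', hom_eq γ x, hk', hγ, hγ, hi, hj]; rfl⟩
    · obtain ⟨i, hi⟩ := ha.ex
      obtain ⟨j, hj⟩ := hb.ex
      exact ⟨m * m1, i, j, k, Or.inr fun x => by rw [hγ', hom_eq γ x, hk', hγ, hγ, hi, hj]; rfl⟩

universe u

variable {S : Type u} [Group S] [Finite S] {ι : M →* S} {g : S}

theorem key (hι : Function.Injective ι) (hr : SR 4 (⊤ : Subgroup S)) (i j k : Bool)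
    (hg : ∀ x, g * ι x * g⁻¹ = ι (sg i j k x)) (h2 : g * g ∈ ZB.map ι) : g ∈ ι.range := by
  by_contra hn
  have hZ : ZB.map ι ≤ Bs.map ι := map_mono fun x hx => hx.1
  have hN : g ∈ normalizer (Bs.map ι : Set S) := mem_normalizer_fintype (by
    rintro _ ⟨x, hx, rfl⟩
    exact ⟨_, (sg_base i j k x hx).1, (hg x).symm⟩)
  have hc := H3.card_sup_zpowers Nat.prime_two hN (fun h => hn (map_le_range _ _ h)) (by rw [sq]; exact hZ h2)
  have := hr (Bs.map ι ⊔ zpowers g) (ZB.map ι) le_top (hZ.trans le_sup_left) fun x hx => by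
    obtain ⟨s, hs, _, ⟨n, rfl⟩, rfl⟩ := (mem_sup_norm (zpowers_le.2 hN)).1 hx
    have hs' : s * (g * g) ^ (n / 2) ∈ Bs.map ι := mul_mem hs (zpow_mem (hZ h2) _)
    have e : s * g ^ n = s * (g * g) ^ (n / 2) * g ^ (n % 2) := by
      rw [← sq, ← zpow_natCast, ← zpow_mul, mul_assoc, ← zpow_add]
      congr 2
      push_cast
      omega
    simp only
    rw [e]
    obtain ⟨y, hy, e'⟩ := hs'
    rw [← e']
    rcases Int.emod_two_eq_zero_or_one n with h | h <;> rw [h]
    · have := (sg_base false false false y hy).2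
      rw [sg_zero] at this
      exact ⟨y * y, this, by simp⟩
    · have e2 : ι y * g ^ (1 : ℤ) * (ι y * g ^ (1 : ℤ)) = ι (y * sg i j k y) * (g * g) := by
        rw [map_mul, ← hg]; group
      rw [e2]
      exact mul_mem ⟨_, (sg_base i j k y hy).2, rfl⟩ h2
  rw [hc, card_map_of_injective hι, card_map_of_injective hι, card_Bs, card_ZB] at this
  omega

theorem ex_sq (h2 : IsPGroup 2 S) (H : Subgroup S) (hg : g ∉ H) : ∃ n : ℕ, g ^ n ∉ H ∧ g ^ n * g ^ n ∈ H := by
  classical
  have ex : ∃ k : ℕ, g ^ 2 ^ k ∈ H := let ⟨k, hk⟩ := h2 g; ⟨k, hk ▸ one_mem H⟩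
  have h0 : Nat.find ex ≠ 0 := fun e => hg (by simpa [e] using Nat.find_spec ex)
  obtain ⟨n, hn⟩ := Nat.exists_eq_succ_of_ne_zero h0
  refine ⟨2 ^ n, Nat.find_min ex (by omega), ?_⟩
  have := Nat.find_spec ex
  rwa [hn, pow_succ, pow_mul, sq] at this

theorem cen_range (hι : Function.Injective ι) (hg : g ∈ ι.range) (h : ∀ x, ι x * g = g * ι x) : g = 1 ∨ g = ι z := by
  obtain ⟨y, rfl⟩ := hg
  have k : ∀ x, y * x = x * y := fun x => hι (by rw [map_mul, map_mul, h])
  exact (cen_M y (k _) (k _) (k _)).imp (fun e => by rw [e, map_one]) fun e => by rw [e]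

theorem cen_eq (hι : Function.Injective ι) (h2 : IsPGroup 2 S) (hr : SR 4 (⊤ : Subgroup S))
    (h : ∀ x, ι x * g = g * ι x) : g = 1 ∨ g = ι z := by
  refine cen_range hι ?_ h
  by_contra hn
  obtain ⟨n, h1, h3⟩ := ex_sq h2 _ hn
  have c1 : ∀ x, ι x * g ^ n = g ^ n * ι x := fun x => (Commute.pow_right (h x) n).eq
  refine h1 (key hι hr false false false (fun x => by rw [sg_zero, ← c1]; group) ?_)
  rcases cen_range hι h3 (fun x => by rw [← mul_assoc, c1, mul_assoc, c1, mul_assoc]) with e | e <;> rw [e]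
  · exact one_mem _
  · exact ⟨z, by change inZ z; decide, rfl⟩

theorem cen_gen (h1 : ι a * g = g * ι a) (h2 : ι b * g = g * ι b) (h3 : ι c * g = g * ι c) (x : M) : ι x * g = g * ι x := by
  have e : ι x = ((MulAut.conj g).toMonoidHom.comp ι) x := by
    have k : ∀ y, ι y * g = g * ι y → ((MulAut.conj g).toMonoidHom.comp ι) y = ι y := fun y h => by
      change g * ι y * g⁻¹ = _
      rw [← h]; group
    rw [hom_eq ι, hom_eq ((MulAut.conj g).toMonoidHom.comp ι), k _ h1, k _ h2, k _ h3]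
  have : ι x = g * ι x * g⁻¹ := e
  conv_lhs => rw [this]
  group

/-- the action of the normaliser on the model -/
noncomputable def act (hι : Function.Injective ι) : normalizer (ι.range : Set S) →* MulAut M :=
  (MulAut.congr (ι.ofInjective hι).symm).toMonoidHom.comp ι.range.normalizerMonoidHom

theorem act_spec (hι : Function.Injective ι) (n : normalizer (ι.range : Set S)) (x : M) :
    ι (act hι n x) = n * ι x * (n : S)⁻¹ := by
  have : ∀ y : ι.range, ι ((ι.ofInjective hι).symm y) = y := fun y => MonoidHom.apply_ofInjective_symm hι y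
  exact (this _).trans rfl

theorem cases_nrm (hι : Function.Injective ι) (h2 : IsPGroup 2 S) (hr : SR 4 (⊤ : Subgroup S))
    (hg : g ∈ normalizer (ι.range : Set S)) (hn : g ∉ ι.range) :
    ∃ (m : M) (i j k : Bool), ∀ x, (ι m * g) * ι x * (ι m * g)⁻¹ = ι (ta i j k x) := by
  obtain ⟨m, i, j, k, h⟩ := cls (act hι ⟨g, hg⟩)
  have e : ∀ x, (ι m * g) * ι x * (ι m * g)⁻¹ = ι (m * act hι ⟨g, hg⟩ x * m⁻¹) := fun x => by
    rw [map_mul, map_mul, act_spec, map_inv]; group
  rcases h with h | h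
  · exfalso
    have e1 : ∀ x, (ι m * g) * ι x * (ι m * g)⁻¹ = ι (sg i j k x) := fun x => by rw [e, h]
    have e2 : ∀ x, sg i j k (sg i j k x) = x → ι x * (ι m * g * (ι m * g)) = ι m * g * (ι m * g) * ι x := fun x hx => by
      have := e1 (sg i j k x)
      rw [hx, ← e1] at this
      conv_lhs => rw [← this]
      group
    obtain ⟨s1, s2, s3⟩ := sg_sq i j k
    have := key hι hr i j k e1 (by
      rcases cen_eq hι h2 hr (cen_gen (e2 _ s1) (e2 _ s2) (e2 _ s3)) with e | e <;> rw [e]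
      · exact one_mem _
      · exact ⟨z, by change inZ z; decide, rfl⟩)
    exact hn ((mul_mem_cancel_left (show ι m ∈ ι.range from ⟨m, rfl⟩)).1 this)
  · exact ⟨m, i, j, k, fun x => by rw [e, h]⟩

theorem cj_form (hι : Function.Injective ι) (h2 : IsPGroup 2 S) (hr : SR 4 (⊤ : Subgroup S))
    (hg : g ∈ normalizer (ι.range : Set S)) (hn : g ∉ ι.range) :
    ∃ (m : M) (i j k : Bool), ∀ x, g * ι x * g⁻¹ = ι (m * ta i j k x * m⁻¹) := by
  obtain ⟨m, i, j, k, h⟩ := cases_nrm hι h2 hr hg hn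
  exact ⟨m⁻¹, i, j, k, fun x => by rw [map_mul, map_mul, ← h, inv_inv, map_inv]; group⟩

theorem mul_mem_range (hι : Function.Injective ι) (h2 : IsPGroup 2 S) (hr : SR 4 (⊤ : Subgroup S)) {g' : S}
    (hg : g ∈ normalizer (ι.range : Set S)) (hn : g ∉ ι.range) (hg' : g' ∈ normalizer (ι.range : Set S)) (hn' : g' ∉ ι.range) :
    g * g' ∈ ι.range := by
  by_contra h
  obtain ⟨m, i, j, k, e⟩ := cj_form hι h2 hr hg hn
  obtain ⟨m', i', j', k', e'⟩ := cj_form hι h2 hr hg' hn'
  obtain ⟨m2, i2, j2, k2, e2⟩ := cj_form hι h2 hr (mul_mem hg hg') h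
  have a1 : in2 (m' * ta i' j' k' a * m'⁻¹) := (cj_in _).2 ((ta_in _ _ _ _).1 (by decide)) _
  have a2 := (cj_in _).1 ((ta_in i j k _).2 a1) m
  have : m2 * ta i2 j2 k2 a * m2⁻¹ = m * ta i j k (m' * ta i' j' k' a * m'⁻¹) * m⁻¹ := hι (by
    rw [← e2, ← e, ← e']; group)
  exact cj_b i2 j2 k2 m2 (this ▸ a2)

theorem ex_nrm (h2 : IsPGroup 2 S) {P K : Subgroup S} (h : P < K) : ∃ g ∈ K, g ∈ normalizer (P : Set S) ∧ g ∉ P := by
  haveI : Fact (Nat.Prime 2) := ⟨Nat.prime_two⟩
  haveI := (h2.to_subgroup K).isNilpotent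
  have := Group.normalizerCondition_of_isNilpotent (G := K) (P.subgroupOf K) (by
    rw [lt_top_iff_ne_top, Ne, subgroupOf_eq_top]; exact h.not_ge)
  obtain ⟨x, hx, hx'⟩ := SetLike.exists_of_lt this
  refine ⟨x, x.2, mem_normalizer_fintype fun n hn => ?_, hx'⟩
  exact (hx ⟨n, h.le hn⟩).1 hn

end Cfsg.Agent.H20.Wr
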