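import Cfsg.Agent.H20.Wr2

/-! The normaliser of the wreath product modulo the centre. -/

set_option autoImplicit false
set_option linter.unusedSectionVars false
set_option linter.unusedVariables false

namespace Cfsg.Agent.H20.Wr

open Cfsg Subgroup Cfsg.Agent.FT Cfsg.Agent.GO

/-- the polycyclic generators -/
def gw {G : Type*} [Monoid G] (A B C : G) : ℕ → G := fun i =>
  [A * B * A * B * C * (A * B * A * B * C), A * B * A * B, A * C * A * C, A, B * C * B * C, B, C].getD i 1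

theorem map_gw {G H : Type*} [Monoid G] [Monoid H] (φ : G →* H) (A B C : G) (i : ℕ) :
    φ (gw A B C i) = gw (φ A) (φ B) (φ C) i := by
  rcases i with _ | _ | _ | _ | _ | _ | _ | i <;> simp [gw]

theorem relM : P8.cS.rel (gw a b c) := by decide +kernel

def inn (m : M) : Function.End M := fun x => m * x * m⁻¹
def out (i k : Bool) : Function.End M := fun x => m0 * ta i i k x * m0⁻¹

abbrev RR (f g : Function.End M) : Prop := f a = g a ∧ f b = g b ∧ f c = g c

theorem relN : ∀ i k : Bool, P8.cS.relR RR (gw (inn c) (out i k) (inn a)) := by decide +kernel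
theorem neN : ∀ i k : Bool, ¬ RR (gw (inn c) (out i k) (inn a) 0) 1 := by decide +kernel

theorem iso_syl {G : Type*} [Group G] [Finite G] (hG : Nat.card G = 128) (f : ℕ → G) (h : P8.cS.rel f) (h0 : f 0 ≠ 1)
    (T : Sylow 2 (Equiv.Perm (Fin 8))) : Nonempty (G ≃* T) := by
  obtain ⟨c, φ, hφ⟩ := P8.cS.exists_inj P8.okS P8.relS h P8.nS (k := 7) (by decide) (by decide) P8.zS h0
  obtain ⟨e1⟩ := sylow_of_inj (subtype_injective _) c T (H10.card_sylow_of_card_eq T (m := 315)
    (by rw [Nat.card_perm]; simp [Nat.factorial]) (by norm_num))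
  exact ⟨(MulEquiv.ofBijective φ (hφ.bijective_of_nat_card_le (by rw [hG, c]; norm_num))).symm.trans e1⟩

universe u

variable {S : Type u} [Group S] [Finite S] {ι : M →* S} {g : S}

theorem rel_two (hι : Function.Injective ι) (h2 : IsPGroup 2 S) (hr : SR 4 (⊤ : Subgroup S)) (hP : ι.range ≠ ⊤) :
    ι.range.relIndex (normalizer (ι.range : Set S)) = 2 := by
  obtain ⟨g, -, hg, hn⟩ := ex_nrm h2 (lt_top_iff_ne_top.2 hP)
  refine relIndex_eq_two_iff.2 ⟨g, hg, fun y hy => ?_⟩
  by_cases e : y ∈ ι.range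
  · exact Or.inr ⟨e, fun h => hn ((mul_mem_cancel_left e).1 h)⟩
  · exact Or.inl ⟨mul_mem_range hι h2 hr hy e hg hn, e⟩

theorem z_ne (hι : Function.Injective ι) : ι z ≠ 1 := fun h =>
  absurd ((map_eq_one_iff _ hι).1 h) (by decide)

theorem mem_center (hι : Function.Injective ι) (h2 : IsPGroup 2 S) (hr : SR 4 (⊤ : Subgroup S)) :
    g ∈ center S ↔ g = 1 ∨ g = ι z := by
  have k : ∀ g ∈ center S, g = 1 ∨ g = ι z := fun g hg => cen_eq hι h2 hr fun x => mem_center_iff.1 hg _
  refine ⟨k g, ?_⟩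
  rintro (rfl | rfl)
  · exact one_mem _
  · haveI : Fact (Nat.Prime 2) := ⟨Nat.prime_two⟩
    haveI : Nontrivial S := ⟨⟨_, _, z_ne hι⟩⟩
    haveI := h2.center_nontrivial
    obtain ⟨y, hy⟩ := exists_ne (1 : center S)
    rcases k y y.2 with e | e
    · exact absurd (Subtype.ext e) hy
    · exact e ▸ y.2

theorem card_center (hι : Function.Injective ι) (h2 : IsPGroup 2 S) (hr : SR 4 (⊤ : Subgroup S)) :
    Nat.card (center S) = 2 :=
  Nat.card_eq_two_iff.2 ⟨1, ⟨ι z, (mem_center hι h2 hr).2 (Or.inr rfl)⟩, fun h => z_ne hι (congrArg Subtype.val h).symm,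
    Set.eq_univ_of_forall fun y => ((mem_center hι h2 hr).1 y.2).imp Subtype.ext Subtype.ext⟩

theorem center_eq (hι : Function.Injective ι) (h2 : IsPGroup 2 S) (hr : SR 4 (⊤ : Subgroup S)) :
    center S = (center ι.range).map ι.range.subtype := by
  ext g
  rw [mem_center hι h2 hr]
  constructor
  · rintro (rfl | rfl)
    · exact one_mem _
    · refine ⟨⟨ι z, z, rfl⟩, mem_center_iff.2 ?_, rfl⟩
      rintro ⟨_, x, rfl⟩
      exact Subtype.ext (by change ι x * ι z = ι z * ι x; rw [← map_mul, ← map_mul, z_cen])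
  · rintro ⟨y, hy, rfl⟩
    exact cen_range hι y.2 fun x => congrArg Subtype.val (mem_center_iff.1 hy ⟨ι x, x, rfl⟩)

theorem quo_iso (hι : Function.Injective ι) (h2 : IsPGroup 2 S) (hr : SR 4 (⊤ : Subgroup S)) (hP : ι.range ≠ ⊤)
    (T : Sylow 2 (Equiv.Perm (Fin 8))) :
    Nonempty (normalizer (ι.range : Set S) ⧸ (center S).subgroupOf (normalizer (ι.range : Set S)) ≃* T) := by
  obtain ⟨g, -, hg, hn⟩ := ex_nrm h2 (lt_top_iff_ne_top.2 hP)
  obtain ⟨m, i, j, k, h⟩ := cases_nrm hι h2 hr hg hn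
  have hin : ∀ x, ι x ∈ normalizer (ι.range : Set S) := fun x => le_normalizer ⟨x, rfl⟩
  have hg' : ι m * g ∈ normalizer (ι.range : Set S) := mul_mem (hin m) hg
  have hn' : ι m * g ∉ ι.range := fun e => hn ((mul_mem_cancel_left (show ι m ∈ ι.range from ⟨m, rfl⟩)).1 e)
  generalize ι m * g = t at h hg' hn'
  obtain ⟨s, hs⟩ := mul_mem_range hι h2 hr hg' hn' hg' hn'
  have e : ∀ x, s * x * s⁻¹ = ta i j k (ta i j k x) := fun x => hι (by
    rw [← h, ← h, map_mul, map_mul, map_inv, hs]; group)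
  obtain rfl := ta_sq i j k s (e _) (e _) (e _)
  let Ψ : normalizer (ι.range : Set S) →* Function.End M := MulAction.toEndHom.comp (act hι)
  have hΨ : ∀ n x, ι (Ψ n x) = n * ι x * (n : S)⁻¹ := act_spec hι
  have e1 : ∀ y, Ψ ⟨ι y, hin y⟩ = inn y := fun y => funext fun x => hι (by rw [hΨ, inn, map_mul, map_mul, map_inv])
  have e2 : Ψ ⟨ι m0 * t, mul_mem (hin _) hg'⟩ = out i k := funext fun x => hι (by
    rw [hΨ, out, map_mul, map_mul, map_inv, ← h]; group)
  have hR : ∀ x y, RR (Ψ x) (Ψ y) ↔ QuotientGroup.mk' ((center S).subgroupOf (normalizer (ι.range : Set S))) x =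
      QuotientGroup.mk' _ y := fun x y => by
    have k1 : ∀ w, Ψ x w = Ψ y w ↔ ι w * ((x : S)⁻¹ * y) = (x : S)⁻¹ * y * ι w := fun w => by
      rw [← hι.eq_iff, hΨ, hΨ]
      constructor
      · intro e
        calc ι w * ((x : S)⁻¹ * y) = (x : S)⁻¹ * (x * ι w * (x : S)⁻¹) * y := by group
          _ = _ := by rw [e]; group
      · intro e
        calc (x : S) * ι w * (x : S)⁻¹ = x * (ι w * ((x : S)⁻¹ * y)) * (y : S)⁻¹ := by group
          _ = _ := by rw [e]; group
    rw [QuotientGroup.mk'_apply, QuotientGroup.mk'_apply, QuotientGroup.eq, mem_subgroupOf]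
    constructor
    · rintro ⟨r1, r2, r3⟩
      exact (mem_center hι h2 hr).2 (cen_eq hι h2 hr (cen_gen ((k1 _).1 r1) ((k1 _).1 r2) ((k1 _).1 r3)))
    · intro hc
      exact ⟨(k1 _).2 (mem_center_iff.1 hc _), (k1 _).2 (mem_center_iff.1 hc _), (k1 _).2 (mem_center_iff.1 hc _)⟩
  let f : ℕ → normalizer (ι.range : Set S) := gw ⟨ι c, hin c⟩ ⟨ι m0 * t, mul_mem (hin _) hg'⟩ ⟨ι a, hin a⟩
  have hf : ∀ n, Ψ (f n) = gw (inn c) (out i k) (inn a) n := fun n => by rw [map_gw, e1, e1, e2]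
  have r := (PCd.relR.of_map (g := f) Ψ (by simp only [hf]; exact relN i k)).map (QuotientGroup.mk' _) fun x y h => (hR x y).1 h
  refine iso_syl ?_ _ r (fun h0 => neN i k ?_) T
  · have c1 := card_eq_card_quotient_mul_card_subgroup ((center S).subgroupOf (normalizer (ι.range : Set S)))
    have c2 := FT.card_mul_relIndex (le_normalizer (H := ι.range))
    rw [rel_two hι h2 hr hP, ← Nat.card_congr (ι.ofInjective hι).toEquiv, card_M] at c2
    rw [Nat.card_congr (subgroupOfEquivOfLe (center_le_normalizer _)).toEquiv, card_center hι h2 hr, ← c2] at c1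
    omega
  · rw [← hf, ← map_one Ψ]
    exact (hR _ _).2 (h0.trans (map_one _).symm)

theorem nrm_eq (hι : Function.Injective ι) (h2 : IsPGroup 2 S) (hr : SR 4 (⊤ : Subgroup S)) (V : Subgroup S)
    (hV : V ≤ ι.range) (hn : ∀ g ∈ ι.range, ∀ v ∈ V, g * v * g⁻¹ ∈ V) (he : IsElementaryAbelian 2 V) (hc : Nat.card V = 16) :
    normalizer (V : Set S) = ι.range := by
  have le : ι.range ≤ normalizer (V : Set S) := fun g hg => mem_normalizer_fintype (hn g hg)
  by_contra hne
  obtain ⟨g, hgV, hg, hg'⟩ := ex_nrm h2 (lt_of_le_of_ne le (Ne.symm hne))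
  obtain ⟨m, i, j, k, h⟩ := cases_nrm hι h2 hr hg hg'
  have q : ∀ v, ι v ∈ V → in1 v ∨ in2 v := fun v hv => q_in v (hι (by rw [map_mul, map_one, ← sq]; exact he.2 _ hv)) fun y =>
    hι (by
      have := hn _ ⟨y, rfl⟩ _ hv
      simp only [map_mul, map_inv]
      exact congrArg Subtype.val (he.1.is_comm.comm (⟨_, hv⟩ : V) ⟨_, this⟩))
  have : V ≤ ZB.map ι := fun x hx => by
    obtain ⟨v, rfl⟩ := hV hx
    refine ⟨v, ta_v i j k v (q v hx) (q _ ?_), rfl⟩
    rw [map_mul, ← h]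
    exact mul_mem hx ((mul_mem (le ⟨m, rfl⟩) hgV _).1 hx)
  have := card_le_of_le this
  rw [card_map_of_injective hι, card_ZB, hc] at this
  omega

theorem ex_model (P : Subgroup S) (T : Sylow 2 (Equiv.Perm (Fin 8))) (e : P ≃* T) :
    ∃ ι : M →* S, Function.Injective ι ∧ ι.range = P := by
  obtain ⟨e1⟩ := iso_syl card_M _ relM (by decide) T
  let e2 := e1.trans e.symm
  refine ⟨P.subtype.comp e2.toMonoidHom, P.subtype_injective.comp e2.injective, ?_⟩
  rw [MonoidHom.range_comp, MonoidHom.range_eq_top.2 e2.surjective, ← MonoidHom.range_eq_map, range_subtype]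

end Cfsg.Agent.H20.Wr
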